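import Groth.Agent.AlgSp.K621.Base
import Groth.Agent.S0116
import Mathlib.AlgebraicGeometry.Noetherian
import Mathlib.RingTheory.Ideal.KrullsHeightTheorem
import Mathlib.AlgebraicGeometry.Morphisms.Etale

/-!
# Étale-local properties: some surjective chart versus every chart
-/

set_option autoImplicit false
universe u
open CategoryTheory CategoryTheory.Limits AlgebraicGeometry Topology TopologicalSpace Opposite
open AlgSp

namespace K621.Charts

open K621.Base

variable {S : Scheme.{u}}

/-- If `P` ascends along étale morphisms and descends along surjective étale morphisms, then it holds for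
one surjective étale chart iff it holds for all étale charts. -/
theorem forall_chart_of_etaleLocally {P : Scheme.{u} → Prop}
    (hasc : ∀ ⦃U V : Scheme.{u}⦄ (f : U ⟶ V), Etale f → P V → P U)
    (hdesc : ∀ ⦃U V : Scheme.{u}⦄ (f : U ⟶ V), Etale f → Surjective f → P U → P V)
    {X : Sp S} (h : EtaleLocally P X) {U : Over S} {a : (yon S).obj U ⟶ X} (ha : RepWith @Etale a) :
    P U.left := by
  obtain ⟨V, b, hb1, hb2, hV⟩ := h
  obtain ⟨R, p, q, sq, hq⟩ := exists_pullback_of_repWith ha b
  have hp : Etale p.left := hb1.2 _ _ _ sq.flip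
  have hp' : Surjective p.left := hb2.2 _ _ _ sq.flip
  exact hdesc p.left hp hp' (hasc q.left hq hV)

theorem etaleLocally_of_forall_chart {P : Scheme.{u} → Prop} {X : Sp S} (hX : IsAlgSpace X)
    (h : ∀ (U : Over S) (a : (yon S).obj U ⟶ X), RepWith @Etale a → P U.left) : EtaleLocally P X := by
  obtain ⟨U, a, h1, h2⟩ := hX.atlas
  exact ⟨U, a, h1, h2, h U a h1⟩

/-- Every étale chart of a locally Noetherian algebraic space is locally Noetherian. -/
theorem isLocallyNoetherian_chart {X : Sp S} (h : IsLocNoethSp X) {U : Over S}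
    {a : (yon S).obj U ⟶ X} (ha : RepWith @Etale a) : IsLocallyNoetherian U.left := by
  refine forall_chart_of_etaleLocally (P := IsLocallyNoetherian) ?_ ?_ h ha
  · intro U V f hf hV
    exact LocallyOfFiniteType.isLocallyNoetherian f
  · intro U V f hf hf' hU
    exact Groth.Agent.S0116.result f

theorem ringKrullDim_stalk_lt_top {X : Scheme.{u}} [IsLocallyNoetherian X] (x : X) :
    Order.coheight x < ⊤ := by
  have h := ringKrullDim_stalk_eq_coheight x
  have h2 : ringKrullDim (X.presheaf.stalk x) < ⊤ := ringKrullDim_lt_top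
  rw [h] at h2
  exact WithBot.coe_lt_coe.1 h2

end K621.Charts
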