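import Groth.Prelude.Def_AlgSpDec
import Mathlib.AlgebraicGeometry.Morphisms.Etale
import Mathlib.CategoryTheory.Limits.Types.Pullbacks

/-!
# Basic facts on points and étale charts of algebraic spaces
-/

set_option autoImplicit false
universe u
open CategoryTheory CategoryTheory.Limits AlgebraicGeometry Topology TopologicalSpace Opposite
open AlgSp

namespace K621.Base

variable {S : Scheme.{u}}

/-- Two maps from schemes to an algebraic space have a fibre product which is a scheme. -/
theorem exists_pullback {X : Sp S} (hX : IsAlgSpace X) {U V : Over S} (a : (yon S).obj U ⟶ X)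
    (b : (yon S).obj V ⟶ X) :
    ∃ (R : Over S) (p : R ⟶ U) (q : R ⟶ V), IsPullback ((yon S).map p) ((yon S).map q) a b := by
  have h := hX.representable_from_yon a
  exact ⟨_, _, _, h.isPullback' b⟩

theorem exists_pullback_of_repWith {P : MorphismProperty Scheme.{u}} {X : Sp S} {U V : Over S}
    {a : (yon S).obj U ⟶ X} (ha : RepWith P a)
    (b : (yon S).obj V ⟶ X) :
    ∃ (R : Over S) (p : R ⟶ U) (q : R ⟶ V), IsPullback ((yon S).map p) ((yon S).map q) a b ∧
      P q.left := by
  have h := ha.1
  exact ⟨_, _, _, h.isPullback' b, ha.2 _ _ _ (h.isPullback' b)⟩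

theorem ofPt_comp {X : Sp S} {U V : Over S} (p : U ⟶ V) (a : (yon S).obj V ⟶ X) (u : ↥U.left) :
    Points.ofPt ((yon S).map p ≫ a) u = Points.ofPt a (p.left u) := by
  have h1 : Points.ofPt ((yon S).map p) u = Points.ofScheme V (p.left u) := by
    rw [← Points.toScheme_ofPt p u, Points.ofScheme_toScheme]
  rw [← Points.map_ofPt, h1, ← Points.ofPt_eq_map_ofScheme]

theorem map_ofScheme {U V : Over S} (p : U ⟶ V) (u : ↥U.left) :
    Points.map ((yon S).map p) (Points.ofScheme U u) = Points.ofScheme V (p.left u) := by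
  rw [Points.map_ofPt, Category.id_comp, ← Points.toScheme_ofPt p u, Points.ofScheme_toScheme]

theorem isPullback_app {P F G H : Sp S} {fst : P ⟶ F} {snd : P ⟶ G} {f : F ⟶ H} {g : G ⟶ H}
    (sq : IsPullback fst snd f g) (T : (Over S)ᵒᵖ) :
    IsPullback (fst.hom.app T) (snd.hom.app T) (f.hom.app T) (g.hom.app T) :=
  (sq.map (sheafToPresheaf _ _)).map ((evaluation _ _).obj T)

/-- Points of a fibre product of sheaves surject onto the fibre product of points. -/
theorem exists_of_isPullback {P F G H : Sp S} {fst : P ⟶ F} {snd : P ⟶ G} {f : F ⟶ H} {g : G ⟶ H}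
    (sq : IsPullback fst snd f g) (x : Points F) (y : Points G)
    (h : Points.map f x = Points.map g y) :
    ∃ z : Points P, Points.map fst z = x ∧ Points.map snd z = y := by
  induction x using Points.ind with
  | h p =>
  induction y using Points.ind with
  | h q =>
  rw [Points.map_mk, Points.map_mk, Points.mk_eq_mk_iff] at h
  obtain ⟨Ω, _, w, α', β', h⟩ := h
  obtain ⟨α, rfl⟩ : ∃ α : Over.mk w ⟶ p.pt, α = α' := ⟨α', rfl⟩
  obtain ⟨β, rfl⟩ : ∃ β : Over.mk w ⟶ q.pt, β = β' := ⟨β', rfl⟩
  change H.obj.map α.op (f.hom.app _ p.val) = H.obj.map β.op (g.hom.app _ q.val) at h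
  rw [← NatTrans.naturality_apply, ← NatTrans.naturality_apply] at h
  obtain ⟨z, hz1, hz2⟩ := Types.exists_of_isPullback (isPullback_app sq (op (Over.mk w)))
    (F.obj.map α.op p.val) (G.obj.map β.op q.val) h
  refine ⟨Points.mk ⟨Ω, w, z⟩, ?_, ?_⟩
  · rw [Points.map_mk, Points.mk_eq_mk_iff]
    refine ⟨Ω, inferInstance, w, 𝟙 _, α, ?_⟩
    exact (Functor.map_id_apply F.obj _ _).trans hz1
  · rw [Points.map_mk, Points.mk_eq_mk_iff]
    refine ⟨Ω, inferInstance, w, 𝟙 _, β, ?_⟩
    exact (Functor.map_id_apply G.obj _ _).trans hz2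

/-- For a fibre product square of schemes over a sheaf, points with the same image come from a point of the
fibre product. -/
theorem exists_point_of_isPullback {X : Sp S} {R U V : Over S} {a : (yon S).obj U ⟶ X}
    {b : (yon S).obj V ⟶ X} {p : R ⟶ U} {q : R ⟶ V}
    (sq : IsPullback ((yon S).map p) ((yon S).map q) a b) (u : ↥U.left) (v : ↥V.left)
    (h : Points.ofPt a u = Points.ofPt b v) : ∃ r : ↥R.left, p.left r = u ∧ q.left r = v := by
  rw [Points.ofPt_eq_map_ofScheme, Points.ofPt_eq_map_ofScheme] at h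
  obtain ⟨z, hz1, hz2⟩ := exists_of_isPullback sq _ _ h
  obtain ⟨r, rfl⟩ := (Points.schemeEquiv R).surjective z
  change Points.map ((yon S).map p) (Points.ofScheme R r) = _ at hz1
  change Points.map ((yon S).map q) (Points.ofScheme R r) = _ at hz2
  rw [map_ofScheme] at hz1 hz2
  exact ⟨r, (Points.schemeEquiv U).injective hz1, (Points.schemeEquiv V).injective hz2⟩

theorem ofPt_eq_of_isPullback {X : Sp S} {R U V : Over S} {a : (yon S).obj U ⟶ X}
    {b : (yon S).obj V ⟶ X} {p : R ⟶ U} {q : R ⟶ V}
    (sq : CommSq ((yon S).map p) ((yon S).map q) a b) (r : ↥R.left) :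
    Points.ofPt a (p.left r) = Points.ofPt b (q.left r) := by
  rw [← ofPt_comp, ← ofPt_comp, sq.w]

/-- Same with `F` a sheaf: points of `h_U ×_G F`. -/
theorem exists_point_of_isPullback' {F G : Sp S} {R U : Over S} {a : (yon S).obj U ⟶ G}
    {f : F ⟶ G} {p : R ⟶ U} {q : (yon S).obj R ⟶ F}
    (sq : IsPullback q ((yon S).map p) f a) (u : ↥U.left) (x : Points F)
    (h : Points.ofPt a u = Points.map f x) : ∃ r : ↥R.left, p.left r = u ∧ Points.ofPt q r = x := by
  rw [Points.ofPt_eq_map_ofScheme] at h
  obtain ⟨z, hz1, hz2⟩ := exists_of_isPullback sq _ _ h.symm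
  obtain ⟨r, rfl⟩ := (Points.schemeEquiv R).surjective z
  change Points.map q (Points.ofScheme R r) = _ at hz1
  change Points.map ((yon S).map p) (Points.ofScheme R r) = _ at hz2
  rw [map_ofScheme] at hz2
  exact ⟨r, (Points.schemeEquiv U).injective hz2, by rw [Points.ofPt_eq_map_ofScheme]; exact hz1⟩

/-- Representable surjective maps from schemes are surjective on points. -/
theorem ofPt_surjective {X : Sp S} {U : Over S} {a : (yon S).obj U ⟶ X} (ha : RepWith @Surjective a) :
    Function.Surjective (Points.ofPt a) := by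
  intro x
  induction x using Points.ind with
  | h p =>
  obtain ⟨R, f, g, sq, hg⟩ := exists_pullback_of_repWith ha p.toHom
  let s : ↥(Spec (CommRingCat.of p.K)) := IsLocalRing.closedPoint p.K
  obtain ⟨r, hr⟩ := hg.surj s
  refine ⟨f.left r, ?_⟩
  rw [ofPt_eq_of_isPullback sq.toCommSq r, hr]
  exact Points.ofPt_toHom p s

/-- Every point of an algebraic space is in the image of a surjective étale chart. -/
theorem exists_chart {X : Sp S} (hX : IsAlgSpace X) (x : Points X) :
    ∃ (U : Over S) (a : (yon S).obj U ⟶ X) (u : ↥U.left), RepWith @Etale a ∧ Points.ofPt a u = x := by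
  obtain ⟨U, a, h1, h2⟩ := hX.atlas
  obtain ⟨u, hu⟩ := ofPt_surjective h2 x
  exact ⟨U, a, u, h1, hu⟩

/-- A representable map from a scheme which is universally open (e.g. étale) is open on points. -/
theorem isOpenMap_ofPt_of {P : MorphismProperty Scheme.{u}}
    (hP : ∀ ⦃X Y : Scheme.{u}⦄ (f : X ⟶ Y), P f → IsOpenMap f) {X : Sp S} {U : Over S}
    {a : (yon S).obj U ⟶ X} (ha : RepWith P a) : IsOpenMap (Points.ofPt a) := by
  intro O hO
  rw [Points.isOpen_iff]
  intro T g
  obtain ⟨R, p, q, sq, hq⟩ := exists_pullback_of_repWith ha g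
  have : Points.ofPt g ⁻¹' (Points.ofPt a '' O) = q.left '' (p.left ⁻¹' O) := by
    ext t
    constructor
    · rintro ⟨u, hu, hut⟩
      obtain ⟨r, hr1, hr2⟩ := exists_point_of_isPullback sq u t hut
      exact ⟨r, by simpa [hr1] using hu, hr2⟩
    · rintro ⟨r, hr, rfl⟩
      exact ⟨p.left r, hr, ofPt_eq_of_isPullback sq.toCommSq r⟩
  rw [this]
  exact hP _ hq _ (hO.preimage p.left.continuous)

theorem isOpenMap_ofPt {X : Sp S} {U : Over S}
    {a : (yon S).obj U ⟶ X} (ha : RepWith @Etale a) : IsOpenMap (Points.ofPt a) :=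
  isOpenMap_ofPt_of (P := @Etale) (fun _ _ f _ => f.isOpenMap) ha

/-- The chart criterion: openness in the space of points can be tested on one surjective étale chart. -/
theorem isOpenQuotientMap_ofPt {X : Sp S} {U : Over S} {a : (yon S).obj U ⟶ X}
    (ha : RepWith @Etale a) (ha' : RepWith @Surjective a) : IsOpenQuotientMap (Points.ofPt a) :=
  ⟨ofPt_surjective ha', Points.continuous_ofPt a, isOpenMap_ofPt ha⟩

theorem repWith_comp {P : MorphismProperty Scheme.{u}} [P.IsStableUnderBaseChange] [P.IsMultiplicative]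
    {F G H : Sp S} {f : F ⟶ G} {g : G ⟶ H} (hf : RepWith P f) (hg : RepWith P g) :
    RepWith P (f ≫ g) :=
  (repWith_isMultiplicative P).comp_mem _ _ hf hg

theorem repWith_etale_comp {F G H : Sp S} {f : F ⟶ G} {g : G ⟶ H} (hf : RepWith @Etale f)
    (hg : RepWith @Etale g) : RepWith @Etale (f ≫ g) := repWith_comp hf hg

theorem repWith_surjective_comp {F G H : Sp S} {f : F ⟶ G} {g : G ⟶ H} (hf : RepWith @Surjective f)
    (hg : RepWith @Surjective g) : RepWith @Surjective (f ≫ g) := repWith_comp hf hg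

theorem repWith_baseChange {P : MorphismProperty Scheme.{u}} {F G F' G' : Sp S} {f : F ⟶ G}
    {g : G' ⟶ G} {g' : F' ⟶ F} {f' : F' ⟶ G'} (sq : IsPullback g' f' f g) (hf : RepWith P f) :
    RepWith P f' :=
  (repWith_isStableUnderBaseChange P).of_isPullback sq hf

theorem repWith_etale_map {U V : Over S} {f : U ⟶ V} (hf : Etale f.left) :
    RepWith @Etale ((yon S).map f) := (repWith_yon_map_iff _ _).2 hf

/-- Restriction of a chart to an open subscheme. -/
def openChart (U : Over S) (W : U.left.Opens) : Over S := Over.mk (W.ι ≫ U.hom)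

/-- The inclusion of an open subscheme, over the base. -/
def openChartι (U : Over S) (W : U.left.Opens) : openChart U W ⟶ U := Over.homMk W.ι rfl

@[simp] theorem openChartι_left (U : Over S) (W : U.left.Opens) : (openChartι U W).left = W.ι := rfl

theorem repWith_openChart {X : Sp S} {U : Over S} {a : (yon S).obj U ⟶ X} (ha : RepWith @Etale a)
    (W : U.left.Opens) : RepWith @Etale ((yon S).map (openChartι U W) ≫ a) :=
  repWith_etale_comp (repWith_etale_map (show Etale W.ι from inferInstance)) ha

theorem ofPt_openChart {X : Sp S} {U : Over S} (a : (yon S).obj U ⟶ X)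
    (W : U.left.Opens) (w : ↥W) :
    Points.ofPt ((yon S).map (openChartι U W) ≫ a) (show ↥(openChart U W).left from w) =
      Points.ofPt a w.1 := by
  rw [ofPt_comp]
  rfl

/-- Every point has an affine étale chart; moreover the chart can be chosen inside a given one. -/
theorem exists_affine_openChart {U : Over S} (u : ↥U.left) (O : U.left.Opens) (hu : u ∈ O) :
    ∃ W : U.left.Opens, u ∈ W ∧ W ≤ O ∧ IsAffine (openChart U W).left := by
  obtain ⟨_, ⟨W, hW, rfl⟩, huW, hWO⟩ := U.left.isBasis_affineOpens.exists_subset_of_mem_open hu O.2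
  exact ⟨W, huW, hWO, hW⟩

end K621.Base
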