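import Mathlib.AlgebraicGeometry.Morphisms.Etale
import Mathlib.AlgebraicGeometry.Morphisms.QuasiFinite
import Mathlib.AlgebraicGeometry.Morphisms.UniversallyOpen
import Mathlib.RingTheory.Unramified.LocalStructure

/-!
# Étale morphisms of schemes: topological facts
-/

set_option autoImplicit false
universe u
open CategoryTheory CategoryTheory.Limits AlgebraicGeometry Topology TopologicalSpace Opposite

namespace K621.SchemeEt

theorem locallyQuasiFinite_of_etale {U X : Scheme.{u}} (f : U ⟶ X) [Etale f] :
    LocallyQuasiFinite f where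
  quasiFinite_appLE {U} hU {V} hV e := by
    have h := HasRingHomProperty.appLE @AlgebraicGeometry.Etale f ‹_› ⟨U, hU⟩ ⟨V, hV⟩ e
    algebraize [(f.appLE U V e).hom]
    exact inferInstanceAs (Algebra.QuasiFinite _ _)

/-- No specialization relations within the fibres of a locally quasi-finite morphism. -/
theorem eq_of_specializes_of_eq {X Y : Scheme.{u}} (g : Y ⟶ X) [LocallyQuasiFinite g] {y y' : Y}
    (h : y ⤳ y') (he : g y = g y') : y = y' := by
  have hd := g.isDiscrete_preimage_singleton (g y')
  have : DiscreteTopology (g ⁻¹' {g y'}) := hd.to_subtype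
  have h1 : (⟨y, he⟩ : g ⁻¹' {g y'}) ⤳ ⟨y', rfl⟩ := (subtype_specializes_iff _ _).2 h
  exact congrArg Subtype.val h1.eq

theorem eq_of_specializes_of_eq_of_etale {X Y : Scheme.{u}} (g : Y ⟶ X) [Etale g] {y y' : Y}
    (h : y ⤳ y') (he : g y = g y') : y = y' :=
  have := locallyQuasiFinite_of_etale g
  eq_of_specializes_of_eq g h he

theorem exists_generization {X Y : Scheme.{u}} (g : Y ⟶ X) [Flat g] {y : Y} {x : X} (h : x ⤳ g y) :
    ∃ y' : Y, y' ⤳ y ∧ g y' = x := by
  obtain ⟨y', h1, h2⟩ := Flat.generalizingMap g h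
  exact ⟨y', h1, h2⟩

/-- A scheme étale over a field is discrete. -/
theorem discreteTopology_of_etale_field (k : Type u) [Field k] (U : Scheme.{u}) (φ : U ⟶ Spec (CommRingCat.of k))
    [AlgebraicGeometry.Etale φ] : DiscreteTopology U := by
  have : LocallyQuasiFinite φ := locallyQuasiFinite_of_etale φ
  have h := φ.isDiscrete_preimage_singleton (default : Spec (CommRingCat.of k))
  have h2 : φ ⁻¹' {(default : Spec (CommRingCat.of k))} = Set.univ := by
    ext x
    simp [Subsingleton.elim (φ x) default]
  rw [h2] at h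
  exact isDiscrete_univ_iff.mp h

end K621.SchemeEt
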