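import Groth.Agent.AlgSp.K621.Base
import Groth.Agent.AlgSp.K621.SchemeEt

/-!
# Decent algebraic spaces: fibres of étale charts, lifting generalizations

Main results (`X` a sheaf; `IsAlgSpace X` where needed):
* `FinFibres X x`: fibres over `x` of affine étale charts are finite; `FinFibres.of_qcPoint`;
* `eq_of_specializes`: no specializations in the fibre over `x` of an étale chart if `FinFibres X x`;
* `exists_generization_lift`: generalizations lift along étale charts over `x'` with `FinFibres X x'`;
* `t0Space`, `closure_preimage` ...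
-/

set_option autoImplicit false
universe u
open CategoryTheory CategoryTheory.Limits AlgebraicGeometry Topology TopologicalSpace Opposite
open AlgSp

namespace K621.Decent

open K621.Base K621.SchemeEt

variable {S : Scheme.{u}}

/-- `x` is represented by a quasi-compact morphism from the spectrum of a field. -/
def QCPoint (X : Sp S) (x : Points X) : Prop :=
  ∃ p : FieldPt X, Points.mk p = x ∧ RepWith @QuasiCompact p.toHom

/-- `x` is represented by a quasi-compact monomorphism from the spectrum of a field. -/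
def QCMonoPoint (X : Sp S) (x : Points X) : Prop :=
  ∃ p : FieldPt X, Points.mk p = x ∧ Mono p.toHom ∧ RepWith @QuasiCompact p.toHom

/-- The fibre over `x` of every affine étale chart is finite. -/
def FinFibres (X : Sp S) (x : Points X) : Prop :=
  ∀ (V : Over S) (b : (yon S).obj V ⟶ X), IsAffine V.left → RepWith @Etale b →
      (Points.ofPt b ⁻¹' {x}).Finite

theorem QCMonoPoint.qcPoint {X : Sp S} {x : Points X} (h : QCMonoPoint X x) : QCPoint X x := by
  obtain ⟨p, h1, _, h2⟩ := h
  exact ⟨p, h1, h2⟩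

theorem isDecent_iff {X : Sp S} : IsDecent X ↔ ∀ x, QCMonoPoint X x := Iff.rfl

theorem qcPoint_of_isDecent {X : Sp S} (hd : IsDecent X) (x : Points X) : QCPoint X x := by
  obtain ⟨p, h1, _, h2⟩ := hd x
  exact ⟨p, h1, h2⟩

/-- (D1) Fibres of étale charts with quasi-compact source over a quasi-compact point are finite. -/
theorem finite_fibre_of_compact {X : Sp S} {x : Points X} (hx : QCPoint X x) {U : Over S}
    [CompactSpace ↥U.left] {a : (yon S).obj U ⟶ X} (ha : RepWith @Etale a) :
    (Points.ofPt a ⁻¹' {x}).Finite := by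
  obtain ⟨p, hp, hqc⟩ := hx
  obtain ⟨R, f, g, sq, hg⟩ := exists_pullback_of_repWith ha p.toHom
  have hf : QuasiCompact f.left := hqc.2 _ _ _ sq.flip
  have : CompactSpace ↥R.left := by
    rw [← isCompact_univ_iff]
    exact QuasiCompact.isCompact_preimage (f := f.left) _ isOpen_univ isCompact_univ
  have hd : DiscreteTopology ↥R.left := discreteTopology_of_etale_field _ _ g.left
  have hfin : Finite ↥R.left := finite_of_compact_of_discrete
  refine (Set.finite_range f.left).subset ?_
  intro u hu
  let s : ↥(Spec (CommRingCat.of p.K)) := IsLocalRing.closedPoint p.K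
  have h1 : Points.ofPt a u = Points.ofPt p.toHom s := by
    rw [Points.ofPt_toHom p s, hp]; exact hu
  obtain ⟨r, hr, _⟩ := exists_point_of_isPullback sq u s h1
  exact ⟨r, hr⟩

theorem QCPoint.finFibres {X : Sp S} {x : Points X} (hx : QCPoint X x) : FinFibres X x := by
  intro V b hV hb
  exact finite_fibre_of_compact hx hb

theorem QCMonoPoint.finFibres {X : Sp S} {x : Points X} (hx : QCMonoPoint X x) : FinFibres X x :=
  hx.qcPoint.finFibres

theorem finFibres_of_isDecent {X : Sp S} (hd : IsDecent X) (x : Points X) : FinFibres X x :=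
  (qcPoint_of_isDecent hd x).finFibres

/-- Fibres of étale charts with quasi-compact source are finite as soon as this holds for affine charts. -/
theorem FinFibres.finite {X : Sp S} {x : Points X} (hx : FinFibres X x) {U : Over S}
    [CompactSpace ↥U.left] {a : (yon S).obj U ⟶ X} (ha : RepWith @Etale a) :
    (Points.ofPt a ⁻¹' {x}).Finite := by
  have h1 : ∀ u : ↥U.left, ∃ W : U.left.Opens, u ∈ W ∧ IsAffine (openChart U W).left := by
    intro u
    obtain ⟨W, h1, -, h2⟩ := exists_affine_openChart u ⊤ trivial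
    exact ⟨W, h1, h2⟩
  choose W hW hWa using h1
  obtain ⟨t, ht⟩ := isCompact_univ.elim_finite_subcover (fun u => (W u : Set ↥U.left))
    (fun u => (W u).2) (fun u _ => Set.mem_iUnion.2 ⟨u, hW u⟩)
  have h2 : Points.ofPt a ⁻¹' {x} ⊆ ⋃ u ∈ t, (openChartι U (W u)).left ''
      (Points.ofPt ((yon S).map (openChartι U (W u)) ≫ a) ⁻¹' {x}) := by
    intro v hv
    obtain ⟨u, hu, hvu⟩ := Set.mem_iUnion₂.1 (ht (Set.mem_univ v))
    exact Set.mem_iUnion₂.2 ⟨u, hu, (⟨v, hvu⟩ : ↥(W u)), (ofPt_openChart a (W u) ⟨v, hvu⟩).trans hv, rfl⟩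
  exact (Set.Finite.biUnion t.finite_toSet
    (fun u _ => (hx _ _ (hWa u) (repWith_openChart ha (W u))).image _)).subset h2

/-- Strict generization. -/
def SGen {Z : Type u} [TopologicalSpace Z] (v w : Z) : Prop := v ⤳ w ∧ v ≠ w

instance {Z : Type u} [TopologicalSpace Z] [T0Space Z] : IsStrictOrder Z (SGen (Z := Z)) :=
    { irrefl := fun v hv => hv.2 rfl
      trans := fun v w z h1 h2 => ⟨h1.1.trans h2.1, fun h3 => h1.2 (by
        subst h3
        exact (h1.1.antisymm h2.1).eq)⟩ }

/-- (D2, general form) If the strict generizations of `u` in its fibre satisfy the descending chain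
condition, then there are none. -/
theorem eq_of_specializes_of_wellFoundedOn {X : Sp S} (hX : IsAlgSpace X) {U : Over S}
    {a : (yon S).obj U ⟶ X} (ha : RepWith @Etale a) {u u' : ↥U.left} (h : u' ⤳ u)
    (he : Points.ofPt a u' = Points.ofPt a u)
    (hwf : {v : ↥U.left | Points.ofPt a v = Points.ofPt a u ∧ v ⤳ u}.WellFoundedOn SGen) :
    u' = u := by
  by_contra hne
  set F : Set ↥U.left := {v : ↥U.left | Points.ofPt a v = Points.ofPt a u ∧ v ⤳ u} with hF
  obtain ⟨R, s, t, sq⟩ := exists_pullback hX a a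
  have hs : Etale s.left := ha.2 _ _ _ sq.flip
  have ht : Etale t.left := ha.2 _ _ _ sq
  let A : Set ↥U.left := {w | w ∈ F ∧ ∃ w1 ∈ F, SGen w w1}
  have hwf' : A.WellFoundedOn SGen := hwf.subset (fun w hw => hw.1)
  have hu'F : u' ∈ F := ⟨he, h⟩
  have huF : u ∈ F := ⟨rfl, specializes_rfl⟩
  obtain ⟨⟨w2, hw2, w1, hw1, h21⟩, -, hmin⟩ :=
    hwf'.has_min Set.univ ⟨⟨u', hu'F, u, huF, h, hne⟩, trivial⟩
  -- a point of `R` over `(w1, w2)`
  obtain ⟨z, hz1, hz2⟩ := exists_point_of_isPullback sq w1 w2 (hw1.1.trans hw2.1.symm)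
  obtain ⟨z', hz', hz'1⟩ := exists_generization s.left (y := z) (x := w2) (by rw [hz1]; exact h21.1)
  have hw3 : t.left z' ⤳ w2 := by rw [← hz2]; exact hz'.map t.left.continuous
  have hw3F : t.left z' ∈ F := by
    refine ⟨?_, hw3.trans hw2.2⟩
    have := ofPt_eq_of_isPullback sq.toCommSq z'
    change Points.ofPt a (t.left z') = _
    rw [← this, hz'1]
    exact hw2.1
  have hw3ne : t.left z' ≠ w2 := by
    intro h3
    have := eq_of_specializes_of_eq_of_etale t.left hz' (h3.trans hz2.symm)
    rw [this, hz1] at hz'1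
    exact h21.2 hz'1.symm
  exact hmin ⟨t.left z', hw3F, w2, hw2, hw3, hw3ne⟩ trivial ⟨hw3, hw3ne⟩

/-- (D2) In the fibre of an étale chart over a point such that affine étale charts have finite fibres
there are no specializations. -/
theorem eq_of_specializes {X : Sp S} (hX : IsAlgSpace X) {U : Over S}
    {a : (yon S).obj U ⟶ X} (ha : RepWith @Etale a) {u u' : ↥U.left} (h : u' ⤳ u)
    (he : Points.ofPt a u' = Points.ofPt a u) (hx : FinFibres X (Points.ofPt a u)) : u' = u := by
  obtain ⟨W, huW, -, hW⟩ := exists_affine_openChart u ⊤ trivial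
  have hfin := (hx _ _ hW (repWith_openChart ha W)).image (openChartι U W).left
  refine eq_of_specializes_of_wellFoundedOn hX ha h he (Set.Finite.wellFoundedOn (hfin.subset ?_))
  intro v hv
  have hvW : v ∈ W := hv.2.mem_open W.2 huW
  exact ⟨(⟨v, hvW⟩ : ↥W), (ofPt_openChart a W ⟨v, hvW⟩).trans hv.1, rfl⟩

/-- (D2', locally Noetherian form) -/
theorem eq_of_specializes_of_coheight {X : Sp S} (hX : IsAlgSpace X) {U : Over S}
    {a : (yon S).obj U ⟶ X} (ha : RepWith @Etale a) {u u' : ↥U.left} (h : u' ⤳ u)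
    (he : Points.ofPt a u' = Points.ofPt a u) (hu : Order.coheight u < ⊤) : u' = u := by
  refine eq_of_specializes_of_wellFoundedOn hX ha h he ?_
  have hwf : WellFounded (InvImage (· < ·) (fun v : ↥U.left => Order.coheight v)) :=
    InvImage.wf _ wellFounded_lt
  rw [Set.wellFoundedOn_iff]
  refine Subrelation.wf (r := InvImage (· < ·) (fun v : ↥U.left => Order.coheight v)) ?_ hwf
  rintro v w ⟨⟨h1, h2⟩, hv, hw⟩
  have hw' : w ≤ v := h1
  have hlt : w < v := lt_iff_le_not_ge.2 ⟨hw', fun h3 => h2 (h1.antisymm h3).eq⟩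
  refine Order.coheight_strictAnti hlt (lt_of_le_of_lt ?_ hu)
  exact Order.coheight_anti (show u ≤ v from hv.2)

/-- (D3) Generalizations lift along étale charts over a point `x'` such that affine étale charts have
finite fibres over `x'`. -/
theorem exists_generization_lift {X : Sp S} {x' : Points X} (hx' : FinFibres X x') {U : Over S}
    {a : (yon S).obj U ⟶ X} (ha : RepWith @Etale a) {u : ↥U.left} (h : x' ⤳ Points.ofPt a u) :
    ∃ u' : ↥U.left, u' ⤳ u ∧ Points.ofPt a u' = x' := by
  obtain ⟨W, huW, -, hW⟩ := exists_affine_openChart u ⊤ trivial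
  have ha' := repWith_openChart ha W
  have hfin := hx' _ _ hW ha'
  set F := Points.ofPt ((yon S).map (openChartι U W) ≫ a) ⁻¹' {x'} with hF
  by_contra hcon
  push Not at hcon
  let w : ↥(openChart U W).left := (⟨u, huW⟩ : ↥W)
  have h1 : Points.ofPt ((yon S).map (openChartι U W) ≫ a) w = Points.ofPt a u := ofPt_openChart a W ⟨u, huW⟩
  have h2 : ∀ v ∈ F, ∃ N : Set ↥(openChart U W).left, IsOpen N ∧ w ∈ N ∧ v ∉ N := by
    intro v hv
    have : ¬ v ⤳ w := by
      intro hvw
      refine hcon ((openChartι U W).left v) ?_ ?_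
      · exact hvw.map (openChartι U W).left.continuous
      · rw [← ofPt_comp]; exact hv
    rw [specializes_iff_forall_open] at this
    push Not at this
    obtain ⟨N, hN, hw, hv⟩ := this
    exact ⟨N, hN, hw, hv⟩
  choose! N hN hwN hvN using h2
  let O : Set ↥(openChart U W).left := ⋂ v ∈ F, N v
  have hO : IsOpen O := hfin.isOpen_biInter (fun v hv => hN v hv)
  have hwO : w ∈ O := Set.mem_iInter₂.2 (fun v hv => hwN v hv)
  have hO' := isOpenMap_ofPt ha' O hO
  have hx : x' ∈ Points.ofPt ((yon S).map (openChartι U W) ≫ a) '' O := by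
    refine h.mem_open hO' ⟨w, hwO, h1⟩
  obtain ⟨v, hvO, hv⟩ := hx
  exact hvN v hv (Set.mem_iInter₂.1 hvO v hv)

/-- (D4) A decent algebraic space has a T0 space of points. -/
theorem t0Space_of_finFibres {X : Sp S} (hX : IsAlgSpace X) (hd : ∀ x, FinFibres X x) :
    T0Space (Points X) := by
  constructor
  intro x y hxy
  obtain ⟨U, a, u, ha, rfl⟩ := exists_chart hX x
  obtain ⟨u1, h1, rfl⟩ := exists_generization_lift (hd y) ha hxy.symm.specializes
  obtain ⟨u2, h2, h2'⟩ := exists_generization_lift (hd (Points.ofPt a u)) ha hxy.specializes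
  have h3 := eq_of_specializes hX ha (h2.trans h1) h2' (hd _)
  subst h3
  rw [(h1.antisymm h2).eq]

theorem t0Space {X : Sp S} (hX : IsAlgSpace X) (hd : IsDecent X) : T0Space (Points X) :=
  t0Space_of_finFibres hX (finFibres_of_isDecent hd)

/-- The preimage in an étale chart of the closure of a point with finite fibres: the generizations. -/
theorem specializes_ofPt_iff {X : Sp S} {x' : Points X} (hx' : FinFibres X x') {U : Over S}
    {a : (yon S).obj U ⟶ X} (ha : RepWith @Etale a) {u : ↥U.left} :
    x' ⤳ Points.ofPt a u ↔ ∃ u' : ↥U.left, u' ⤳ u ∧ Points.ofPt a u' = x' := by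
  refine ⟨exists_generization_lift hx' ha, ?_⟩
  rintro ⟨u', h, rfl⟩
  exact h.map (Points.continuous_ofPt a)

end K621.Decent
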