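import Groth.Prelude.Def_CohB1
import Groth.Prelude.Def_BlowUp2

/-!
# Contraction of a curve with ample conormal sheaf (S14992): common notation

Author: helper621
-/

set_option autoImplicit false
universe u
open CategoryTheory CategoryTheory.Limits AlgebraicGeometry

namespace K621.ContrDefs

/-- the ideal `(X₀, X₁)` of `k[X₀, X₁]` -/
noncomputable def mm (k : Type u) [Field k] : Ideal (MvPolynomial (Fin 2) k) :=
  Ideal.span (Set.range MvPolynomial.X)

/-- powers of an ideal sheaf decrease -/
theorem pow_anti {X : Scheme.{u}} (D : X.IdealSheafData) {a b : ℕ} (h : a ≤ b) : D ^ b ≤ D ^ a := by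
  intro U
  exact Ideal.pow_le_pow_right h

end K621.ContrDefs
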