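import Groth.Agent.AlgSp.K621.Decent
import Groth.Prelude.Def_AlgSp3
import Mathlib.AlgebraicGeometry.Morphisms.Finite

/-!
# Finite morphisms of decent spaces: lifting specializations, discrete fibres
-/

set_option autoImplicit false
universe u
open CategoryTheory CategoryTheory.Limits AlgebraicGeometry Topology TopologicalSpace Opposite
open AlgSp

namespace K621.FiniteMor

open K621.Base K621.SchemeEt K621.Decent

variable {S : Scheme.{u}}

/-- A point of an algebraic space has an affine étale chart. -/
theorem exists_affine_chart {X : Sp S} (hX : IsAlgSpace X) (x : Points X) :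
    ∃ (U : Over S) (a : (yon S).obj U ⟶ X) (u : ↥U.left), IsAffine U.left ∧ RepWith @Etale a ∧
      Points.ofPt a u = x := by
  obtain ⟨U, a, u, ha, rfl⟩ := exists_chart hX x
  obtain ⟨W, huW, -, hW⟩ := exists_affine_openChart u ⊤ trivial
  exact ⟨openChart U W, (yon S).map (openChartι U W) ≫ a, (⟨u, huW⟩ : ↥W), hW,
    repWith_openChart ha W, ofPt_openChart a W ⟨u, huW⟩⟩

/-- Specializations lift along finite morphisms to decent spaces. -/
theorem exists_specialization_lift {X Y : Sp S} (hX : IsAlgSpace X) {f : Y ⟶ X} (hf : IsFiniteMor f)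
    {y : Points Y} {b : Points X} (hd : FinFibres X (Points.map f y)) (h : Points.map f y ⤳ b) :
    ∃ y' : Points Y, y ⤳ y' ∧ Points.map f y' = b := by
  obtain ⟨U, a, u, hU, ha, rfl⟩ := exists_affine_chart hX b
  obtain ⟨u', hu', hu'1⟩ := exists_generization_lift hd ha h
  obtain ⟨W, i, p, sq, hW, hi⟩ := hf hU a
  obtain ⟨w', hw'1, hw'2⟩ := exists_point_of_isPullback' sq u' y hu'1
  have hs : SpecializingMap i.left := (i.left.isClosedMap).specializingMap
  obtain ⟨w, hw, hw1⟩ := hs (show i.left w' ⤳ u by rw [hw'1]; exact hu')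
  refine ⟨Points.ofPt p w, ?_, ?_⟩
  · rw [← hw'2]
    exact hw.map (Points.continuous_ofPt p)
  · rw [Points.map_ofPt, sq.w, ofPt_comp, hw1]

/-- No specializations in the fibres of a finite morphism of decent spaces. -/
theorem eq_of_specializes {X Y : Sp S} (hX : IsAlgSpace X) {f : Y ⟶ X} (hf : IsFiniteMor f)
    {y y' : Points Y} (hdX : FinFibres X (Points.map f y)) (hdY : FinFibres Y y')
    (h : y' ⤳ y) (he : Points.map f y' = Points.map f y) : y' = y := by
  obtain ⟨U, a, u, hU, ha, hu⟩ := exists_affine_chart hX (Points.map f y)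
  obtain ⟨W, i, p, sq, hW, hi⟩ := hf hU a
  have hp : RepWith @Etale p := repWith_baseChange sq.flip ha
  obtain ⟨w, hw1, hw2⟩ := exists_point_of_isPullback' sq u y hu
  subst hw2
  obtain ⟨w', hw', hw'1⟩ := exists_generization_lift hdY hp h
  have h1 : Points.ofPt a (i.left w') = Points.ofPt a (i.left w) := by
    rw [← ofPt_comp, ← ofPt_comp, ← sq.w, ← Points.map_ofPt, ← Points.map_ofPt, hw'1, he]
  have h2 : i.left w' = i.left w := by
    refine Decent.eq_of_specializes hX ha (hw'.map i.left.continuous) h1 ?_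
    rw [hw1, hu]
    exact hdX
  have h3 := SchemeEt.eq_of_specializes_of_eq i.left hw' h2
  rw [← hw'1, h3]

end K621.FiniteMor
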