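import Groth.Agent.AlgSp.K621.Decent
import Groth.Agent.AlgSp.K621.FiniteMor
import Groth.Prelude.Def_AlgSp3
import Mathlib.AlgebraicGeometry.Properties

/-!
# Generic points and codimension zero points of decent algebraic spaces
-/

set_option autoImplicit false
universe u
open CategoryTheory CategoryTheory.Limits AlgebraicGeometry Topology TopologicalSpace Opposite
open AlgSp

namespace K621.Generic

open K621.Base K621.SchemeEt K621.Decent

variable {S : Scheme.{u}}

section Top

variable {P : Type*} [TopologicalSpace P]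

theorem specializes_of_isGenericPoint_component {x : P} {T : Set P} (hT : T ∈ irreducibleComponents P)
    (hx : IsGenericPoint x T) {y : P} (h : y ⤳ x) : x ⤳ y := by
  have h1 : T ⊆ closure {y} := by
    rw [← hx.def]
    exact closure_minimal (Set.singleton_subset_iff.2 (specializes_iff_mem_closure.1 h)) isClosed_closure
  have h2 := hT.2 (isIrreducible_singleton.closure : IsIrreducible (closure {y})) h1
  have h3 : y ∈ T := h2 (subset_closure rfl)
  rw [← hx.def] at h3
  exact specializes_iff_mem_closure.2 h3

theorem exists_component_iff [QuasiSober P] {x : P} :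
    (∃ T ∈ irreducibleComponents P, IsGenericPoint x T) ↔ ∀ y, y ⤳ x → x ⤳ y := by
  constructor
  · rintro ⟨T, hT, hx⟩ y hy
    exact specializes_of_isGenericPoint_component hT hx hy
  · intro h
    refine ⟨closure {x}, ⟨isIrreducible_singleton.closure, ?_⟩, rfl⟩
    intro s hs hxs
    obtain ⟨y, hy⟩ := QuasiSober.sober hs.closure isClosed_closure
    have h1 : y ⤳ x := by
      rw [specializes_iff_mem_closure, hy.def]
      exact subset_closure (hxs (subset_closure rfl))
    have h2 := h y h1
    refine subset_closure.trans ?_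
    rw [← hy.def]
    exact closure_minimal (Set.singleton_subset_iff.2 (specializes_iff_mem_closure.1 h2)) isClosed_closure

end Top

/-- Codimension zero points of schemes: no proper generizations. -/
theorem ringKrullDim_stalk_eq_zero_iff {U : Scheme.{u}} (x : U) :
    ringKrullDim (U.presheaf.stalk x) = 0 ↔ ∀ y : U, y ⤳ x → y = x := by
  rw [ringKrullDim_stalk_eq_coheight]
  have h1 : ((Order.coheight x : ℕ∞) : WithBot ℕ∞) = 0 ↔ Order.coheight x = 0 := by
    rw [← WithBot.coe_zero, WithBot.coe_inj]
  rw [h1, Order.coheight_eq_zero]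
  constructor
  · intro h y hy
    exact (hy.antisymm (h hy)).eq
  · intro h y hy
    rw [h y hy]

/-- `x` is a codimension zero point. -/
abbrev CodimZero (X : Sp S) (x : Points X) : Prop :=
  HasAt (fun U u => ringKrullDim ↥(U.presheaf.stalk u) = 0) X x

/-- Codimension zero can be tested on any chart. -/
theorem CodimZero.chart {X : Sp S} (hX : IsAlgSpace X) {V : Over S} {b : (yon S).obj V ⟶ X}
    (hb : RepWith @Etale b) {v : ↥V.left} (h : CodimZero X (Points.ofPt b v)) {v' : ↥V.left}
    (hv : v' ⤳ v) : v' = v := by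
  obtain ⟨U, a, u, ha, hu, h⟩ := h
  rw [ringKrullDim_stalk_eq_zero_iff] at h
  obtain ⟨R, p, q, sq⟩ := exists_pullback hX a b
  have hq : Etale q.left := ha.2 _ _ _ sq
  have hp : Etale p.left := hb.2 _ _ _ sq.flip
  obtain ⟨r, hr1, hr2⟩ := exists_point_of_isPullback sq u v hu
  subst hr2
  obtain ⟨r', hr', rfl⟩ := exists_generization q.left hv
  have h1 : p.left r' = p.left r := by
    rw [hr1]
    refine h _ ?_
    rw [← hr1]
    exact hr'.map p.left.continuous
  rw [eq_of_specializes_of_eq_of_etale p.left hr' h1]

theorem codimZero_iff {X : Sp S} (hX : IsAlgSpace X) {V : Over S} {b : (yon S).obj V ⟶ X}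
    (hb : RepWith @Etale b) {v : ↥V.left} :
    CodimZero X (Points.ofPt b v) ↔ ∀ v' : ↥V.left, v' ⤳ v → v' = v := by
  refine ⟨fun h v' hv => h.chart hX hb hv, fun h => ⟨V, b, v, hb, rfl, ?_⟩⟩
  exact (ringKrullDim_stalk_eq_zero_iff v).2 h

/-- Codimension zero points have no proper generizations which are decent points. -/
theorem CodimZero.eq_of_specializes {X : Sp S} (hX : IsAlgSpace X) {x x' : Points X}
    (hx : CodimZero X x) (hd : FinFibres X x') (h : x' ⤳ x) : x' = x := by
  obtain ⟨V, b, v, hb, rfl⟩ := exists_chart hX x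
  obtain ⟨v', hv', rfl⟩ := exists_generization_lift hd hb h
  rw [hx.chart hX hb hv']

/-- Generic points of irreducible components of decent spaces are of codimension zero. -/
theorem codimZero_of_isGenericPoint {X : Sp S} (hX : IsAlgSpace X) (hd : ∀ x, FinFibres X x)
    {x : Points X} {T : Set (Points X)} (hT : T ∈ irreducibleComponents (Points X))
    (hx : IsGenericPoint x T) : CodimZero X x := by
  obtain ⟨V, b, v, hb, rfl⟩ := exists_chart hX x
  rw [codimZero_iff hX hb]
  intro v' hv'
  have h1 : Points.ofPt b v' ⤳ Points.ofPt b v := hv'.map (Points.continuous_ofPt b)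
  have h2 := specializes_of_isGenericPoint_component hT hx h1
  have := t0Space_of_finFibres hX hd
  exact Decent.eq_of_specializes hX hb hv' (h1.antisymm h2).eq (hd _)

theorem exists_component_iff_codimZero {X : Sp S} (hX : IsAlgSpace X) (hd : ∀ x, FinFibres X x)
    [QuasiSober (Points X)] {x : Points X} :
    (∃ T ∈ irreducibleComponents (Points X), IsGenericPoint x T) ↔ CodimZero X x := by
  constructor
  · rintro ⟨T, hT, hx⟩
    exact codimZero_of_isGenericPoint hX hd hT hx
  · intro h
    rw [exists_component_iff]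
    intro y hy
    rw [h.eq_of_specializes hX (hd _) hy]

/-- Finiteness of fibres is inherited by spaces étale over `X`. -/
theorem finFibres_of_isEtaleMor {X Y : Sp S} {f : Y ⟶ X} (hf : IsEtaleMor f) {y : Points Y}
    (hx : FinFibres X (Points.map f y)) : FinFibres Y y := by
  intro V b hV hb
  refine (hx V (b ≫ f) hV (hf b hb)).subset ?_
  intro v hv
  change Points.ofPt (b ≫ f) v = _
  rw [← Points.map_ofPt, show Points.ofPt b v = y from hv]

/-- The codimension zero points of `Y` étale over `X`. -/
theorem codimZero_map_iff {X Y : Sp S} (hX : IsAlgSpace X) (hY : IsAlgSpace Y) {f : Y ⟶ X}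
    (hf : IsEtaleMor f) {y : Points Y} : CodimZero X (Points.map f y) ↔ CodimZero Y y := by
  obtain ⟨V, b, v, hb, rfl⟩ := exists_chart hY y
  rw [Points.map_ofPt, codimZero_iff hX (hf b hb), codimZero_iff hY hb]

/-- A codimension zero point of a space étale over a space with finite fibres and sober space of points is
the generic point of an irreducible component. -/
theorem exists_component_of_codimZero_etale {X Y : Sp S} (hX : IsAlgSpace X) (hY : IsAlgSpace Y) {f : Y ⟶ X}
    (hf : IsEtaleMor f) (hd : ∀ x, FinFibres X x) [QuasiSober (Points X)] {y : Points Y}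
    (hy : CodimZero Y y) : ∃ T ∈ irreducibleComponents (Points Y), IsGenericPoint y T := by
  have hx : CodimZero X (Points.map f y) := (codimZero_map_iff hX hY hf).2 hy
  refine ⟨closure {y}, ⟨isIrreducible_singleton.closure, ?_⟩, rfl⟩
  intro T hT hyT
  obtain ⟨ξ, hξ⟩ := QuasiSober.sober
    (hT.image (Points.map f) (Points.continuous_map f).continuousOn).closure isClosed_closure
  have h1 : ξ = Points.map f y := by
    refine hx.eq_of_specializes hX (hd _) ?_
    rw [specializes_iff_mem_closure, hξ.def]
    exact subset_closure ⟨y, hyT (subset_closure rfl), rfl⟩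
  subst h1
  have h2 : ∀ t ∈ T, Points.map f y ⤳ Points.map f t := by
    intro t ht
    rw [specializes_iff_mem_closure, hξ.def]
    exact subset_closure ⟨t, ht, rfl⟩
  obtain ⟨V, b, v, hV, hb, rfl⟩ := FiniteMor.exists_affine_chart hY y
  have hbf := hf b hb
  rw [Points.map_ofPt] at h2 hx
  have hfin := hd (Points.ofPt (b ≫ f) v) V (b ≫ f) hV hbf
  set F := Points.ofPt (b ≫ f) ⁻¹' {Points.ofPt (b ≫ f) v} with hF
  let C : Set ↥V.left := ⋃ w ∈ F \ {v}, closure {w}
  have hC : IsClosed C := (hfin.subset Set.sdiff_subset).isClosed_biUnion (fun v _ => isClosed_closure)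
  have hvC : v ∉ C := by
    intro h
    obtain ⟨w, hw, hvw⟩ := Set.mem_iUnion₂.1 h
    exact hw.2 (hx.chart hX hbf (specializes_iff_mem_closure.2 hvw))
  have hO := isOpenMap_ofPt hb _ hC.isOpen_compl
  have h3 : (T ∩ Points.ofPt b '' Cᶜ).Nonempty := ⟨_, hyT (subset_closure rfl), v, hvC, rfl⟩
  have h4 := subset_closure_inter_of_isPreirreducible_of_isOpen hT.isPreirreducible hO h3
  refine h4.trans (closure_minimal ?_ isClosed_closure)
  rintro _ ⟨ht, w, hw, rfl⟩
  rw [← specializes_iff_mem_closure]
  have h5 := h2 _ ht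
  rw [Points.map_ofPt] at h5
  obtain ⟨w', hw', hw'1⟩ := exists_generization_lift (hd _) hbf h5
  have h6 : w' = v := by
    by_contra hne
    exact hw (Set.mem_iUnion₂.2 ⟨w', ⟨hw'1, hne⟩, specializes_iff_mem_closure.1 hw'⟩)
  subst h6
  exact hw'.map (Points.continuous_ofPt b)

/-- The coheight of the closure of the image of a point of an étale chart. -/
theorem coheight_eq {X : Sp S} (hX : IsAlgSpace X) (hd : ∀ x, FinFibres X x) [QuasiSober (Points X)]
    {U : Over S} {a : (yon S).obj U ⟶ X} (ha : RepWith @Etale a) (u : ↥U.left)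
    (T : IrreducibleCloseds (Points X)) (hT : IsGenericPoint (Points.ofPt a u) (T : Set (Points X))) :
    (Order.coheight T : WithBot ℕ∞) = ringKrullDim ↥(U.left.presheaf.stalk u) := by
  have := t0Space_of_finFibres hX hd
  rw [ringKrullDim_stalk_eq_coheight]
  let φ : ↥U.left → IrreducibleCloseds (Points X) := fun v =>
    ⟨closure {Points.ofPt a v}, isIrreducible_singleton.closure, isClosed_closure⟩
  have hφ : ∀ v w : ↥U.left, φ v ≤ φ w ↔ Points.ofPt a w ⤳ Points.ofPt a v := by
    intro v w
    rw [specializes_iff_closure_subset]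
    exact Iff.rfl
  have hφT : φ u = T := by
    ext1
    exact hT.def
  have hmono : StrictMono φ := by
    intro v w hvw
    have h1 : w ⤳ v := hvw.le
    refine lt_of_le_not_ge ((hφ v w).2 (h1.map (Points.continuous_ofPt a))) ?_
    intro h2
    have h3 := (hφ w v).1 h2
    have h4 := ((h1.map (Points.continuous_ofPt a)).antisymm h3).eq
    have h5 := Decent.eq_of_specializes hX ha h1 h4 (hd _)
    rw [h5] at hvw
    exact lt_irrefl _ hvw
  have hlift : ∀ (v : ↥U.left) (T' : IrreducibleCloseds (Points X)), φ v < T' →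
      ∃ w : ↥U.left, v < w ∧ φ w = T' := by
    intro v T' hT'
    obtain ⟨ξ, hξ⟩ := QuasiSober.sober T'.isIrreducible T'.isClosed
    have h1 : ξ ⤳ Points.ofPt a v := by
      rw [specializes_iff_mem_closure, hξ.def]
      exact hT'.le (subset_closure rfl)
    obtain ⟨w, hw, rfl⟩ := exists_generization_lift (hd _) ha h1
    have h2 : φ w = T' := by
      ext1
      exact hξ.def
    refine ⟨w, lt_iff_le_not_ge.2 ⟨hw, fun h3 => ?_⟩, h2⟩
    have h4 := (hw.antisymm h3).eq
    rw [← h2, h4] at hT'
    exact lt_irrefl _ hT'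
  rw [← hφT, Order.coheight_eq_of_strictMono φ hmono hlift u]

end K621.Generic
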