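import Groth.Agent.AlgSp.K621.ContrDefs
import Mathlib.RingTheory.MvPowerSeries.Equiv
import Mathlib.RingTheory.MvPowerSeries.NoZeroDivisors
import Mathlib.RingTheory.MvPolynomial.Homogeneous
import Mathlib.RingTheory.MvPolynomial.Ideal

/-!
# Contraction of a curve (S14992): algebra of the formal functions

Author: helper621
-/

set_option autoImplicit false
universe u

namespace K621.ContrAlg

open MvPolynomial K621.ContrDefs

section Ideals

variable {R : Type u} [CommRing R]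

theorem sup_pow_le (J K : Ideal R) (m : ℕ) : (J ⊔ K) ^ m ≤ J ^ m ⊔ K := by
  induction m with
  | zero => simp
  | succ m ih =>
    calc (J ⊔ K) ^ (m + 1) = (J ⊔ K) ^ m * (J ⊔ K) := pow_succ _ _
      _ ≤ (J ^ m ⊔ K) * (J ⊔ K) := Ideal.mul_mono_left ih
      _ = J ^ m * J ⊔ K * J ⊔ (J ^ m * K ⊔ K * K) := by rw [Ideal.mul_sup, Ideal.sup_mul, Ideal.sup_mul]
      _ ≤ J ^ (m + 1) ⊔ K := by
        rw [← pow_succ]
        exact sup_le (sup_le le_sup_left (Ideal.mul_le_left.trans le_sup_right))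
          (sup_le (Ideal.mul_le_right.trans le_sup_right) (Ideal.mul_le_left.trans le_sup_right))

/-- If `J + I^(n+1) = I^n` then `J + I^M = I^n` for all `M ≥ n`. -/
theorem sup_pow_eq {I J : Ideal R} {n : ℕ} (h : J ⊔ I ^ (n + 1) = I ^ n) {M : ℕ} (hM : n ≤ M) :
    J ⊔ I ^ M = I ^ n := by
  have hJ : J ≤ I ^ n := h ▸ le_sup_left
  refine le_antisymm (sup_le hJ (Ideal.pow_le_pow_right hM)) ?_
  induction M, hM using Nat.le_induction with
  | base => exact le_sup_right
  | succ M hM ih =>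
    refine ih.trans (sup_le le_sup_left ?_)
    calc I ^ M = I ^ (M - n) * I ^ n := by rw [← pow_add, Nat.sub_add_cancel hM]
      _ = I ^ (M - n) * (J ⊔ I ^ (n + 1)) := by rw [h]
      _ = I ^ (M - n) * J ⊔ I ^ (M + 1) := by
        rw [Ideal.mul_sup, ← pow_add]
        congr 2
        omega
      _ ≤ J ⊔ I ^ (M + 1) := sup_le_sup_right Ideal.mul_le_right _

/-- If `J + I^(n+1) = I^n` then `J^m + I^M = I^(nm)` for all `M ≥ nm`. -/
theorem pow_sup_pow_eq {I J : Ideal R} {n : ℕ} (h : J ⊔ I ^ (n + 1) = I ^ n) {m M : ℕ} (hM : n * m ≤ M) :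
    J ^ m ⊔ I ^ M = I ^ (n * m) := by
  have hJ : J ≤ I ^ n := h ▸ le_sup_left
  refine le_antisymm (sup_le ?_ (Ideal.pow_le_pow_right hM)) ?_
  · rw [pow_mul]
    exact Ideal.pow_right_mono hJ m
  · rw [pow_mul, ← sup_pow_eq h (Nat.le_max_right M n)]
    exact (sup_pow_le _ _ _).trans (sup_le_sup_left (Ideal.pow_le_pow_right (Nat.le_max_left M n)) _)

end Ideals

variable (k : Type u) [Field k]

instance isDomain_adicCompletion : IsDomain (AdicCompletion (mm k) (MvPolynomial (Fin 2) k)) := by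
  have h : IsDomain (MvPowerSeries (Fin 2) k) := NoZeroDivisors.to_isDomain _
  exact (MvPowerSeries.toAdicCompletionAlgEquiv (Fin 2) k).symm.toMulEquiv.isDomain _

variable {k}

/-- The lowest homogeneous component. -/
theorem exists_lowest {m : ℕ} {p : MvPolynomial (Fin 2) k} (hp : p ∉ (mm k) ^ m) :
    ∃ (d : ℕ) (G : MvPolynomial (Fin 2) k), d < m ∧ G.IsHomogeneous d ∧ G ≠ 0 ∧ p - G ∈ (mm k) ^ (d + 1) := by
  classical
  have h1 : ∃ d, ∃ x ∈ p.support, Finsupp.degree x = d := by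
    by_contra h
    push Not at h
    apply hp
    refine (mem_pow_idealOfVars_iff m p).mpr fun x hx => (h _ x hx rfl).elim
  obtain ⟨x, hx, hxd⟩ := Nat.find_spec h1
  set d := Nat.find h1 with hd
  have hmin : ∀ y, Finsupp.degree y < d → p.coeff y = 0 := by
    intro y hy
    by_contra hne
    exact Nat.find_min h1 hy ⟨y, mem_support_iff.mpr hne, rfl⟩
  refine ⟨d, homogeneousComponent d p, ?_, homogeneousComponent_isHomogeneous _ _, ?_, ?_⟩
  · by_contra hlt
    push Not at hlt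
    apply hp
    refine (mem_pow_idealOfVars_iff' m p).mpr fun y hy => hmin y (lt_of_lt_of_le hy hlt)
  · intro h0
    have := congrArg (coeff x) h0
    rw [coeff_homogeneousComponent, if_pos hxd, coeff_zero] at this
    exact (mem_support_iff.mp hx) this
  · refine (mem_pow_idealOfVars_iff' _ _).mpr fun y hy => ?_
    rw [coeff_sub, coeff_homogeneousComponent]
    split_ifs with h
    · rw [sub_self]
    · rw [hmin y (by omega), sub_zero]

/-- The image ideal of `(X₀, X₁)`. -/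
theorem map_mm {A : Type u} [CommRing A] (c : k →+* A) (a b : A) :
    (mm k).map (eval₂Hom c ![a, b]) = Ideal.span {a, b} := by
  rw [mm, Ideal.map_span]
  congr 1
  ext z
  constructor
  · rintro ⟨_, ⟨i, rfl⟩, rfl⟩
    fin_cases i <;> simp
  · rintro (rfl | rfl)
    · exact ⟨X 0, ⟨0, rfl⟩, by simp⟩
    · exact ⟨X 1, ⟨1, rfl⟩, by simp⟩

theorem eval₂_mem {A : Type u} [CommRing A] (c : k →+* A) (a b : A) {m : ℕ} {p : MvPolynomial (Fin 2) k}
    (hp : p ∈ (mm k) ^ m) : eval₂Hom c ![a, b] p ∈ Ideal.span {a, b} ^ m := by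
  rw [← map_mm c a b, ← Ideal.map_pow]
  exact Ideal.mem_map_of_mem _ hp

/-- Injectivity from the non-vanishing of forms. -/
theorem mem_of_eval₂_mem {A : Type u} [CommRing A] (c : k →+* A) (a b : A) (I : Ideal A) (n : ℕ) (hn : 0 < n)
    (hI : Ideal.span {a, b} ≤ I ^ n)
    (hG : ∀ (d : ℕ) (G : MvPolynomial (Fin 2) k), G.IsHomogeneous d → G ≠ 0 → eval₂ c ![a, b] G ∉ I ^ (n * d + 1))
    {m : ℕ} {p : MvPolynomial (Fin 2) k} (hp : eval₂Hom c ![a, b] p ∈ I ^ (n * m)) : p ∈ (mm k) ^ m := by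
  by_contra hpm
  obtain ⟨d, G, hd, hGh, hG0, hpG⟩ := exists_lowest hpm
  refine hG d G hGh hG0 ?_
  have h1 : eval₂Hom c ![a, b] (p - G) ∈ I ^ (n * (d + 1)) := by
    have := eval₂_mem c a b hpG
    rw [pow_mul]
    exact Ideal.pow_right_mono hI _ this
  have h2 : eval₂Hom c ![a, b] G = eval₂Hom c ![a, b] p - eval₂Hom c ![a, b] (p - G) := by
    rw [← map_sub]
    congr 1
    ring
  change eval₂Hom c ![a, b] G ∈ _
  rw [h2]
  refine sub_mem (Ideal.pow_le_pow_right ?_ hp) (Ideal.pow_le_pow_right ?_ h1)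
  · calc n * d + 1 ≤ n * d + n := by omega
      _ = n * (d + 1) := by ring
      _ ≤ n * m := Nat.mul_le_mul_left _ hd
  · calc n * d + 1 ≤ n * d + n := by omega
      _ = n * (d + 1) := by ring

end K621.ContrAlg
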