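import Groth.Agent.AlgSp.K621.ContrSlice
import Groth.Agent.AlgSp.K569.ContrModel

/-!
# Contraction of a curve (S14992): approximation of a proper scheme over the completion of a G-ring, with a map to
a scheme of finite type over a field, by a proper scheme over an étale algebra

Author: helper621
-/

set_option autoImplicit false
universe u
open CategoryTheory CategoryTheory.Limits AlgebraicGeometry Topology TopologicalSpace

namespace K621.ContrApprox

/-- If `W → Spec A` is surjective, `B ⊆ A` is a subring of the domain `A` and `W' → Spec B` is a closed map through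
which `W → Spec A → Spec B` factors, then `W' → Spec B` is surjective. -/
theorem surjective_of_subalgebra {B A : Type u} [CommRing B] [CommRing A] [IsDomain A] [Algebra B A]
    (hinj : Function.Injective (algebraMap B A)) {W W' : Scheme.{u}} (q : W ⟶ Spec (CommRingCat.of A)) [Surjective q]
    (q' : W' ⟶ Spec (CommRingCat.of B)) [IsProper q'] (j : W ⟶ W')
    (h : j ≫ q' = q ≫ Spec.map (CommRingCat.ofHom (algebraMap B A))) : Surjective q' := by
  have hdom : DenseRange (Spec.map (CommRingCat.ofHom (algebraMap B A))) := by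
    change DenseRange (PrimeSpectrum.comap (algebraMap B A))
    rw [PrimeSpectrum.denseRange_comap_iff_ker_le_nilRadical, (RingHom.injective_iff_ker_eq_bot _).mp hinj]
    exact bot_le
  have hcl : IsClosed (Set.range q') := (q'.isClosedMap).isClosed_range
  have hd : DenseRange q' := by
    refine hdom.mono ?_
    rintro _ ⟨x, rfl⟩
    obtain ⟨y, rfl⟩ := q.surjective x
    refine ⟨j y, ?_⟩
    rw [← Scheme.Hom.comp_apply, h, Scheme.Hom.comp_apply]
  exact ⟨Set.range_eq_univ.mp (hcl.closure_eq ▸ hd.closure_range)⟩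

/-- Base change of the model: with `W₁ ×_{S₁} T` in place of `W`, the restriction to `E` is unchanged. -/
theorem exists_baseChange {S S₁ T E Z W W₁ : Scheme.{u}} {w : Z ⟶ W} {r : Z ⟶ E} {q : W ⟶ S} {α : E ⟶ S}
    (hw : IsPullback w r q α) {j : W ⟶ W₁} {q₁ : W₁ ⟶ S₁} {β : S ⟶ S₁} (hpb : IsPullback j q q₁ β)
    (G : T ⟶ S₁) (e : E ⟶ T) (he : e ≫ G = α ≫ β) [IsProper q₁] [Surjective q₁] :
    ∃ (W' : Scheme.{u}) (q' : W' ⟶ T) (p : W' ⟶ W₁) (w' : Z ⟶ W'), IsProper q' ∧ Surjective q' ∧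
      p ≫ q₁ = q' ≫ G ∧ w' ≫ p = w ≫ j ∧ IsPullback w' r q' e := by
  have hbig : IsPullback (w ≫ j) r q₁ (e ≫ G) := by
    rw [he]
    exact hw.paste_horiz hpb
  have hpb' : IsPullback (pullback.fst q₁ G) (pullback.snd q₁ G) q₁ G := IsPullback.of_hasPullback _ _
  refine ⟨pullback q₁ G, pullback.snd q₁ G, pullback.fst q₁ G,
    hpb'.lift (w ≫ j) (r ≫ e) (by rw [hbig.w, Category.assoc]),
    inferInstance, inferInstance, pullback.condition, hpb'.lift_fst _ _ _, ?_⟩
  refine IsPullback.of_right (h₁₂ := pullback.fst q₁ G) (h₂₂ := G) (v₁₃ := q₁) ?_ (hpb'.lift_snd _ _ _) hpb'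
  rw [hpb'.lift_fst]
  exact hbig

/-- Let `P` be a G-ring of finite type over `k` (or any G-ring over `k`) whose `𝔪`-adic completion `P^` is a domain,
`W → Spec P^` proper and surjective and `φ : W → X` a map to a scheme of finite type over `k`.  Then there are an étale
`P`-algebra `C` with `C / 𝔪^N C = P / 𝔪^N`, a proper surjective `W' → Spec C` and a map `W' → X` with the same
restriction over `P / 𝔪^N`. -/
theorem approximate {k : Type u} [Field k] {X : Scheme.{u}} (f : X ⟶ Spec (CommRingCat.of k))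
    [LocallyOfFiniteType f] [QuasiCompact f] [IsSeparated f]
    {P : Type u} [CommRing P] [Algebra k P] (hP : CAlg.IsGRing P) (𝔪 : Ideal P)
    [IsDomain (AdicCompletion 𝔪 P)]
    {W : Scheme.{u}} (q : W ⟶ Spec (CommRingCat.of (AdicCompletion 𝔪 P))) [IsProper q] [Surjective q]
    (φ : W ⟶ X) (hφ : φ ≫ f = q ≫ Spec.map (CommRingCat.ofHom (algebraMap k (AdicCompletion 𝔪 P)))) (N : ℕ)
    {Z : Scheme.{u}} (w : Z ⟶ W) (r : Z ⟶ Spec (CommRingCat.of (P ⧸ 𝔪 ^ N)))
    (hw : IsPullback w r q (Spec.map (CommRingCat.ofHom (AdicCompletion.evalₐ 𝔪 N).toRingHom))) :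
    ∃ (C : Type u) (_ : CommRing C) (_ : Algebra P C) (_ : Algebra.Etale P C) (ε : C →ₐ[P] P ⧸ 𝔪 ^ N)
      (_ : RingHom.ker ε = (𝔪 ^ N).map (algebraMap P C))
      (W' : Scheme.{u}) (q' : W' ⟶ Spec (CommRingCat.of C)) (φ' : W' ⟶ X) (w' : Z ⟶ W'),
      IsProper q' ∧ Surjective q' ∧
      φ' ≫ f = q' ≫ Spec.map (CommRingCat.ofHom ((algebraMap P C).comp (algebraMap k P))) ∧
      w' ≫ φ' = w ≫ φ ∧ IsPullback w' r q' (Spec.map (CommRingCat.ofHom ε.toRingHom)) := by
  have hN : IsNoetherianRing P := hP.1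
  have hN' : IsNoetherianRing (AdicCompletion 𝔪 P) := Groth.Agent.S0543.result P 𝔪
  have hφ₀ : φ ≫ f = q ≫ Spec.map (CommRingCat.ofHom ((algebraMap P (AdicCompletion 𝔪 P)).comp (algebraMap k P))) := by
    rw [hφ, ← IsScalarTower.algebraMap_eq k P (AdicCompletion 𝔪 P)]
  obtain ⟨B, hB, W₁, q₁, φ₁, j, hq₁, hφ₁, hjφ, hpb⟩ := Groth.Agent.AlgSp.K569.ContrModel.exists_model f q φ hφ₀
  have : Algebra.FiniteType P B := B.fg_iff_finiteType.mp hB
  have : Algebra.FinitePresentation P B := Algebra.FinitePresentation.of_finiteType.mp inferInstance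
  obtain ⟨C, _, _, hC, ε, g, hε, hg⟩ := ContrSlice.exists_etale hP 𝔪 N B.val
  have hsurj : Surjective q₁ := surjective_of_subalgebra (B := B) Subtype.val_injective q q₁ j hpb.w
  have he : Spec.map (CommRingCat.ofHom ε.toRingHom) ≫ Spec.map (CommRingCat.ofHom g.toRingHom) =
      Spec.map (CommRingCat.ofHom (AdicCompletion.evalₐ 𝔪 N).toRingHom) ≫
        Spec.map (CommRingCat.ofHom (algebraMap B (AdicCompletion 𝔪 P))) := by
    rw [← Spec.map_comp, ← Spec.map_comp, ← CommRingCat.ofHom_comp, ← CommRingCat.ofHom_comp]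
    congr 2
    exact RingHom.ext hg
  obtain ⟨W', q', p, w', h1, h2, h3, h4, h5⟩ := exists_baseChange hw hpb _ _ he
  refine ⟨C, inferInstance, inferInstance, hC, ε, hε, W', q', p ≫ φ₁, w', h1, h2, ?_, ?_, h5⟩
  · rw [Category.assoc, hφ₁, reassoc_of% h3]
    congr 1
    rw [← Spec.map_comp, ← CommRingCat.ofHom_comp]
    congr 2
    ext b
    exact (g.commutes _)
  · rw [reassoc_of% h4, hjφ]

end K621.ContrApprox
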