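import Groth.Agent.AlgSp.K621.ContrDefs
import Mathlib.AlgebraicGeometry.Morphisms.Proper
import Mathlib.AlgebraicGeometry.Morphisms.ClosedImmersion

/-!
# Contraction of a curve (S14992): neighbourhoods of the fibre and shrinking of the base

Author: helper621
-/

set_option autoImplicit false
universe u
open CategoryTheory CategoryTheory.Limits AlgebraicGeometry Topology TopologicalSpace Opposite

namespace K621.ContrDatum

open K621.ContrDefs

/-- the closed immersion `Spec (C/I) → Spec C` -/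
noncomputable abbrev spq {C : Type u} [CommRing C] (I : Ideal C) :
    Spec (CommRingCat.of (C ⧸ I)) ⟶ Spec (CommRingCat.of C) :=
  Spec.map (CommRingCat.ofHom (Ideal.Quotient.mk I))

section algebra

theorem exists_inv_mod {C : Type u} [CommRing C] (M : Ideal C) (hM : M.IsMaximal) {c : C} (hc : c ∉ M) (j : ℕ) :
    ∃ b : C, 1 - b * c ∈ M ^ j := by
  obtain ⟨y, i, hi, h⟩ := hM.exists_inv hc
  have h1 : Ideal.span {c} ⊔ M = ⊤ := by
    rw [Ideal.eq_top_iff_one, ← h]
    exact Submodule.add_mem_sup (Ideal.mul_mem_left _ _ (Ideal.mem_span_singleton_self c)) hi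
  have h2 : (1 : C) ∈ Ideal.span {c} ⊔ M ^ j := by
    rw [Ideal.sup_pow_eq_top h1]
    trivial
  obtain ⟨y, hy, z, hz, hyz⟩ := Submodule.mem_sup.mp h2
  obtain ⟨b, rfl⟩ := Ideal.mem_span_singleton'.mp hy
  exact ⟨b, by rw [← hyz, add_sub_cancel_left]; exact hz⟩

variable {C C' : Type u} [CommRing C] [CommRing C'] [Algebra C C'] (c : C) [IsLocalization.Away c C']

theorem one_sub_pow_mem {I : Ideal C} {b : C} (hb : 1 - b * c ∈ I) (i : ℕ) : 1 - (b * c) ^ i ∈ I := by
  have := Ideal.mem_span_singleton.mpr (sub_dvd_pow_sub_pow (1 : C) (b * c) i)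
  rw [one_pow] at this
  exact (Ideal.span_singleton_le_iff_mem I).mpr hb this

/-- Inverting an element which is invertible modulo `I` does not change the quotient by `I`. -/
theorem bijective_quotientMap {I : Ideal C} {I' : Ideal C'} (hI : I' = I.map (algebraMap C C')) {b : C}
    (hb : 1 - b * c ∈ I) : Function.Bijective
      (Ideal.quotientMap I' (algebraMap C C') (hI ▸ Ideal.le_comap_map) : C ⧸ I →+* C' ⧸ I') := by
  subst hI
  constructor
  · rw [injective_iff_map_eq_zero]
    intro x hx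
    obtain ⟨x, rfl⟩ := Ideal.Quotient.mk_surjective x
    rw [Ideal.quotientMap_mk, Ideal.Quotient.eq_zero_iff_mem,
      IsLocalization.algebraMap_mem_map_algebraMap_iff (Submonoid.powers c)] at hx
    obtain ⟨_, ⟨i, rfl⟩, hx⟩ := hx
    rw [Ideal.Quotient.eq_zero_iff_mem]
    have : x = (1 - (b * c) ^ i) * x + b ^ i * (c ^ i * x) := by rw [mul_pow]; ring
    rw [this]
    exact add_mem (Ideal.mul_mem_right _ _ (one_sub_pow_mem c hb i)) (Ideal.mul_mem_left _ _ hx)
  · intro x
    obtain ⟨x, rfl⟩ := Ideal.Quotient.mk_surjective x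
    obtain ⟨⟨a, ⟨_, i, rfl⟩⟩, ha⟩ := IsLocalization.surj (Submonoid.powers c) x
    refine ⟨Ideal.Quotient.mk _ (a * b ^ i), ?_⟩
    rw [Ideal.quotientMap_mk, Ideal.Quotient.mk_eq_mk_iff_sub_mem]
    have h1 : algebraMap C C' (a * b ^ i) - x = - (algebraMap C C' (1 - (b * c) ^ i) * x) := by
      rw [map_mul, ← ha]
      simp only [map_sub, map_one, map_pow, map_mul, mul_pow]
      ring
    rw [h1]
    exact neg_mem (Ideal.mul_mem_right _ _ (Ideal.mem_map_of_mem _ (one_sub_pow_mem c hb i)))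

/-- The corresponding isomorphism of spectra. -/
theorem exists_iso_quotient {I : Ideal C} {I' : Ideal C'} (hI : I' = I.map (algebraMap C C')) {b : C}
    (hb : 1 - b * c ∈ I) : ∃ α : Spec (CommRingCat.of (C' ⧸ I')) ⟶ Spec (CommRingCat.of (C ⧸ I)), IsIso α ∧
      spq I' ≫ Spec.map (CommRingCat.ofHom (algebraMap C C')) = α ≫ spq I := by
  let ψ : C ⧸ I →+* C' ⧸ I' := Ideal.quotientMap I' (algebraMap C C') (hI ▸ Ideal.le_comap_map)
  have hiso : IsIso (CommRingCat.ofHom ψ) :=
    (ConcreteCategory.isIso_iff_bijective (CommRingCat.ofHom ψ)).mpr (bijective_quotientMap c hI hb)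
  refine ⟨Spec.map (CommRingCat.ofHom ψ), inferInstance, ?_⟩
  rw [← Spec.map_comp, ← Spec.map_comp, ← CommRingCat.ofHom_comp, ← CommRingCat.ofHom_comp]
  congr 2

end algebra

/-- Base change of a cartesian square. -/
theorem exists_lift {S T E E' Z W W' : Scheme.{u}} {w : Z ⟶ W} {r : Z ⟶ E} {q : W ⟶ S} {s : E ⟶ S}
    (hw : IsPullback w r q s) {G : T ⟶ S} {p : W' ⟶ W} {q' : W' ⟶ T} (hp : IsPullback p q' q G)
    {e : E' ⟶ T} {α : E' ⟶ E} (hα : IsIso α) (he : e ≫ G = α ≫ s) :
    ∃ (w' : Z ⟶ W') (r' : Z ⟶ E'), w' ≫ p = w ∧ IsPullback w' r' q' e := by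
  have hbig : IsPullback w (r ≫ inv α) q (e ≫ G) := by
    refine hw.of_iso (Iso.refl _) (Iso.refl _) (asIso α).symm (Iso.refl _) (by simp) (by simp) (by simp) ?_
    rw [he]
    simp
  refine ⟨hp.lift w ((r ≫ inv α) ≫ e) (by rw [hbig.w]; simp only [Category.assoc]), r ≫ inv α, hp.lift_fst _ _ _, ?_⟩
  refine IsPullback.of_right (h₁₂ := p) (h₂₂ := G) (v₁₃ := q) ?_ (hp.lift_snd _ _ _) hp
  rw [hp.lift_fst]
  exact hbig

variable {k : Type u} [Field k] {X : Scheme.{u}} (f : X ⟶ Spec (CommRingCat.of k)) (D : X.IdealSheafData) (n : ℕ)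

/-- A proper scheme over `Spec C`, `C` a `k`-algebra with a maximal ideal `M`, with a map to `X`, which over `C/M` and
`C/M²` is the thickening `V(D^n)`, `V(D^(2n))`. -/
structure Datum (C : Type u) [CommRing C] [Algebra k C] (M : Ideal C) where
  /-- the total space -/
  W : Scheme.{u}
  /-- the structure map -/
  q : W ⟶ Spec (CommRingCat.of C)
  /-- the map to `X` -/
  φ : W ⟶ X
  /-- the fibre over `C/M²` -/
  w : (D ^ (n * 2)).subscheme ⟶ W
  /-- its structure map -/
  r₁ : (D ^ (n * 2)).subscheme ⟶ Spec (CommRingCat.of (C ⧸ M ^ 2))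
  /-- the structure map of the fibre over `C/M` -/
  r₀ : (D ^ n).subscheme ⟶ Spec (CommRingCat.of (C ⧸ M))
  proper : IsProper q
  hφ : φ ≫ f = q ≫ Spec.map (CommRingCat.ofHom (algebraMap k C))
  hw : w ≫ φ = (D ^ (n * 2)).subschemeι
  h₁ : IsPullback w r₁ q (spq (M ^ 2))
  h₀ : IsPullback (Scheme.IdealSheafData.inclusion (pow_anti D (Nat.le_mul_of_pos_right n two_pos)) ≫ w) r₀ q (spq M)

variable {f D n}

theorem exists_away {C : Type u} [CommRing C] [Algebra k C] {M : Ideal C} (hM : M.IsMaximal) (d : Datum f D n C M)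
    {c : C} (hc : c ∉ M) (C' : Type u) [CommRing C'] [Algebra C C'] [IsLocalization.Away c C'] [Algebra k C']
    [IsScalarTower k C C'] : ∃ (d' : Datum f D n C' (M.map (algebraMap C C'))) (p : d'.W ⟶ d.W),
      IsPullback p d'.q d.q (Spec.map (CommRingCat.ofHom (algebraMap C C'))) ∧ p ≫ d.φ = d'.φ := by
  let G : Spec (CommRingCat.of C') ⟶ Spec (CommRingCat.of C) := Spec.map (CommRingCat.ofHom (algebraMap C C'))
  have hG : IsOpenImmersion G := IsOpenImmersion.of_isLocalization (S := C') c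
  have hpb : IsPullback (pullback.fst d.q G) (pullback.snd d.q G) d.q G := IsPullback.of_hasPullback _ _
  have := d.proper
  obtain ⟨b₁, hb₁⟩ := exists_inv_mod M hM hc 2
  obtain ⟨b₀, hb₀⟩ := exists_inv_mod M hM hc 1
  rw [pow_one] at hb₀
  obtain ⟨α₁, hα₁, he₁⟩ := exists_iso_quotient (C' := C') c (I := M ^ 2) (I' := (M.map (algebraMap C C')) ^ 2)
    (Ideal.map_pow _ _ _).symm hb₁
  obtain ⟨α₀, hα₀, he₀⟩ := exists_iso_quotient (C' := C') c (I := M) (I' := M.map (algebraMap C C')) rfl hb₀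
  obtain ⟨w₁, r₁, hw₁, hr₁⟩ := exists_lift d.h₁ hpb hα₁ he₁
  obtain ⟨w₀, r₀, hw₀, hr₀⟩ := exists_lift d.h₀ hpb hα₀ he₀
  have hw₀' : w₀ = Scheme.IdealSheafData.inclusion (pow_anti D (Nat.le_mul_of_pos_right n two_pos)) ≫ w₁ := by
    rw [← cancel_mono (pullback.fst d.q G), Category.assoc, hw₁, hw₀]
  subst hw₀'
  exact ⟨{ W := pullback d.q G
           q := pullback.snd d.q G
           φ := pullback.fst d.q G ≫ d.φ
           w := w₁
           r₁ := r₁
           r₀ := r₀
           proper := inferInstance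
           hφ := by
            rw [Category.assoc, d.hφ, pullback.condition_assoc, ← Spec.map_comp, ← CommRingCat.ofHom_comp,
              ← IsScalarTower.algebraMap_eq]
           hw := by rw [reassoc_of% hw₁, d.hw]
           h₁ := hr₁
           h₀ := hr₀ }, pullback.fst d.q G, hpb, rfl⟩

end K621.ContrDatum
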