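import Groth.Agent.AlgSp.K621.ContrGood
import Groth.Agent.AlgSp.K621.ContrAlg
import Groth.Agent.AlgSp.K621.ContrApprox
import Groth.Agent.Unram.K653.PolyEtale
import Groth.Agent.Fdesc.DomainLocus
import Mathlib.RingTheory.Etale.Basic
import Mathlib.RingTheory.Ideal.Quotient.Operations

/-!
# Contraction of a curve (S14992): the initial neighbourhood datum

Author: helper621
-/

set_option autoImplicit false
universe u
open CategoryTheory CategoryTheory.Limits AlgebraicGeometry Topology TopologicalSpace Opposite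

namespace K621.ContrInit

open K621.ContrDefs K621.ContrDatum K621.ContrGood

theorem mm_eq_ker (k : Type u) [Field k] : mm k = RingHom.ker (MvPolynomial.constantCoeff (R := k) (σ := Fin 2)) := by
  ext p
  have h := MvPolynomial.mem_pow_idealOfVars_iff' 1 p
  rw [pow_one] at h
  rw [RingHom.mem_ker]
  refine h.trans ⟨fun h => h 0 (by simp), fun h x hx => ?_⟩
  have : x = 0 := by
    rw [← Finsupp.degree_eq_zero_iff]
    omega
  rw [this]
  exact h

theorem isMaximal_mm (k : Type u) [Field k] : (mm k).IsMaximal := by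
  rw [mm_eq_ker]
  exact RingHom.ker_isMaximal_of_surjective _ (fun a => ⟨MvPolynomial.C a, MvPolynomial.constantCoeff_C _ a⟩)

/-- A surjection of rings is the quotient by its kernel. -/
theorem exists_iso_spq {C E : Type u} [CommRing C] [CommRing E] (ψ : C →+* E) (hψ : Function.Surjective ψ)
    {I : Ideal C} (hI : RingHom.ker ψ = I) : ∃ β : Spec (CommRingCat.of E) ⟶ Spec (CommRingCat.of (C ⧸ I)),
      IsIso β ∧ Spec.map (CommRingCat.ofHom ψ) = β ≫ spq I := by
  subst hI
  let e := RingHom.quotientKerEquivOfSurjective hψ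
  have hiso : IsIso (CommRingCat.ofHom e.toRingHom) :=
    (ConcreteCategory.isIso_iff_bijective (CommRingCat.ofHom e.toRingHom)).mpr e.bijective
  refine ⟨Spec.map (CommRingCat.ofHom e.toRingHom), inferInstance, ?_⟩
  rw [← Spec.map_comp, ← CommRingCat.ofHom_comp]
  congr 2

theorem isPullback_iso {Z W T E E' : Scheme.{u}} {w : Z ⟶ W} {r : Z ⟶ E} {q : W ⟶ T} {s : E ⟶ T}
    (h : IsPullback w r q s) {β : E ⟶ E'} (hβ : IsIso β) {s' : E' ⟶ T} (hs : s = β ≫ s') :
    IsPullback w (r ≫ β) q s' := by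
  refine h.of_iso (Iso.refl _) (Iso.refl _) (asIso β) (Iso.refl _) (by simp) (by simp) (by simp) ?_
  simp [hs]

/-- Quotients and étale algebras. -/
theorem isMaximal_map {P C E : Type u} [CommRing P] [CommRing C] [CommRing E] [Algebra P C] (𝔪 : Ideal P)
    (h𝔪 : 𝔪.IsMaximal) (ε : C →+* E) (hε : Function.Surjective ε) (hker : RingHom.ker ε = 𝔪.map (algebraMap P C))
    (hP : Function.Surjective (ε.comp (algebraMap P C))) (hne : Nontrivial E) : (𝔪.map (algebraMap P C)).IsMaximal := by
  have h1 : 𝔪 ≤ RingHom.ker (ε.comp (algebraMap P C)) := by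
    intro x hx
    rw [RingHom.mem_ker, RingHom.comp_apply, ← RingHom.mem_ker, hker]
    exact Ideal.mem_map_of_mem _ hx
  have h2 : 𝔪 = RingHom.ker (ε.comp (algebraMap P C)) :=
    h𝔪.eq_of_le (RingHom.ker_ne_top _) h1
  have h3 : IsField E := by
    have : (RingHom.ker (ε.comp (algebraMap P C))).IsMaximal := h2 ▸ h𝔪
    exact (RingHom.quotientKerEquivOfSurjective hP).symm.toMulEquiv.isField
      ((Ideal.Quotient.maximal_ideal_iff_isField_quotient _).mp this)
  rw [← hker]
  have h4 : IsField (C ⧸ RingHom.ker ε) :=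
    (RingHom.quotientKerEquivOfSurjective hε).toMulEquiv.isField h3
  exact Ideal.Quotient.maximal_of_isField _ h4

variable {k : Type u} [Field k] {X : Scheme.{u}} {f : X ⟶ Spec (CommRingCat.of k)} {D : X.IdealSheafData} {n : ℕ}

/-- From a proper scheme over an étale `k[X₀, X₁]`-algebra with the right restriction over `k[X₀, X₁]/𝔪²` to a datum. -/
theorem exists_datum_etale (r : ∀ m : ℕ, (D ^ (n * (m + 1))).subscheme ⟶
      Spec (CommRingCat.of (MvPolynomial (Fin 2) k ⧸ (mm k) ^ (m + 1))))
    (hpb : ∀ m, IsPullback (Scheme.IdealSheafData.inclusion (pow_anti D (Nat.mul_le_mul_left n (Nat.le_succ (m + 1)))))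
        (r m) (r (m + 1)) (CohB1.specQuotTrans (mm k) m))
    {C : Type u} [CommRing C] [Algebra (MvPolynomial (Fin 2) k) C] [Algebra k C]
    [IsScalarTower k (MvPolynomial (Fin 2) k) C] (ε : C →ₐ[MvPolynomial (Fin 2) k] MvPolynomial (Fin 2) k ⧸ (mm k) ^ (1 + 1))
    (hε : RingHom.ker ε = ((mm k) ^ (1 + 1)).map (algebraMap (MvPolynomial (Fin 2) k) C))
    {W : Scheme.{u}} (q : W ⟶ Spec (CommRingCat.of C)) [IsProper q] (φ : W ⟶ X)
    (hφ : φ ≫ f = q ≫ Spec.map (CommRingCat.ofHom ((algebraMap (MvPolynomial (Fin 2) k) C).comp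
      (algebraMap k (MvPolynomial (Fin 2) k)))))
    (w : (D ^ (n * (1 + 1))).subscheme ⟶ W) (hw : w ≫ φ = (D ^ (n * (1 + 1))).subschemeι)
    (h : IsPullback w (r 1) q (Spec.map (CommRingCat.ofHom ε.toRingHom))) :
    ((mm k).map (algebraMap (MvPolynomial (Fin 2) k) C)).IsMaximal ∧
      ∃ d : Datum f D n C ((mm k).map (algebraMap (MvPolynomial (Fin 2) k) C)), ∃ e : W ≅ d.W, e.hom ≫ d.q = q := by
  have hεs : Function.Surjective ε := by
    intro x
    obtain ⟨p, rfl⟩ := Ideal.Quotient.mk_surjective x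
    exact ⟨algebraMap _ C p, ε.commutes p⟩
  have hεalg : ∀ p : MvPolynomial (Fin 2) k, ε (algebraMap _ C p) = Ideal.Quotient.mk _ p := fun p => ε.commutes p
  let π : MvPolynomial (Fin 2) k ⧸ (mm k) ^ (1 + 1) →+* MvPolynomial (Fin 2) k ⧸ (mm k) ^ (0 + 1) :=
    Ideal.Quotient.factor (Ideal.pow_le_pow_right (Nat.le_succ (0 + 1)))
  let ε₀ : C →+* MvPolynomial (Fin 2) k ⧸ (mm k) ^ (0 + 1) := π.comp ε.toRingHom
  have hπs : Function.Surjective π := Ideal.Quotient.factor_surjective _
  have hε₀s : Function.Surjective ε₀ := hπs.comp hεs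
  have hker₀ : RingHom.ker ε₀ = (mm k).map (algebraMap (MvPolynomial (Fin 2) k) C) := by
    apply le_antisymm
    · intro c hc
      obtain ⟨p, hp⟩ := Ideal.Quotient.mk_surjective (ε c)
      have hp0 : p ∈ mm k := by
        have h1 : π (Ideal.Quotient.mk _ p) = 0 := by
          rw [hp]
          exact hc
        have h2 : Ideal.Quotient.mk ((mm k) ^ (0 + 1)) p = 0 := h1
        rw [Ideal.Quotient.eq_zero_iff_mem, zero_add, pow_one] at h2
        exact h2
      have h3 : c - algebraMap _ C p ∈ RingHom.ker ε := by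
        rw [RingHom.mem_ker, map_sub, hεalg, hp, sub_self]
      rw [hε] at h3
      have h4 := Ideal.map_mono (Ideal.pow_le_self (two_ne_zero)) h3
      have h5 := add_mem h4 (Ideal.mem_map_of_mem (algebraMap (MvPolynomial (Fin 2) k) C) hp0)
      rwa [sub_add_cancel] at h5
    · rw [Ideal.map_le_iff_le_comap]
      intro p hp
      rw [Ideal.mem_comap, RingHom.mem_ker]
      change π (ε (algebraMap _ C p)) = 0
      rw [hεalg]
      change Ideal.Quotient.mk ((mm k) ^ (0 + 1)) p = 0
      rw [Ideal.Quotient.eq_zero_iff_mem, zero_add, pow_one]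
      exact hp
  have hne : Nontrivial (MvPolynomial (Fin 2) k ⧸ (mm k) ^ (0 + 1)) := by
    rw [zero_add, pow_one]
    exact Ideal.Quotient.nontrivial_iff.mpr (isMaximal_mm k).ne_top
  have hM : ((mm k).map (algebraMap (MvPolynomial (Fin 2) k) C)).IsMaximal := by
    refine isMaximal_map (mm k) (isMaximal_mm k) ε₀ hε₀s hker₀ ?_ hne
    intro x
    obtain ⟨p, rfl⟩ := Ideal.Quotient.mk_surjective x
    refine ⟨p, ?_⟩
    change π (ε (algebraMap _ C p)) = _
    rw [hεalg]
    rfl
  refine ⟨hM, ?_⟩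
  obtain ⟨β₁, hβ₁, hsp₁⟩ := exists_iso_spq ε.toRingHom hεs
    (I := ((mm k).map (algebraMap (MvPolynomial (Fin 2) k) C)) ^ 2) (hε.trans (Ideal.map_pow _ _ _))
  obtain ⟨β₀, hβ₀, hsp₀⟩ := exists_iso_spq ε₀ hε₀s hker₀
  have h₁ := isPullback_iso h hβ₁ hsp₁
  have h0 : IsPullback (Scheme.IdealSheafData.inclusion (pow_anti D (Nat.mul_le_mul_left n (Nat.le_succ (0 + 1)))) ≫ w)
      (r 0) q (Spec.map (CommRingCat.ofHom ε₀)) := by
    have h2 := (hpb 0).paste_horiz h
    have h3 : CohB1.specQuotTrans (mm k) 0 ≫ Spec.map (CommRingCat.ofHom ε.toRingHom) =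
        Spec.map (CommRingCat.ofHom ε₀) := by
      rw [CohB1.specQuotTrans, ← Spec.map_comp, ← CommRingCat.ofHom_comp]
    rw [h3] at h2
    exact h2
  have h0' := isPullback_iso h0 hβ₀ hsp₀
  have key : ∀ (a : ℕ) (_ : a = n * (0 + 1)) (hle : a ≤ n * 2), ∃ r₀ : (D ^ a).subscheme ⟶ _,
      IsPullback (Scheme.IdealSheafData.inclusion (pow_anti D hle) ≫ w) r₀ q
        (spq ((mm k).map (algebraMap (MvPolynomial (Fin 2) k) C))) := by
    rintro _ rfl hle
    exact ⟨_, h0'⟩
  obtain ⟨r₀, hr₀⟩ := key n (by simp) (Nat.le_mul_of_pos_right n two_pos)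
  exact ⟨{ W := W
           q := q
           φ := φ
           w := w
           r₁ := r 1 ≫ β₁
           r₀ := r₀
           proper := inferInstance
           hφ := by
            rw [hφ, ← IsScalarTower.algebraMap_eq]
           hw := hw
           h₁ := h₁
           h₀ := hr₀ }, Iso.refl _, Category.id_comp _⟩

/-- The extension of a maximal ideal to a localization away from an element outside it is maximal. -/
theorem isMaximal_map_away {C C' : Type u} [CommRing C] [CommRing C'] [Algebra C C'] (c : C) [IsLocalization.Away c C']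
    {M : Ideal C} (hM : M.IsMaximal) (hc : c ∉ M) : (M.map (algebraMap C C')).IsMaximal := by
  obtain ⟨b, hb⟩ := exists_inv_mod M hM hc 1
  rw [pow_one] at hb
  have h1 := bijective_quotientMap (C' := C') c (I := M) rfl hb
  have h2 : IsField (C ⧸ M) := (Ideal.Quotient.maximal_ideal_iff_isField_quotient _).mp hM
  exact Ideal.Quotient.maximal_of_isField _ ((RingEquiv.ofBijective _ h1).symm.toMulEquiv.isField h2)

/-- Shrinking to a domain. -/
theorem exists_datum_domain {C : Type u} [CommRing C] [Algebra (MvPolynomial (Fin 2) k) C] [Algebra k C]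
    [IsScalarTower k (MvPolynomial (Fin 2) k) C] [Algebra.Etale (MvPolynomial (Fin 2) k) C] {M : Ideal C}
    (hM : M.IsMaximal) (d : Datum f D n C M) (hd : Surjective d.q) :
    ∃ (C' : Type u) (_ : CommRing C') (_ : Algebra k C') (M' : Ideal C') (_ : M'.IsMaximal), IsDomain C' ∧
      Algebra.FiniteType k C' ∧ 2 ≤ ringKrullDim (Localization.AtPrime M') ∧
      ∃ d' : Datum f D n C' M', Surjective d'.q := by
  have hN : IsNoetherianRing C := Algebra.FiniteType.isNoetherianRing (MvPolynomial (Fin 2) k) C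
  obtain ⟨hreg, -⟩ := K653.PolyEtale.regular_dim (k := k) (n := 2) M
  have hdom : IsDomain (Localization.AtPrime M) := Groth.Agent.S0558.result _
  obtain ⟨c, hc, hcd⟩ := Groth.Agent.Fdesc.DomainLocus.exists_away_isDomain M
  have hM' := isMaximal_map_away (C' := Localization.Away c) c hM hc
  obtain ⟨d', p, hp, -⟩ := exists_away hM d hc (Localization.Away c)
  have het : Algebra.Etale (MvPolynomial (Fin 2) k) (Localization.Away c) := by
    have : Algebra.Etale C (Localization.Away c) := Algebra.Etale.of_isLocalizationAway c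
    exact Algebra.Etale.comp (MvPolynomial (Fin 2) k) C (Localization.Away c)
  obtain ⟨-, hdim⟩ := K653.PolyEtale.regular_dim (k := k) (n := 2) (M.map (algebraMap C (Localization.Away c)))
  have hft : Algebra.FiniteType k (Localization.Away c) :=
    Algebra.FiniteType.trans (S := MvPolynomial (Fin 2) k) inferInstance inferInstance
  refine ⟨Localization.Away c, inferInstance, inferInstance, _, hM', hcd, hft, ?_, d', ?_⟩
  · rw [hdim]
    exact le_rfl
  · exact MorphismProperty.of_isPullback (P := @Surjective) hp hd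

end K621.ContrInit
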