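import Groth.Agent.AlgSp.K621.ContrShrink
import Groth.Agent.AlgSp.K621.ContrInit
import Groth.Agent.AlgSp.K917.ContrEtale
import Groth.Agent.AlgSp.K92.ContrAway
import Groth.Agent.AlgSp.K92.ContrStein
import Groth.Agent.S10855
import Groth.Agent.Dix.IdealModCartier
import Groth.Agent.Models2.AmplePull

/-!
# Contraction of a curve (S14992): the contraction of an étale neighbourhood

Author: helper621
-/

set_option autoImplicit false
universe u
open CategoryTheory CategoryTheory.Limits AlgebraicGeometry Topology TopologicalSpace Opposite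

namespace K621.ContrEnd

open K621.ContrDefs K621.ContrDatum K621.ContrGood K621.ContrShrink K621.ContrInit
open Groth.Agent.Models2.AmplePull

/-- The conormal sheaf of the preimage of `D` under a flat map which is an isomorphism over `D` is ample. -/
theorem isAmple_comap {X W : Scheme.{u}} (φ : W ⟶ X) [Flat φ] {D : X.IdealSheafData} (hD : BlowUp.IsEffCartierIdeal D)
    (hiso : IsIso (pullback.snd φ D.subschemeι))
    (hamp : CohB1.IsAmple ((Scheme.Modules.pullback D.subschemeι).obj (ClSub.idealMod D))) :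
    CohB1.IsAmple ((Scheme.Modules.pullback (D.comap φ).subschemeι).obj (ClSub.idealMod (D.comap φ))) := by
  obtain ⟨e⟩ := Groth.Agent.Dix.IdealModCartier.pullback_idealMod φ hD (Groth.Agent.S10855.result φ D hD)
  refine isAmple_of_iso ((Scheme.Modules.pullback (D.comap φ).subschemeι).mapIso e) ?_
  rw [← isAmple_pullback_comp]
  have h1 : (D.comap φ).subschemeι ≫ φ = ((D.comapIso φ).hom ≫ pullback.snd φ D.subschemeι) ≫ D.subschemeι := by
    rw [Category.assoc, ← pullback.condition, Scheme.IdealSheafData.comapIso_hom_fst_assoc]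
  rw [isAmple_pullback_congr h1, isAmple_pullback_iff_of_isIso]
  exact hamp

variable {k : Type u} [Field k] {X : Scheme.{u}} (f : X ⟶ Spec (CommRingCat.of k)) {D : X.IdealSheafData} {n : ℕ}

theorem isIrreducible_fibre {C : Type u} [CommRing C] [Algebra k C] {M : Ideal C} [hM : M.IsMaximal]
    (d : Datum f D n C M) (hn : 0 < n) [IrreducibleSpace D.subscheme] :
    IsIrreducible (d.q ⁻¹' {(⟨M, inferInstance⟩ : PrimeSpectrum C)}) := by
  have h1 : D ^ n ≤ D := by
    have := pow_anti D (a := 1) (b := n) hn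
    rwa [pow_one] at this
  have h2 : Function.Surjective (Scheme.IdealSheafData.inclusion h1) := by
    intro y
    have hy : (D ^ n).subschemeι y ∈ Set.range D.subschemeι := by
      rw [Scheme.IdealSheafData.range_subschemeι, ← Scheme.IdealSheafData.support_pow D n hn.ne',
        ← Scheme.IdealSheafData.range_subschemeι]
      exact ⟨y, rfl⟩
    obtain ⟨z, hz⟩ := hy
    refine ⟨z, (D ^ n).subschemeι.isClosedEmbedding.injective ?_⟩
    rw [← hz, ← Scheme.Hom.comp_apply, Scheme.IdealSheafData.inclusion_subschemeι]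
  have h3 : d.q ⁻¹' {(⟨M, inferInstance⟩ : PrimeSpectrum C)} = Set.range (Scheme.IdealSheafData.inclusion h1 ≫
      Scheme.IdealSheafData.inclusion (pow_anti D (Nat.le_mul_of_pos_right n two_pos)) ≫ d.w) := by
    rw [preimage_eq_range hM d, Scheme.Hom.comp_base (Scheme.IdealSheafData.inclusion h1), TopCat.coe_comp,
      h2.range_comp]
  rw [h3, ← Set.image_univ]
  exact (IrreducibleSpace.isIrreducible_univ _).image _ (Scheme.Hom.continuous _).continuousOn

/-- The contraction of an étale neighbourhood of the exceptional curve. -/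
theorem exists_nbhd [LocallyOfFiniteType f] [QuasiCompact f] [IsSeparated f]
    (hD : BlowUp.IsEffCartierIdeal D) [IsIntegral D.subscheme] (hdim : topologicalKrullDim D.subscheme = 1)
    (hamp : CohB1.IsAmple ((Scheme.Modules.pullback D.subschemeι).obj (ClSub.idealMod D))) (hn : 0 < n)
    {C : Type u} [CommRing C] [IsDomain C] [Algebra k C] [Algebra.FiniteType k C] (M : Ideal C) [hM₁ : M.IsMaximal]
    (hM : 2 ≤ ringKrullDim (Localization.AtPrime M)) (d : Datum f D n C M) [Surjective d.q]
    {Y : Scheme.{u}} (i : Y ⟶ X) [IsClosedImmersion i] (hi : i.ker = D) :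
    ∃ (W V : Scheme.{u}) (φ : W ⟶ X) (v : V ⟶ Spec (CommRingCat.of k)) (c : W ⟶ V) (p : V)
      (hp : IsClosed ({p} : Set V)), Etale φ ∧ IsSeparated φ ∧ LocallyOfFiniteType v ∧ QuasiCompact v ∧ IsSeparated v ∧
      IsProper c ∧ Surjective c ∧ c ≫ v = φ ≫ f ∧ c ⁻¹' {p} = φ ⁻¹' (Set.range i) ∧ IsIso (pullback.snd φ i) ∧
      IsIso (c ∣_ ⟨{p}ᶜ, hp.isOpen_compl⟩) := by
  have := d.proper
  obtain ⟨O, hO, het, hOD⟩ := K917.ContrEtale.etale_near_fibre f D hD hdim M hM d.q d.φ d.hφ n hn d.w d.hw d.r₁ d.r₀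
    d.h₁ d.h₀
  obtain ⟨c₂, hc₂, d₂, het₂, hP₂⟩ := exists_etale hM₁ d O hO het hOD
  have hM₂ := isMaximal_map_away (C' := Localization.Away c₂) c₂ hM₁ hc₂
  have hft₂ : Algebra.FiniteType k (Localization.Away c₂) := Algebra.FiniteType.trans (S := C) inferInstance
    (IsLocalization.finiteType_of_monoid_fg (Submonoid.powers c₂) _)
  have hN₂ : IsNoetherianRing (Localization.Away c₂) := Algebra.FiniteType.isNoetherianRing k _
  have hsub₂ : (spq (M.map (algebraMap C (Localization.Away c₂)))).ker.comap d₂.q ≤ D.comap d₂.φ := by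
    rw [← hP₂]
    have := pow_anti (D.comap d₂.φ) (a := 1) (b := n) hn
    rwa [pow_one] at this
  have := d₂.proper
  have hiso₂ : IsIso (pullback.snd d₂.φ D.subschemeι) :=
    isIso_pullback_snd d₂ hn hsub₂ D.subschemeι (Scheme.IdealSheafData.ker_subschemeι D)
  obtain ⟨c₃, hc₃, hfin₃⟩ := K92.ContrAway.finite_away _ d₂.q (D.comap d₂.φ) (Groth.Agent.S10855.result d₂.φ D hD) n hn
    hP₂ (isAmple_comap d₂.φ hD hiso₂ hamp)
  obtain ⟨d₃, hfin, het₃, hsub₃⟩ := exists_finite hM₂ d₂ hc₃ hfin₃ het₂ hsub₂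
  have hM₃ := isMaximal_map_away (C' := Localization.Away c₃) c₃ hM₂ hc₃
  have hft₃ : Algebra.FiniteType k (Localization.Away c₃) := Algebra.FiniteType.trans (S := Localization.Away c₂)
    inferInstance (IsLocalization.finiteType_of_monoid_fg (Submonoid.powers c₃) _)
  have hN₃ : IsNoetherianRing (Localization.Away c₃) := Algebra.FiniteType.isNoetherianRing k _
  have := d₃.proper
  obtain ⟨V, c, g, p, hp, hcg, hg, hc, hcs, hgp, hciso⟩ := K92.ContrStein.stein _ d₃.q hfin
    (isIrreducible_fibre f d₃ hn)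
  have hlft : LocallyOfFiniteType (Spec.map (CommRingCat.ofHom (algebraMap k (Localization.Away c₃)))) :=
    (HasRingHomProperty.Spec_iff (P := @LocallyOfFiniteType)).2 (RingHom.finiteType_algebraMap.2 inferInstance)
  refine ⟨d₃.W, V, d₃.φ, g ≫ Spec.map (CommRingCat.ofHom (algebraMap k (Localization.Away c₃))), c, p, hp, het₃, ?_,
    inferInstance, inferInstance, inferInstance, hc, hcs, ?_, ?_, isIso_pullback_snd d₃ hn hsub₃ i hi, hciso⟩
  · have h1 : IsSeparated (d₃.φ ≫ f) := by
      rw [d₃.hφ]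
      infer_instance
    exact IsSeparated.of_comp d₃.φ f
  · rw [← Category.assoc, hcg, d₃.hφ]
  · have h1 : c ⁻¹' {p} = d₃.q ⁻¹' {(⟨_, hM₃.isPrime⟩ : PrimeSpectrum (Localization.Away c₃))} := by
      rw [← hgp, ← hcg]
      rfl
    have h2 : (D.support : Set X) = Set.range i := by
      rw [← hi, Scheme.Hom.support_ker, i.isClosedEmbedding.isClosed_range.closure_eq]
    rw [h1, preimage_eq hM₃ d₃ hn hsub₃, h2]

end K621.ContrEnd
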