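import Groth.Agent.AlgSp.K621.ContrSystem

/-!
# Contraction of a curve (S14992): formal functions give cartesian squares over `Spec k[X₀, X₁]/𝔪^(m+1)`

Author: helper621
-/

set_option autoImplicit false
universe u
open CategoryTheory CategoryTheory.Limits AlgebraicGeometry Topology TopologicalSpace Opposite

namespace K621.ContrFormal

open MvPolynomial K621.ContrDefs K621.ContrAlg K621.ContrSystem

variable {X : Scheme.{u}} (D : X.IdealSheafData)

/-- the local function `a` on the affine open `V` lifts the global function `s` of the `N`-th thickening -/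
def Lifts {N : ℕ} (V : X.affineOpens) (s : Γ((D ^ N).subscheme, ⊤)) (a : Γ(X, V.1)) : Prop :=
  (D ^ N).subschemeι.app V.1 a = (D ^ N).subscheme.presheaf.map (homOfLE le_top).op s

variable {D}

theorem Lifts.of_le {N N' : ℕ} (h : N ≤ N') {V : X.affineOpens} {s : Γ((D ^ N).subscheme, ⊤)}
    {s' : Γ((D ^ N').subscheme, ⊤)} (hs : (incl D h).appTop s' = s) {a : Γ(X, V.1)} (ha : Lifts D V s' a) :
    Lifts D V s a := by
  have hle : (D ^ N).subschemeι ⁻¹ᵁ V.1 ≤ incl D h ⁻¹ᵁ ((D ^ N').subschemeι ⁻¹ᵁ V.1) := by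
    rw [← Scheme.Hom.comp_preimage, incl, Scheme.IdealSheafData.inclusion_subschemeι]
  have h1 : (D ^ N).subschemeι.app V.1 = (D ^ N').subschemeι.app V.1 ≫ (incl D h).appLE _ _ hle := by
    rw [Scheme.Hom.app_eq_appLE, Scheme.Hom.app_eq_appLE, Scheme.Hom.appLE_comp_appLE]
    congr 1
    exact (Scheme.IdealSheafData.inclusion_subschemeι _).symm
  have h2 : (D ^ N').subscheme.presheaf.map (homOfLE le_top : (D ^ N').subschemeι ⁻¹ᵁ V.1 ⟶ ⊤).op ≫
      (incl D h).appLE _ _ hle = (incl D h).appTop ≫ (D ^ N).subscheme.presheaf.map (homOfLE le_top).op := by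
    rw [Scheme.Hom.map_appLE]
    rfl
  unfold Lifts at ha ⊢
  rw [h1, CommRingCat.comp_apply, ha, ← CommRingCat.comp_apply, h2, CommRingCat.comp_apply, hs]

theorem exists_lifts {N : ℕ} (V : X.affineOpens) (s : Γ((D ^ N).subscheme, ⊤)) : ∃ a, Lifts D V s a :=
  (D ^ N).subschemeι_app_surjective V _

theorem app_eq_zero_iff {N : ℕ} (V : X.affineOpens) (a : Γ(X, V.1)) :
    (D ^ N).subschemeι.app V.1 a = 0 ↔ a ∈ (D ^ N).ideal V := by
  rw [← (D ^ N).ker_subschemeι_app V]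
  rfl

/-- A global function on a thickening is zero if its local lifts lie in the ideal. -/
theorem eq_zero_of_local {N : ℕ} (s : Γ((D ^ N).subscheme, ⊤))
    (h : ∀ V : X.affineOpens, (D ^ N).subscheme.presheaf.map (homOfLE le_top : (D ^ N).subschemeι ⁻¹ᵁ V.1 ⟶ ⊤).op s = 0) :
    s = 0 := by
  refine (D ^ N).subscheme.IsSheaf.section_ext ?_
  intro x _
  obtain ⟨_, ⟨V, hV, rfl⟩, hxV, -⟩ := X.isBasis_affineOpens.exists_subset_of_mem_open
    (show (D ^ N).subschemeι x ∈ (⊤ : X.Opens) from trivial) isOpen_univ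
  refine ⟨(D ^ N).subschemeι ⁻¹ᵁ V, le_top, hxV, ?_⟩
  rw [map_zero]
  exact h ⟨V, hV⟩

variable {k : Type u} [Field k] (f : X ⟶ Spec (CommRingCat.of k))

/-- the structure map of the thickening -/
noncomputable def kTop (D : X.IdealSheafData) (N : ℕ) : k →+* Γ((D ^ N).subscheme, ⊤) :=
  ((Scheme.ΓSpecIso (CommRingCat.of k)).inv ≫ ((D ^ N).subschemeι ≫ f).appTop).hom

/-- the structure map of an affine open -/
noncomputable def kLoc (V : X.Opens) : k →+* Γ(X, V) :=
  ((Scheme.ΓSpecIso (CommRingCat.of k)).inv ≫ f.appTop ≫ X.presheaf.map (homOfLE le_top).op).hom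

theorem lifts_kLoc (N : ℕ) (V : X.affineOpens) (c : k) : Lifts D V (kTop f D N c) (kLoc f V.1 c) := by
  unfold Lifts kTop kLoc
  have h1 : (X.presheaf.map (homOfLE le_top : V.1 ⟶ ⊤).op) ≫ (D ^ N).subschemeι.app V.1 =
      (D ^ N).subschemeι.appTop ≫ (D ^ N).subscheme.presheaf.map (homOfLE le_top).op :=
    (D ^ N).subschemeι.naturality _
  have h2 : ((Scheme.ΓSpecIso (CommRingCat.of k)).inv ≫ f.appTop ≫ X.presheaf.map (homOfLE le_top : V.1 ⟶ ⊤).op) ≫
      (D ^ N).subschemeι.app V.1 = ((Scheme.ΓSpecIso (CommRingCat.of k)).inv ≫ ((D ^ N).subschemeι ≫ f).appTop) ≫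
        (D ^ N).subscheme.presheaf.map (homOfLE le_top).op := by
    rw [Category.assoc, Category.assoc, h1, Scheme.Hom.comp_appTop, Category.assoc, Category.assoc]
  exact congr($h2 c)

/-- evaluation at a pair of global functions -/
noncomputable def ev {N : ℕ} (x y : Γ((D ^ N).subscheme, ⊤)) : MvPolynomial (Fin 2) k →+* Γ((D ^ N).subscheme, ⊤) :=
  eval₂Hom (kTop f D N) ![x, y]

theorem lifts_ev {N : ℕ} {x y : Γ((D ^ N).subscheme, ⊤)} {V : X.affineOpens} {a b : Γ(X, V.1)}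
    (ha : Lifts D V x a) (hb : Lifts D V y b) (p : MvPolynomial (Fin 2) k) :
    Lifts D V (ev f x y p) (eval₂Hom (kLoc f V.1) ![a, b] p) := by
  have : ((D ^ N).subschemeι.app V.1).hom.comp (eval₂Hom (kLoc f V.1) ![a, b]) =
      ((D ^ N).subscheme.presheaf.map (homOfLE le_top : (D ^ N).subschemeι ⁻¹ᵁ V.1 ⟶ ⊤).op).hom.comp (ev f x y) := by
    refine MvPolynomial.ringHom_ext (fun c => ?_) (fun i => ?_)
    · rw [RingHom.comp_apply, RingHom.comp_apply, ev, eval₂Hom_C, eval₂Hom_C]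
      exact lifts_kLoc f N V c
    · rw [RingHom.comp_apply, RingHom.comp_apply, ev, eval₂Hom_X', eval₂Hom_X']
      fin_cases i
      · exact ha
      · exact hb
  exact congr($this p)

section main

variable {n : ℕ} {xs ys : ∀ N, Γ((D ^ N).subscheme, ⊤)}
  (hx : ∀ {a b : ℕ} (h : a ≤ b), (incl D h).appTop (xs b) = xs a)
  (hy : ∀ {a b : ℕ} (h : a ≤ b), (incl D h).appTop (ys b) = ys a)
  (hgen : ∀ (V : X.affineOpens) (a b : Γ(X, V.1)), Lifts D V (xs (n + 1)) a → Lifts D V (ys (n + 1)) b →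
    Ideal.span {a, b} ⊔ (D ^ (n + 1)).ideal V = (D ^ n).ideal V)

include hx hy hgen

theorem exists_pair (N : ℕ) (V : X.affineOpens) : ∃ a b : Γ(X, V.1), Lifts D V (xs N) a ∧ Lifts D V (ys N) b ∧
    Ideal.span {a, b} ⊔ (D.ideal V) ^ (n + 1) = (D.ideal V) ^ n := by
  obtain ⟨a, ha⟩ := exists_lifts V (xs (max N (n + 1)))
  obtain ⟨b, hb⟩ := exists_lifts V (ys (max N (n + 1)))
  exact ⟨a, b, ha.of_le (le_max_left _ _) (hx _), hb.of_le (le_max_left _ _) (hy _),
    hgen V a b (ha.of_le (le_max_right _ _) (hx _)) (hb.of_le (le_max_right _ _) (hy _))⟩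

/-- A map to a thickening on which `𝔪^m` vanishes factors through the `nm`-th thickening. -/
theorem pow_le_ker {N : ℕ} {T : Scheme.{u}} (t : T ⟶ (D ^ N).subscheme) [QuasiCompact t] (m : ℕ) (hN : n * m ≤ N)
    (ht : ∀ p ∈ (mm k) ^ m, t.appTop (ev f (xs N) (ys N) p) = 0) : D ^ (n * m) ≤ (t ≫ (D ^ N).subschemeι).ker := by
  intro V s hs
  obtain ⟨a, b, ha, hb, hab⟩ := exists_pair hx hy hgen N V
  rw [Scheme.Hom.ker_apply]
  have h1 : (D ^ (n * m)).ideal V = Ideal.span {a, b} ^ m ⊔ (D ^ N).ideal V := (pow_sup_pow_eq hab hN).symm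
  rw [h1] at hs
  refine (sup_le ?_ ?_ : Ideal.span {a, b} ^ m ⊔ (D ^ N).ideal V ≤ _) hs
  · rw [← map_mm (kLoc f V.1) a b, ← Ideal.map_pow, Ideal.map_le_iff_le_comap]
    intro p hp
    rw [Ideal.mem_comap, RingHom.mem_ker]
    have h2 : t.app ((D ^ N).subschemeι ⁻¹ᵁ V.1) ((D ^ N).subschemeι.app V.1 (eval₂Hom (kLoc f V.1) ![a, b] p)) = 0 := by
      rw [show (D ^ N).subschemeι.app V.1 (eval₂Hom (kLoc f V.1) ![a, b] p) = _ from lifts_ev f ha hb p]
      have h3 := congr($(t.naturality (homOfLE le_top : (D ^ N).subschemeι ⁻¹ᵁ V.1 ⟶ ⊤).op) (ev f (xs N) (ys N) p))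
      refine h3.trans ?_
      rw [CommRingCat.comp_apply]
      have h4 : (t.app ⊤) (ev f (xs N) (ys N) p) = 0 := ht p hp
      rw [h4, map_zero]
    exact h2
  · intro s hs
    rw [RingHom.mem_ker]
    have h2 : t.app ((D ^ N).subschemeι ⁻¹ᵁ V.1) ((D ^ N).subschemeι.app V.1 s) = 0 := by
      rw [(app_eq_zero_iff V s).mpr hs, map_zero]
    exact h2

theorem ev_eq_zero {N m : ℕ} (hN : N ≤ n * m) {p : MvPolynomial (Fin 2) k} (hp : p ∈ (mm k) ^ m) :
    ev f (xs N) (ys N) p = 0 := by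
  refine eq_zero_of_local _ fun V => ?_
  obtain ⟨a, b, ha, hb, hab⟩ := exists_pair hx hy hgen N V
  refine (lifts_ev f ha hb p).symm.trans ?_
  rw [app_eq_zero_iff]
  refine Ideal.pow_le_pow_right hN ?_
  rw [pow_mul]
  exact Ideal.pow_right_mono (hab ▸ le_sup_left) _ (eval₂_mem _ a b hp)

theorem mem_of_ev_eq_zero (hn : 0 < n) (V : X.affineOpens)
    (hG : ∀ (a b : Γ(X, V.1)), Lifts D V (xs (n + 1)) a → Lifts D V (ys (n + 1)) b →
      ∀ (c : k →+* Γ(X, V.1)) (d : ℕ) (G : MvPolynomial (Fin 2) k), G.IsHomogeneous d → G ≠ 0 →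
        eval₂ c ![a, b] G ∉ (D ^ (n * d + 1)).ideal V)
    (m : ℕ) {p : MvPolynomial (Fin 2) k} (hp : ev f (xs (n * m)) (ys (n * m)) p = 0) : p ∈ (mm k) ^ m := by
  obtain ⟨a, ha⟩ := exists_lifts V (xs (max (n * m) (n + 1)))
  obtain ⟨b, hb⟩ := exists_lifts V (ys (max (n * m) (n + 1)))
  have ha1 := ha.of_le (le_max_left _ _) (hx _)
  have hb1 := hb.of_le (le_max_left _ _) (hy _)
  have ha2 := ha.of_le (le_max_right _ _) (hx _)
  have hb2 := hb.of_le (le_max_right _ _) (hy _)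
  refine mem_of_eval₂_mem (kLoc f V.1) a b (D.ideal V) n hn ?_ (fun d G hGd hG0 => hG a b ha2 hb2 _ d G hGd hG0) ?_
  · have := hgen V a b ha2 hb2
    exact le_sup_left.trans this.le
  · have h1 := lifts_ev f ha1 hb1 p
    rw [hp] at h1
    unfold Lifts at h1
    rw [map_zero, app_eq_zero_iff] at h1
    exact h1

end main

/-- Criterion for a square of closed subschemes of `Z` over a closed immersion to be cartesian. -/
theorem isPullback_of_lift {Y Y' S S' Z : Scheme.{u}} (j : Y ⟶ Y') (r : Y ⟶ S) (r' : Y' ⟶ S') (s : S ⟶ S')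
    [Mono s] (ι : Y ⟶ Z) [IsClosedImmersion ι] (ι' : Y' ⟶ Z) [IsClosedImmersion ι'] (hι : j ≫ ι' = ι)
    (w : j ≫ r' = r ≫ s) (h : ι.ker ≤ (pullback.fst r' s ≫ ι').ker) : IsPullback j r r' s := by
  let e : Y ≅ pullback r' s :=
    { hom := pullback.lift j r w
      inv := IsClosedImmersion.lift ι (pullback.fst r' s ≫ ι') h
      hom_inv_id := by
        rw [← cancel_mono ι, Category.assoc, IsClosedImmersion.lift_fac, pullback.lift_fst_assoc, hι, Category.id_comp]
      inv_hom_id := by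
        rw [← cancel_mono (pullback.fst r' s), ← cancel_mono ι', Category.assoc, Category.assoc,
          pullback.lift_fst_assoc, hι, IsClosedImmersion.lift_fac, Category.id_comp] }
  exact IsPullback.of_iso_pullback ⟨w⟩ e (pullback.lift_fst _ _ _) (pullback.lift_snd _ _ _)

/-- Given the lifting of functions and two good functions on a thickening, the compatible cartesian system of maps to
`Spec k[X₀, X₁]/𝔪^(m+1)`. -/
theorem exists_formal_of
    (hlift : ∃ m₀ : ℕ, ∀ m, m₀ ≤ m →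
      Function.Surjective (Scheme.IdealSheafData.inclusion (pow_anti D (Nat.le_succ m))).appTop)
    (hfun : ∀ m₀ : ℕ, ∃ (n : ℕ) (x y : Γ((D ^ (n + 1)).subscheme, ⊤)), m₀ ≤ n ∧ 0 < n ∧
      (∀ (V : X.affineOpens) (a b : Γ(X, V.1)),
        (D ^ (n + 1)).subschemeι.app V.1 a = (D ^ (n + 1)).subscheme.presheaf.map (homOfLE le_top).op x →
        (D ^ (n + 1)).subschemeι.app V.1 b = (D ^ (n + 1)).subscheme.presheaf.map (homOfLE le_top).op y →
        Ideal.span {a, b} ⊔ (D ^ (n + 1)).ideal V = (D ^ n).ideal V) ∧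
      (∃ V : X.affineOpens, ∀ (a b : Γ(X, V.1)),
        (D ^ (n + 1)).subschemeι.app V.1 a = (D ^ (n + 1)).subscheme.presheaf.map (homOfLE le_top).op x →
        (D ^ (n + 1)).subschemeι.app V.1 b = (D ^ (n + 1)).subscheme.presheaf.map (homOfLE le_top).op y →
        ∀ (c : k →+* Γ(X, V.1)) (d : ℕ) (G : MvPolynomial (Fin 2) k), G.IsHomogeneous d → G ≠ 0 →
          MvPolynomial.eval₂ c ![a, b] G ∉ (D ^ (n * d + 1)).ideal V)) :
    ∃ (n : ℕ) (r : ∀ m : ℕ, (D ^ (n * (m + 1))).subscheme ⟶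
        Spec (CommRingCat.of (MvPolynomial (Fin 2) k ⧸ (mm k) ^ (m + 1)))), 0 < n ∧
      (∀ m, r m ≫ Spec.map (CommRingCat.ofHom (algebraMap k _)) = (D ^ (n * (m + 1))).subschemeι ≫ f) ∧
      (∀ m, IsPullback (Scheme.IdealSheafData.inclusion (pow_anti D (Nat.mul_le_mul_left n (Nat.le_succ (m + 1)))))
        (r m) (r (m + 1)) (CohB1.specQuotTrans (mm k) m)) ∧
      (∀ m, Function.Injective (r m).appTop) := by
  obtain ⟨m₀, hs⟩ := hlift
  obtain ⟨n, x, y, hm, hn, hgen₀, V, hG₀⟩ := hfun m₀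
  obtain ⟨xs, hx, hxn⟩ := exists_system D hs (j₀ := n + 1) (hm.trans (Nat.le_succ n)) x
  obtain ⟨ys, hy, hyn⟩ := exists_system D hs (j₀ := n + 1) (hm.trans (Nat.le_succ n)) y
  have hgen : ∀ (V : X.affineOpens) (a b : Γ(X, V.1)), Lifts D V (xs (n + 1)) a → Lifts D V (ys (n + 1)) b →
      Ideal.span {a, b} ⊔ (D ^ (n + 1)).ideal V = (D ^ n).ideal V := by
    rw [hxn, hyn]
    exact hgen₀
  have hG : ∀ (a b : Γ(X, V.1)), Lifts D V (xs (n + 1)) a → Lifts D V (ys (n + 1)) b →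
      ∀ (c : k →+* Γ(X, V.1)) (d : ℕ) (G : MvPolynomial (Fin 2) k), G.IsHomogeneous d → G ≠ 0 →
        eval₂ c ![a, b] G ∉ (D ^ (n * d + 1)).ideal V := by
    rw [hxn, hyn]
    exact hG₀
  let ρ (m : ℕ) : MvPolynomial (Fin 2) k ⧸ (mm k) ^ (m + 1) →+* Γ((D ^ (n * (m + 1))).subscheme, ⊤) :=
    Ideal.Quotient.lift ((mm k) ^ (m + 1)) (ev f (xs (n * (m + 1))) (ys (n * (m + 1))))
      (fun p hp => ev_eq_zero f hx hy hgen le_rfl hp)
  have hρ : ∀ m p, ρ m (Ideal.Quotient.mk _ p) = ev f (xs (n * (m + 1))) (ys (n * (m + 1))) p := fun m p =>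
    Ideal.Quotient.lift_mk _ _ _
  -- compatibility of evaluations
  have hev : ∀ {a b : ℕ} (h : a ≤ b) (p : MvPolynomial (Fin 2) k),
      (incl D h).appTop (ev f (xs b) (ys b) p) = ev f (xs a) (ys a) p := by
    intro a b h p
    have : (incl D h).appTop.hom.comp (ev f (xs b) (ys b)) = ev f (xs a) (ys a) := by
      refine MvPolynomial.ringHom_ext (fun c => ?_) (fun i => ?_)
      · rw [RingHom.comp_apply, ev, ev, eval₂Hom_C, eval₂Hom_C]
        have h1 : ((Scheme.ΓSpecIso (CommRingCat.of k)).inv ≫ ((D ^ b).subschemeι ≫ f).appTop) ≫ (incl D h).appTop =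
            (Scheme.ΓSpecIso (CommRingCat.of k)).inv ≫ ((D ^ a).subschemeι ≫ f).appTop := by
          rw [Category.assoc, ← Scheme.Hom.comp_appTop, incl, Scheme.IdealSheafData.inclusion_subschemeι_assoc]
        exact congr($h1 c)
      · rw [RingHom.comp_apply, ev, ev, eval₂Hom_X', eval₂Hom_X']
        fin_cases i
        · exact hx h
        · exact hy h
    exact congr($this p)
  refine ⟨n, fun m => toSp (ρ m), hn, fun m => ?_, fun m => ?_, fun m => ?_⟩
  · rw [toSp_comp, eq_toSp ((D ^ (n * (m + 1))).subschemeι ≫ f)]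
    congr 1
    ext c
    exact eval₂Hom_C _ _ c
  · have hw : incl D (Nat.mul_le_mul_left n (Nat.le_succ (m + 1))) ≫ toSp (ρ (m + 1)) =
        toSp (ρ m) ≫ CohB1.specQuotTrans (mm k) m := by
      rw [comp_toSp, CohB1.specQuotTrans, toSp_comp]
      congr 1
      refine Ideal.Quotient.ringHom_ext (RingHom.ext fun p => ?_)
      exact (congrArg (incl D (Nat.mul_le_mul_left n (Nat.le_succ (m + 1)))).appTop.hom (hρ (m + 1) p)).trans
        ((hev (Nat.mul_le_mul_left n (Nat.le_succ (m + 1))) p).trans (hρ m p).symm)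
    have hmono : IsClosedImmersion (CohB1.specQuotTrans (mm k) m) :=
      IsClosedImmersion.spec_of_surjective _
        (Ideal.Quotient.factor_surjective (Ideal.pow_le_pow_right (Nat.le_succ (m + 1))))
    refine isPullback_of_lift _ _ _ _ (D ^ (n * (m + 1))).subschemeι (D ^ (n * (m + 1 + 1))).subschemeι
      (Scheme.IdealSheafData.inclusion_subschemeι _) hw ?_
    rw [Scheme.IdealSheafData.ker_subschemeι]
    refine pow_le_ker f hx hy hgen _ (m + 1) (Nat.mul_le_mul_left n (Nat.le_succ (m + 1))) fun p hp => ?_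
    rw [← hρ (m + 1) p]
    have h1 : (pullback.fst (toSp (ρ (m + 1))) (CohB1.specQuotTrans (mm k) m)).appTop.hom.comp (ρ (m + 1)) =
        ((Scheme.ΓSpecIso _).inv ≫ (pullback.snd (toSp (ρ (m + 1))) (CohB1.specQuotTrans (mm k) m)).appTop).hom.comp
          (Ideal.Quotient.factor (Ideal.pow_le_pow_right (Nat.le_succ (m + 1)))) := by
      apply toSp_injective
      rw [← comp_toSp, ← toSp_comp, ← eq_toSp]
      exact pullback.condition
    have h2 := congr($h1 (Ideal.Quotient.mk _ p))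
    refine h2.trans ?_
    rw [RingHom.comp_apply, Ideal.Quotient.factor_mk, Ideal.Quotient.eq_zero_iff_mem.mpr hp, map_zero]
  · refine injective_appTop_toSp ?_
    rw [injective_iff_map_eq_zero]
    intro p hp
    obtain ⟨p, rfl⟩ := Ideal.Quotient.mk_surjective p
    rw [hρ] at hp
    exact Ideal.Quotient.eq_zero_iff_mem.mpr (mem_of_ev_eq_zero f hx hy hgen hn V hG (m + 1) hp)

end K621.ContrFormal
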