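import Groth.Agent.AlgSp.K621.ContrAlg
import Mathlib.AlgebraicGeometry.Morphisms.ClosedImmersion
import Mathlib.AlgebraicGeometry.Morphisms.Proper

/-!
# Contraction of a curve (S14992): the compatible system of maps from the thickenings to `Spec k[X₀, X₁]/𝔪^(m+1)`

Author: helper621
-/

set_option autoImplicit false
universe u
open CategoryTheory CategoryTheory.Limits AlgebraicGeometry Topology TopologicalSpace Opposite

namespace K621.ContrSystem

open MvPolynomial K621.ContrDefs K621.ContrAlg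

section toSp

variable {Y : Scheme.{u}} {R S : Type u} [CommRing R] [CommRing S]

/-- the morphism to an affine scheme given by a ring homomorphism -/
noncomputable def toSp (ρ : R →+* Γ(Y, ⊤)) : Y ⟶ Spec (CommRingCat.of R) := Y.toSpecΓ ≫ Spec.map (CommRingCat.ofHom ρ)

theorem toSp_comp (ρ : R →+* Γ(Y, ⊤)) (φ : S →+* R) :
    toSp ρ ≫ Spec.map (CommRingCat.ofHom φ) = toSp (ρ.comp φ) := by
  rw [toSp, toSp, Category.assoc, ← Spec.map_comp, ← CommRingCat.ofHom_comp]

theorem comp_toSp {T : Scheme.{u}} (g : T ⟶ Y) (ρ : R →+* Γ(Y, ⊤)) :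
    g ≫ toSp ρ = toSp (g.appTop.hom.comp ρ) := by
  rw [toSp, toSp, Scheme.toSpecΓ_naturality_assoc, ← Spec.map_comp]
  rfl

theorem eq_toSp (h : Y ⟶ Spec (CommRingCat.of R)) :
    h = toSp ((Scheme.ΓSpecIso (CommRingCat.of R)).inv ≫ h.appTop).hom := by
  rw [toSp, CommRingCat.ofHom_hom, Spec.map_comp, ← Scheme.toSpecΓ_naturality_assoc,
    toSpecΓ_SpecMap_ΓSpecIso_inv, Category.comp_id]

theorem ΓSpecIso_inv_toSp (ρ : R →+* Γ(Y, ⊤)) :
    ((Scheme.ΓSpecIso (CommRingCat.of R)).inv ≫ (toSp ρ).appTop).hom = ρ := by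
  rw [toSp, Scheme.Hom.comp_appTop, Scheme.toSpecΓ_appTop, Scheme.ΓSpecIso_naturality, Iso.inv_hom_id_assoc,
    CommRingCat.hom_ofHom]

theorem toSp_injective {ρ ρ' : R →+* Γ(Y, ⊤)} (h : toSp ρ = toSp ρ') : ρ = ρ' := by
  rw [← ΓSpecIso_inv_toSp ρ, h, ΓSpecIso_inv_toSp]

theorem injective_appTop_toSp {ρ : R →+* Γ(Y, ⊤)} (h : Function.Injective ρ) : Function.Injective (toSp ρ).appTop := by
  have h1 : (toSp ρ).appTop = (Scheme.ΓSpecIso (CommRingCat.of R)).hom ≫ CommRingCat.ofHom ρ := by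
    rw [← ΓSpecIso_inv_toSp ρ, CommRingCat.ofHom_hom, Iso.hom_inv_id_assoc]
    rw [ΓSpecIso_inv_toSp ρ]
  have h2 : Function.Injective (((Scheme.ΓSpecIso (CommRingCat.of R)).hom ≫ CommRingCat.ofHom ρ).hom) := by
    rw [CommRingCat.hom_comp, RingHom.coe_comp]
    exact h.comp (ConcreteCategory.bijective_of_isIso (Scheme.ΓSpecIso (CommRingCat.of R)).hom).1
  rw [h1]
  exact h2

end toSp

variable {X : Scheme.{u}} (D : X.IdealSheafData)

/-- the inclusion of thickenings -/
noncomputable abbrev incl {a b : ℕ} (h : a ≤ b) : (D ^ a).subscheme ⟶ (D ^ b).subscheme :=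
  Scheme.IdealSheafData.inclusion (pow_anti D h)

theorem incl_incl {a b c : ℕ} (h : a ≤ b) (h' : b ≤ c) : incl D h ≫ incl D h' = incl D (h.trans h') :=
  Scheme.IdealSheafData.inclusion_comp _ _

theorem incl_appTop_appTop {a b c : ℕ} (h : a ≤ b) (h' : b ≤ c) (z : Γ((D ^ c).subscheme, ⊤)) :
    (incl D h).appTop ((incl D h').appTop z) = (incl D (h.trans h')).appTop z := by
  rw [← incl_incl D h h', Scheme.Hom.comp_appTop]
  rfl

section system

variable {m₀ : ℕ} (hs : ∀ m, m₀ ≤ m → Function.Surjective (incl D (Nat.le_succ m)).appTop) {j₀ : ℕ} (hj : m₀ ≤ j₀)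
  (x : Γ((D ^ j₀).subscheme, ⊤))

/-- successive lifts -/
noncomputable def lifts : ∀ i : ℕ, Γ((D ^ (j₀ + i)).subscheme, ⊤)
  | 0 => x
  | i + 1 => Classical.choose (hs (j₀ + i) (hj.trans (Nat.le_add_right _ _)) (lifts i))

theorem lifts_succ (i : ℕ) :
    (incl D (Nat.le_succ (j₀ + i))).appTop (lifts D hs hj x (i + 1)) = lifts D hs hj x i :=
  Classical.choose_spec (hs (j₀ + i) (hj.trans (Nat.le_add_right _ _)) (lifts D hs hj x i))

theorem lifts_le {i i' : ℕ} (h : i ≤ i') :
    (incl D (Nat.add_le_add_left h j₀)).appTop (lifts D hs hj x i') = lifts D hs hj x i := by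
  induction i', h using Nat.le_induction with
  | base =>
    rw [incl, Scheme.IdealSheafData.inclusion_id]
    rfl
  | succ i' h ih =>
    rw [← incl_appTop_appTop D (Nat.add_le_add_left h j₀) (Nat.le_succ (j₀ + i')), lifts_succ, ih]

include hs hj in
/-- A function on one thickening extends to a compatible system. -/
theorem exists_system : ∃ xs : ∀ N, Γ((D ^ N).subscheme, ⊤),
    (∀ {a b : ℕ} (h : a ≤ b), (incl D h).appTop (xs b) = xs a) ∧ xs j₀ = x := by
  refine ⟨fun N => (incl D (Nat.le_add_left N j₀)).appTop (lifts D hs hj x N), fun {a b} h => ?_, ?_⟩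
  · dsimp only
    rw [incl_appTop_appTop, ← incl_appTop_appTop D (Nat.le_add_left a j₀) (Nat.add_le_add_left h j₀),
      lifts_le D hs hj x h]
  · exact lifts_le D hs hj x (Nat.zero_le j₀)

end system

end K621.ContrSystem
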