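import Groth.Agent.AlgSp.K621.ContrDatum
import Groth.Agent.AlgSp.K621.ContrSystem

/-!
# Contraction of a curve (S14992): properties of the neighbourhood data

Author: helper621
-/

set_option autoImplicit false
universe u
open CategoryTheory CategoryTheory.Limits AlgebraicGeometry Topology TopologicalSpace Opposite

namespace K621.ContrGood

open K621.ContrDefs K621.ContrDatum K621.ContrSystem

section affine

variable {C : Type u} [CommRing C]

instance isClosedImmersion_spq (I : Ideal C) : IsClosedImmersion (spq I) :=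
  IsClosedImmersion.spec_of_surjective _ Ideal.Quotient.mk_surjective

theorem range_spq (M : Ideal C) (hM : M.IsMaximal) :
    Set.range (spq M) = {(⟨M, hM.isPrime⟩ : PrimeSpectrum C)} := by
  have h1 : Set.range (spq M) = PrimeSpectrum.zeroLocus (M : Set C) := by
    have := range_comap_of_surjective (C ⧸ M) (Ideal.Quotient.mk M) Ideal.Quotient.mk_surjective
    rw [Ideal.mk_ker] at this
    exact this
  rw [h1]
  ext x
  rw [PrimeSpectrum.mem_zeroLocus, SetLike.coe_subset_coe]
  constructor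
  · intro h
    have := hM.eq_of_le x.2.ne_top h
    exact PrimeSpectrum.ext this.symm
  · rintro rfl
    exact le_rfl

theorem range_of_isPullback {P X Y Z : Scheme.{u}} {a : P ⟶ X} {b : P ⟶ Y} {g : X ⟶ Z} {h : Y ⟶ Z}
    (H : IsPullback a b g h) : Set.range a = g ⁻¹' Set.range h := by
  rw [← H.isoPullback_hom_fst, ← Scheme.Pullback.range_fst]
  ext x
  constructor
  · rintro ⟨y, rfl⟩
    exact ⟨H.isoPullback.hom y, by rw [← Scheme.Hom.comp_apply]⟩
  · rintro ⟨y, rfl⟩
    exact ⟨H.isoPullback.inv y, by rw [← Scheme.Hom.comp_apply, Iso.inv_hom_id_assoc]⟩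

/-- A morphism to `Spec C` killing `I` factors through `Spec C/I`. -/
theorem ker_spq_le {T : Scheme.{u}} (t : T ⟶ Spec (CommRingCat.of C)) (I : Ideal C)
    (h : ∀ a ∈ I, ((Scheme.ΓSpecIso (CommRingCat.of C)).inv ≫ t.appTop).hom a = 0) : (spq I).ker ≤ t.ker := by
  have h1 : t = toSp (Ideal.Quotient.lift I ((Scheme.ΓSpecIso (CommRingCat.of C)).inv ≫ t.appTop).hom h) ≫ spq I := by
    rw [toSp_comp]
    exact eq_toSp t
  rw [h1]
  exact Scheme.Hom.le_ker_comp _ _

theorem app_eq_zero_of_comp {T : Scheme.{u}} (I : Ideal C) (t : T ⟶ Spec (CommRingCat.of (C ⧸ I))) (a : C) (ha : a ∈ I) :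
    ((Scheme.ΓSpecIso (CommRingCat.of C)).inv ≫ (t ≫ spq I).appTop).hom a = 0 := by
  have h1 : ((Scheme.ΓSpecIso (CommRingCat.of C)).inv ≫ (t ≫ spq I).appTop).hom =
      ((Scheme.ΓSpecIso (CommRingCat.of (C ⧸ I))).inv ≫ t.appTop).hom.comp (Ideal.Quotient.mk I) := by
    apply toSp_injective
    rw [← eq_toSp, ← toSp_comp, ← eq_toSp]
  rw [h1, RingHom.comp_apply, Ideal.Quotient.eq_zero_iff_mem.mpr ha, map_zero]

/-- The inverse image of `Spec C/I` in `Spec C'` is `Spec C'/IC'`. -/
theorem comap_ker_spq {C' : Type u} [CommRing C'] (φ : C →+* C') (I : Ideal C) :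
    (spq I).ker.comap (Spec.map (CommRingCat.ofHom φ)) = (spq (I.map φ)).ker := by
  apply le_antisymm
  · rw [← Scheme.IdealSheafData.le_map_iff_comap_le, ← Scheme.Hom.ker_comp]
    have h1 : spq (I.map φ) ≫ Spec.map (CommRingCat.ofHom φ) =
        Spec.map (CommRingCat.ofHom (Ideal.quotientMap (I.map φ) φ Ideal.le_comap_map)) ≫ spq I := by
      rw [← Spec.map_comp, ← Spec.map_comp, ← CommRingCat.ofHom_comp, ← CommRingCat.ofHom_comp]
      congr 2
    rw [h1]
    exact Scheme.Hom.le_ker_comp _ _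
  · rw [← Scheme.IdealSheafData.ker_fst_of_isClosedImmersion]
    refine ker_spq_le _ _ ?_
    intro a ha
    have h2 : I.map φ ≤ RingHom.ker ((Scheme.ΓSpecIso (CommRingCat.of C')).inv ≫
        (pullback.fst (Spec.map (CommRingCat.ofHom φ)) (spq I)).appTop).hom := by
      rw [Ideal.map_le_iff_le_comap]
      intro b hb
      rw [Ideal.mem_comap, RingHom.mem_ker]
      have h3 := app_eq_zero_of_comp I (pullback.snd (Spec.map (CommRingCat.ofHom φ)) (spq I)) b hb
      rw [← pullback.condition, Scheme.Hom.comp_appTop, ← Scheme.ΓSpecIso_inv_naturality_assoc] at h3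
      exact h3
    exact h2 ha

end affine

variable {k : Type u} [Field k] {X : Scheme.{u}} {f : X ⟶ Spec (CommRingCat.of k)} {D : X.IdealSheafData} {n : ℕ}
  {C : Type u} [CommRing C] [Algebra k C] {M : Ideal C}

theorem sub_of_isPullback {d : Datum f D n C M} (h : (spq M).ker.comap d.q ≤ D.comap d.φ) {C' : Type u} [CommRing C']
    [Algebra C C'] [Algebra k C'] {d' : Datum f D n C' (M.map (algebraMap C C'))} {p : d'.W ⟶ d.W}
    (hp : p ≫ d.q = d'.q ≫ Spec.map (CommRingCat.ofHom (algebraMap C C'))) (hp' : p ≫ d.φ = d'.φ) :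
    (spq (M.map (algebraMap C C'))).ker.comap d'.q ≤ D.comap d'.φ := by
  rw [← comap_ker_spq, ← Scheme.IdealSheafData.comap_comp, ← hp, ← hp', Scheme.IdealSheafData.comap_comp,
    Scheme.IdealSheafData.comap_comp]
  exact Scheme.IdealSheafData.comap_mono _ h

theorem isIso_pullback_snd (d : Datum f D n C M) (hn : 0 < n) (h : (spq M).ker.comap d.q ≤ D.comap d.φ)
    {Y : Scheme.{u}} (i : Y ⟶ X) [IsClosedImmersion i] (hi : i.ker = D) : IsIso (pullback.snd d.φ i) := by
  have hD : D ^ (n * 2) ≤ D := by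
    have := pow_anti D (a := 1) (b := n * 2) (by omega)
    rwa [pow_one] at this
  have h1 : ((D ^ (n * 2)).subschemeι).ker ≤ i.ker := by
    rw [Scheme.IdealSheafData.ker_subschemeι, hi]
    exact hD
  let a : Y ⟶ (D ^ (n * 2)).subscheme := IsClosedImmersion.lift (D ^ (n * 2)).subschemeι i h1
  have ha : a ≫ (D ^ (n * 2)).subschemeι = i := IsClosedImmersion.lift_fac _ _ _
  have haw : (a ≫ d.w) ≫ d.φ = 𝟙 Y ≫ i := by rw [Category.assoc, d.hw, ha, Category.id_comp]
  have h2 : (spq (M ^ 2)).ker ≤ (pullback.fst d.φ i ≫ d.q).ker := by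
    have h3 : spq M = Spec.map (CommRingCat.ofHom (Ideal.Quotient.factor (Ideal.pow_le_self two_ne_zero) :
        C ⧸ M ^ 2 →+* C ⧸ M)) ≫ spq (M ^ 2) := by
      rw [← Spec.map_comp, ← CommRingCat.ofHom_comp]
      congr 2
    have h4 : (spq (M ^ 2)).ker ≤ (spq M).ker := by
      rw [h3]
      exact Scheme.Hom.le_ker_comp _ _
    refine h4.trans ?_
    rw [Scheme.Hom.ker_comp, Scheme.IdealSheafData.le_map_iff_comap_le,
      Scheme.IdealSheafData.ker_fst_of_isClosedImmersion, hi]
    exact h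
  let l : pullback d.φ i ⟶ (D ^ (n * 2)).subscheme :=
    d.h₁.lift (pullback.fst d.φ i) (IsClosedImmersion.lift (spq (M ^ 2)) (pullback.fst d.φ i ≫ d.q) h2)
      (IsClosedImmersion.lift_fac _ _ _).symm
  have hl : l ≫ d.w = pullback.fst d.φ i := d.h₁.lift_fst _ _ _
  have hl' : l = pullback.snd d.φ i ≫ a := by
    rw [← cancel_mono (D ^ (n * 2)).subschemeι, Category.assoc, ha, ← d.hw, reassoc_of% hl, pullback.condition]
  refine ⟨pullback.lift (a ≫ d.w) (𝟙 Y) haw, ?_, pullback.lift_snd _ _ _⟩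
  apply pullback.hom_ext
  · rw [Category.assoc, pullback.lift_fst, ← Category.assoc, ← hl', hl, Category.id_comp]
  · rw [Category.assoc, pullback.lift_snd, Category.comp_id, Category.id_comp]

theorem preimage_eq_range (hM : M.IsMaximal) (d : Datum f D n C M) :
    d.q ⁻¹' {(⟨M, hM.isPrime⟩ : PrimeSpectrum C)} = Set.range
      (Scheme.IdealSheafData.inclusion (pow_anti D (Nat.le_mul_of_pos_right n two_pos)) ≫ d.w) := by
  rw [range_of_isPullback d.h₀, range_spq M hM]

theorem preimage_eq (hM : M.IsMaximal) (d : Datum f D n C M) (hn : 0 < n)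
    (h : (spq M).ker.comap d.q ≤ D.comap d.φ) :
    d.q ⁻¹' {(⟨M, hM.isPrime⟩ : PrimeSpectrum C)} = d.φ ⁻¹' (D.support : Set X) := by
  apply le_antisymm
  · rw [preimage_eq_range hM d]
    rintro _ ⟨y, rfl⟩
    rw [Set.mem_preimage, ← Scheme.Hom.comp_apply, Category.assoc, d.hw, Scheme.IdealSheafData.inclusion_subschemeι,
      ← Scheme.IdealSheafData.support_pow D n hn.ne', ← Scheme.IdealSheafData.range_subschemeι]
    exact ⟨y, rfl⟩
  · have h1 := Scheme.IdealSheafData.support_antitone h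
    rw [Scheme.IdealSheafData.support_comap, Scheme.IdealSheafData.support_comap] at h1
    intro x hx
    have h2 := h1 hx
    have h3 : d.q x ∈ ((spq M).ker.support : Set (Spec (CommRingCat.of C))) := h2
    rw [Scheme.Hom.support_ker, (spq M).isClosedEmbedding.isClosed_range.closure_eq] at h3
    rw [Set.mem_preimage, ← range_spq M hM]
    exact h3

end K621.ContrGood
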