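import Groth.Agent.AlgSp.K621.ContrDefs
import Mathlib.RingTheory.AdicCompletion.Algebra
import Mathlib.AlgebraicGeometry.Morphisms.ClosedImmersion
import Mathlib.AlgebraicGeometry.Morphisms.Proper

/-!
# Contraction of a curve (S14992): surjectivity of the algebraization over the completion

Author: helper621
-/

set_option autoImplicit false
universe u
open CategoryTheory CategoryTheory.Limits AlgebraicGeometry Topology TopologicalSpace

namespace K621.ContrSurj

/-- An element of the completion which is zero modulo all powers is zero. -/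
theorem eq_zero_of_evalₐ {P : Type u} [CommRing P] (𝔪 : Ideal P) (b : AdicCompletion 𝔪 P)
    (h : ∀ m : ℕ, AdicCompletion.evalₐ 𝔪 (m + 1) b = 0) : b = 0 := by
  refine AdicCompletion.ext_evalₐ fun n => ?_
  rw [map_zero]
  cases n with
  | zero =>
    have : Subsingleton (P ⧸ 𝔪 ^ 0) := Ideal.Quotient.subsingleton_iff.mpr (by rw [pow_zero, Ideal.one_eq_top])
    exact Subsingleton.elim _ _
  | succ m => exact h m

/-- Let `q : W → Spec P^` be proper such that for every `m` the functions on `Spec (P/𝔪^(m+1))` act faithfully on the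
thickening `Z m` of `W`; then `q` is surjective. -/
theorem surjective_of_injective {P : Type u} [CommRing P] (𝔪 : Ideal P)
    {W : Scheme.{u}} (q : W ⟶ Spec (CommRingCat.of (AdicCompletion 𝔪 P)))
    [IsProper q] (Z : ℕ → Scheme.{u}) (w : ∀ m, Z m ⟶ W) (r : ∀ m, Z m ⟶ Spec (CommRingCat.of (P ⧸ 𝔪 ^ (m + 1))))
    (hw : ∀ m, w m ≫ q = r m ≫ Spec.map (CommRingCat.ofHom (AdicCompletion.evalₐ 𝔪 (m + 1)).toRingHom))
    (hinj : ∀ m, Function.Injective (r m).appTop) : Surjective q := by
  have hinj' : ∀ m, Function.Injective ((Scheme.ΓSpecIso _).inv ≫ (r m).appTop).hom := by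
    intro m
    rw [CommRingCat.hom_comp, RingHom.coe_comp]
    exact (hinj m).comp (ConcreteCategory.bijective_of_isIso (Scheme.ΓSpecIso _).inv).1
  have hq : Function.Injective q.appTop := by
    rw [injective_iff_map_eq_zero]
    intro b hb
    obtain ⟨b, rfl⟩ := (ConcreteCategory.bijective_of_isIso
      (Scheme.ΓSpecIso (CommRingCat.of (AdicCompletion 𝔪 P))).inv).2 b
    have : (b : AdicCompletion 𝔪 P) = 0 := by
      refine eq_zero_of_evalₐ 𝔪 b fun m => hinj' m ?_
      have h1 : (Scheme.ΓSpecIso (CommRingCat.of (AdicCompletion 𝔪 P))).inv ≫ q.appTop ≫ (w m).appTop =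
          CommRingCat.ofHom (AdicCompletion.evalₐ 𝔪 (m + 1)).toRingHom ≫ (Scheme.ΓSpecIso _).inv ≫ (r m).appTop := by
        rw [← Scheme.Hom.comp_appTop, hw m, Scheme.Hom.comp_appTop, Scheme.ΓSpecIso_inv_naturality_assoc]
      have h2 := congr($(h1) b)
      rw [CommRingCat.comp_apply, CommRingCat.comp_apply, CommRingCat.comp_apply] at h2
      rw [hb, map_zero] at h2
      rw [map_zero]
      exact h2.symm
    rw [this, map_zero]
  have hd : IsDominant q := by
    have : CompactSpace W := QuasiCompact.compactSpace_of_compactSpace q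
    exact isDominant_of_of_appTop_injective hq
  refine ⟨Set.range_eq_univ.mp ?_⟩
  rw [← (q.isClosedMap).isClosed_range.closure_eq]
  exact hd.denseRange.closure_range

end K621.ContrSurj
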