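import Groth.Agent.AlgSp.K621.ContrFormal
import Groth.Agent.AlgSp.K621.ContrSurj
import Groth.Agent.AlgSp.K621.ContrEnd
import Groth.Agent.AlgSp.K295.ContrLift
import Groth.Agent.AlgSp.K295.ContrAlg
import Groth.Agent.AlgSp.K792.ContrTwoMain
import Groth.Agent.AlgSp.K103.ContrA0
import Groth.Agent.AlgSp.K613.ContrNbhd
import Groth.Agent.S0599
import Groth.Agent.S0598

/-!
# Contraction of a curve (S14992): existence of the initial datum

Author: helper621
-/

set_option autoImplicit false
universe u
open CategoryTheory CategoryTheory.Limits AlgebraicGeometry Topology TopologicalSpace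

namespace K621.ContrMain

open K621.ContrDefs K621.ContrDatum K621.ContrGood Groth.Agent.Models2.AmplePull

/-- Fields are G-rings. -/
theorem isGRing_field (k : Type u) [Field k] : CAlg.IsGRing k :=
  have : IsAdicComplete (IsLocalRing.maximalIdeal k) k := by
    rw [IsLocalRing.maximalIdeal_eq_bot]
    infer_instance
  Groth.Agent.S0598.result k

/-- A datum for an effective Cartier divisor which is a proper integral curve with ample conormal sheaf. -/
theorem exists_datum {k : Type u} [Field k] {X : Scheme.{u}} (f : X ⟶ Spec (CommRingCat.of k))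
    [LocallyOfFiniteType f] [QuasiCompact f] [IsSeparated f] {D : X.IdealSheafData}
    (hD : BlowUp.IsEffCartierIdeal D) [IsIntegral D.subscheme] [IsProper (D.subschemeι ≫ f)]
    (hdim : topologicalKrullDim D.subscheme = 1)
    (hamp : CohB1.IsAmple ((Scheme.Modules.pullback D.subschemeι).obj (ClSub.idealMod D))) :
    ∃ (n : ℕ) (_ : 0 < n) (C : Type u) (_ : CommRing C) (_ : Algebra k C) (M : Ideal C) (_ : M.IsMaximal), IsDomain C ∧
      Algebra.FiniteType k C ∧ 2 ≤ ringKrullDim (Localization.AtPrime M) ∧
      ∃ d : Datum f D n C M, Surjective d.q := by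
  obtain ⟨n, r, hn, hr, hpb, hinj⟩ := ContrFormal.exists_formal_of f (K295.ContrLift.lift_functions f D hD hamp)
    (K792.ContrTwoMain.exists_two_functions f D hD hdim hamp)
  have hD1 : D ^ (n * (0 + 1)) ≤ D := by
    have := pow_anti D (a := 1) (b := n * (0 + 1)) (by omega)
    rwa [pow_one] at this
  have hr0 : IsProper (r 0) := by
    have h1 : Surjective (Scheme.IdealSheafData.inclusion hD1) := by
      refine ⟨fun y => ?_⟩
      have hy : (D ^ (n * (0 + 1))).subschemeι y ∈ Set.range D.subschemeι := by
        rw [Scheme.IdealSheafData.range_subschemeι, ← Scheme.IdealSheafData.support_pow D (n * (0 + 1)) (by omega),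
          ← Scheme.IdealSheafData.range_subschemeι]
        exact ⟨y, rfl⟩
      obtain ⟨z, hz⟩ := hy
      refine ⟨z, (D ^ (n * (0 + 1))).subschemeι.isClosedEmbedding.injective ?_⟩
      rw [← hz, ← Scheme.Hom.comp_apply, Scheme.IdealSheafData.inclusion_subschemeι]
    have h2 : UniversallyClosed ((D ^ (n * (0 + 1))).subschemeι ≫ f) := by
      have : UniversallyClosed (Scheme.IdealSheafData.inclusion hD1 ≫ (D ^ (n * (0 + 1))).subschemeι ≫ f) := by
        rw [Scheme.IdealSheafData.inclusion_subschemeι_assoc]
        infer_instance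
      exact UniversallyClosed.of_comp_surjective (Scheme.IdealSheafData.inclusion hD1) _
    have h3 : IsProper ((D ^ (n * (0 + 1))).subschemeι ≫ f) := { }
    rw [← hr 0] at h3
    exact IsProper.of_comp _ (Spec.map (CommRingCat.ofHom (algebraMap k (MvPolynomial (Fin 2) k ⧸ mm k ^ (0 + 1)))))
  obtain ⟨W, φ, q, w, hq, hφ, hwφ, -, hW⟩ := K295.ContrAlg.algebraize f (mm k)
    (fun m => (D ^ (n * (m + 1))).subscheme) (fun m => (D ^ (n * (m + 1))).subschemeι) r hr _
    (fun m => Scheme.IdealSheafData.inclusion_subschemeι _) hpb hr0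
  have hsurj : Surjective q := ContrSurj.surjective_of_injective (mm k) q _ w r (fun m => (hW m).w) hinj
  obtain ⟨C, _, _, _, ε, hε, W', q', φ', w', hq', hsq', hφ', hw', hW'⟩ := ContrApprox.approximate f
    (Groth.Agent.S0599.isGRing_mvPolynomial k (isGRing_field k) 2) (mm k) q φ hφ (1 + 1) (w 1) (r 1) (hW 1)
  let _ : Algebra k C := ((algebraMap (MvPolynomial (Fin 2) k) C).comp (algebraMap k (MvPolynomial (Fin 2) k))).toAlgebra
  have : IsScalarTower k (MvPolynomial (Fin 2) k) C := IsScalarTower.of_algebraMap_eq fun _ => rfl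
  obtain ⟨hM, d, e, he⟩ := ContrInit.exists_datum_etale (f := f) r hpb ε hε q' φ' hφ' w' (hw'.trans (hwφ 1)) hW'
  have hds : Surjective d.q := by
    rw [← he] at hsq'
    exact MorphismProperty.of_precomp @Surjective e.hom d.q (inferInstance : Surjective e.hom) hsq'
  exact ⟨n, hn, ContrInit.exists_datum_domain hM d hds⟩

end K621.ContrMain
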