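import Groth.Agent.AlgSp.K621.ContrGood
import Groth.Agent.Divis.IdealComap
import Mathlib.AlgebraicGeometry.Morphisms.Etale
import Mathlib.AlgebraicGeometry.Morphisms.Finite

/-!
# Contraction of a curve (S14992): shrinking the base

Author: helper621
-/

set_option autoImplicit false
universe u
open CategoryTheory CategoryTheory.Limits AlgebraicGeometry Topology TopologicalSpace Opposite

namespace K621.ContrShrink

open K621.ContrDefs K621.ContrDatum K621.ContrGood

/-- tube lemma -/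
theorem exists_basicOpen {C : Type u} [CommRing C] (M : Ideal C) (hM : M.IsMaximal) {W : Scheme.{u}}
    (q : W ⟶ Spec (CommRingCat.of C)) [IsProper q] (O : W.Opens)
    (hO : ∀ x : W, q x = (⟨M, hM.isPrime⟩ : PrimeSpectrum C) → x ∈ O) :
    ∃ c : C, c ∉ M ∧ ∀ x : W, q x ∈ PrimeSpectrum.basicOpen c → x ∈ O := by
  have h1 : IsClosed (q '' (O : Set W)ᶜ) := q.isClosedMap _ O.isOpen.isClosed_compl
  have h2 : (⟨M, hM.isPrime⟩ : PrimeSpectrum C) ∈ (q '' (O : Set W)ᶜ)ᶜ := by
    rintro ⟨x, hx, hx'⟩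
    exact hx (hO x hx')
  obtain ⟨_, ⟨c, rfl⟩, hc, hc'⟩ := PrimeSpectrum.isTopologicalBasis_basic_opens.exists_subset_of_mem_open h2
    h1.isOpen_compl
  refine ⟨c, hc, fun x hx => ?_⟩
  by_contra hxO
  exact hc' hx ⟨x, hxO, rfl⟩

theorem isFinite_restrict {S T W W' : Scheme.{u}} {p : W' ⟶ W} {q' : W' ⟶ T} {q : W ⟶ S} {G : T ⟶ S}
    (H : IsPullback p q' q G) (U : S.Opens) (hU : IsFinite (q ∣_ U)) : IsFinite (q' ∣_ (G ⁻¹ᵁ U)) := by
  have h1 := (isPullback_morphismRestrict q' (G ⁻¹ᵁ U)).flip.paste_horiz H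
  have h2 := (isPullback_morphismRestrict q U).flip
  have hw : ((q' ⁻¹ᵁ (G ⁻¹ᵁ U)).ι ≫ p) ≫ q = ((q' ∣_ (G ⁻¹ᵁ U)) ≫ (G ∣_ U)) ≫ U.ι := by
    rw [h1.w, Category.assoc, morphismRestrict_ι]
  refine MorphismProperty.of_isPullback (P := @IsFinite) (f' := h2.lift _ _ hw) (g := q ∣_ U) (f := G ∣_ U)
    (IsPullback.of_right (h₁₂ := (q ⁻¹ᵁ U).ι) (h₂₂ := U.ι) (v₁₃ := q) ?_ (h2.lift_snd _ _ hw) h2) hU
  rw [h2.lift_fst, morphismRestrict_ι]
  exact h1

theorem basicOpen_mul {C C' : Type u} [CommRing C] [CommRing C'] [Algebra C C'] (c : C) [IsLocalization.Away c C']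
    {M : Ideal C} {b' : C'} (hb : b' ∈ M.map (algebraMap C C')) : ∃ b ∈ M,
      (Spec.map (CommRingCat.ofHom (algebraMap C C'))) ⁻¹ᵁ (PrimeSpectrum.basicOpen (b * c)) =
        PrimeSpectrum.basicOpen b' := by
  rw [IsLocalization.mem_map_algebraMap_iff (Submonoid.powers c)] at hb
  obtain ⟨⟨⟨b, hb⟩, ⟨_, i, rfl⟩⟩, h⟩ := hb
  dsimp only at h
  refine ⟨b, hb, ?_⟩
  have hc : IsUnit (algebraMap C C' c) := IsLocalization.Away.algebraMap_isUnit c
  ext x
  have h1 : x ∈ (Spec.map (CommRingCat.ofHom (algebraMap C C'))) ⁻¹ᵁ (PrimeSpectrum.basicOpen (b * c)) ↔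
      algebraMap C C' (b * c) ∉ x.asIdeal := Iff.rfl
  have h2 : x ∈ (PrimeSpectrum.basicOpen b' : (Spec (CommRingCat.of C')).Opens) ↔ b' ∉ x.asIdeal := Iff.rfl
  change x ∈ (Spec.map (CommRingCat.ofHom (algebraMap C C'))) ⁻¹ᵁ (PrimeSpectrum.basicOpen (b * c)) ↔
    x ∈ (PrimeSpectrum.basicOpen b' : (Spec (CommRingCat.of C')).Opens)
  rw [h1, h2, map_mul, ← h, not_iff_not]
  rw [Ideal.mul_unit_mem_iff_mem _ hc, map_pow, Ideal.mul_unit_mem_iff_mem _ (hc.pow i)]

variable {k : Type u} [Field k] {X : Scheme.{u}} {f : X ⟶ Spec (CommRingCat.of k)} {D : X.IdealSheafData} {n : ℕ}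
  {C : Type u} [CommRing C] [Algebra k C] {M : Ideal C}

/-- Shrinking to an open neighbourhood of the fibre on which `φ` is étale and the ideals agree. -/
theorem exists_etale (hM : M.IsMaximal) (d : Datum f D n C M) (O : d.W.Opens)
    (hO : ∀ x : d.W, d.q x = (⟨M, hM.isPrime⟩ : PrimeSpectrum C) → x ∈ O) (het : Etale (O.ι ≫ d.φ))
    (h : (D.comap (O.ι ≫ d.φ)) ^ n = (spq M).ker.comap (O.ι ≫ d.q)) :
    ∃ c : C, c ∉ M ∧ ∃ d' : Datum f D n (Localization.Away c) (M.map (algebraMap C (Localization.Away c))),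
      Etale d'.φ ∧ (D.comap d'.φ) ^ n = (spq (M.map (algebraMap C (Localization.Away c)))).ker.comap d'.q := by
  have := d.proper
  obtain ⟨c, hc, hcO⟩ := exists_basicOpen M hM d.q O hO
  obtain ⟨d', p, hp, hp'⟩ := exists_away hM d hc (Localization.Away c)
  have hG : IsOpenImmersion (Spec.map (CommRingCat.ofHom (algebraMap C (Localization.Away c)))) :=
    IsOpenImmersion.of_isLocalization (S := Localization.Away c) c
  have hpo : IsOpenImmersion p := MorphismProperty.of_isPullback (P := @IsOpenImmersion) hp.flip hG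
  have hrange : Set.range p ⊆ Set.range O.ι := by
    rw [Scheme.Opens.range_ι, range_of_isPullback hp]
    intro x hx
    refine hcO x ?_
    obtain ⟨y, hy⟩ := hx
    rw [← hy]
    change c ∉ (PrimeSpectrum.comap (algebraMap C (Localization.Away c)) y).asIdeal
    intro hcy
    exact y.2.ne_top (Ideal.eq_top_of_isUnit_mem _ hcy (IsLocalization.Away.algebraMap_isUnit c))
  let p' : d'.W ⟶ O := IsOpenImmersion.lift O.ι p hrange
  have hpp : p' ≫ O.ι = p := IsOpenImmersion.lift_fac _ _ _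
  have hp'o : IsOpenImmersion p' := by
    have : IsOpenImmersion (p' ≫ O.ι) := hpp ▸ hpo
    exact IsOpenImmersion.of_comp p' O.ι
  have e1 : d'.φ = p' ≫ O.ι ≫ d.φ := by rw [← hp', ← hpp, Category.assoc]
  have e2 : p' ≫ O.ι ≫ d.q = d'.q ≫ Spec.map (CommRingCat.ofHom (algebraMap C (Localization.Away c))) := by
    rw [← hp.w, ← hpp, Category.assoc]
  refine ⟨c, hc, d', ?_, ?_⟩
  · rw [e1]
    infer_instance
  · rw [e1, Scheme.IdealSheafData.comap_comp, ← Groth.Agent.Divis.IdealComap.comap_pow, h,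
      ← Scheme.IdealSheafData.comap_comp, e2, Scheme.IdealSheafData.comap_comp, comap_ker_spq]

/-- Shrinking to make `q` finite outside the fibre. -/
theorem exists_finite (hM : M.IsMaximal) (d : Datum f D n C M) {c : C} (hc : c ∉ M)
    (hfin : ∀ b ∈ M, IsFinite (d.q ∣_ (PrimeSpectrum.basicOpen (b * c)))) (het : Etale d.φ)
    (h : (spq M).ker.comap d.q ≤ D.comap d.φ) :
    ∃ d' : Datum f D n (Localization.Away c) (M.map (algebraMap C (Localization.Away c))),
      (∀ b ∈ M.map (algebraMap C (Localization.Away c)), IsFinite (d'.q ∣_ (PrimeSpectrum.basicOpen b))) ∧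
      Etale d'.φ ∧ (spq (M.map (algebraMap C (Localization.Away c)))).ker.comap d'.q ≤ D.comap d'.φ := by
  obtain ⟨d', p, hp, hp'⟩ := exists_away hM d hc (Localization.Away c)
  have hG : IsOpenImmersion (Spec.map (CommRingCat.ofHom (algebraMap C (Localization.Away c)))) :=
    IsOpenImmersion.of_isLocalization (S := Localization.Away c) c
  have hpo : IsOpenImmersion p := MorphismProperty.of_isPullback (P := @IsOpenImmersion) hp.flip hG
  refine ⟨d', fun b' hb' => ?_, ?_, sub_of_isPullback h hp.w hp'⟩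
  · obtain ⟨b, hb, hbb⟩ := basicOpen_mul c hb'
    rw [← hbb]
    exact isFinite_restrict hp _ (hfin b hb)
  · rw [← hp']
    infer_instance

end K621.ContrShrink
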