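import Groth.Agent.AlgSp.K621.ContrDefs
import Groth.Agent.S0595
import Groth.Agent.S0600
import Groth.Agent.S2043
import Groth.Agent.S0543

/-!
# Contraction of a curve (S14992): approximation of a point over the completion by an étale algebra

Author: helper621
-/

set_option autoImplicit false
universe u

namespace K621.ContrSlice

open CAlg

/-- Let `P` be a G-ring, `𝔪` an ideal, `B` a finitely presented `P`-algebra and `B → P^` a `P`-algebra map into the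
`𝔪`-adic completion.  Then there are an étale `P`-algebra `C` with `C / 𝔪^N C = P / 𝔪^N` and a map `B → C` agreeing
with the given one modulo `𝔪^N`. -/
theorem exists_etale {P : Type u} [CommRing P] (hP : CAlg.IsGRing P) (𝔪 : Ideal P) (N : ℕ)
    {B : Type u} [CommRing B] [Algebra P B] [Algebra.FinitePresentation P B] (h : B →ₐ[P] AdicCompletion 𝔪 P) :
    ∃ (C : Type u) (_ : CommRing C) (_ : Algebra P C) (_ : Algebra.Etale P C) (ε : C →ₐ[P] P ⧸ 𝔪 ^ N)
      (g : B →ₐ[P] C), RingHom.ker ε = (𝔪 ^ N).map (algebraMap P C) ∧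
      ∀ b, ε (g b) = AdicCompletion.evalₐ 𝔪 N (h b) := by
  have hN : IsNoetherianRing P := hP.1
  have hN' : IsNoetherianRing (AdicCompletion 𝔪 P) := Groth.Agent.S0543.result P 𝔪
  obtain ⟨S, _, _, hS, g₁, h₁, hgh⟩ := Groth.Agent.S0595.result P (AdicCompletion 𝔪 P)
    (Groth.Agent.S0600.result P hP 𝔪) B h
  obtain ⟨C, _, _, hC, hbij, τ, hτ⟩ := Groth.Agent.S2043.result (A := P) (B := S) (𝔪 ^ N)
    ((AdicCompletion.evalₐ 𝔪 N).comp h₁)
  let e : (P ⧸ 𝔪 ^ N) ≃ₐ[P] (C ⧸ (𝔪 ^ N).map (algebraMap P C)) :=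
    AlgEquiv.ofBijective (IsScalarTower.toAlgHom P (P ⧸ 𝔪 ^ N) (C ⧸ (𝔪 ^ N).map (algebraMap P C))) hbij
  let ε : C →ₐ[P] P ⧸ 𝔪 ^ N := (e.symm : _ →ₐ[P] _).comp (Ideal.Quotient.mkₐ P ((𝔪 ^ N).map (algebraMap P C)))
  refine ⟨C, inferInstance, inferInstance, hC, ε, τ.comp g₁, ?_, fun b => ?_⟩
  · ext c
    have : ε c = 0 ↔ Ideal.Quotient.mk ((𝔪 ^ N).map (algebraMap P C)) c = 0 := by
      change e.symm (Ideal.Quotient.mk ((𝔪 ^ N).map (algebraMap P C)) c) = 0 ↔ _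
      rw [EmbeddingLike.map_eq_zero_iff]
    rw [RingHom.mem_ker]
    exact this.trans Ideal.Quotient.eq_zero_iff_mem
  · change e.symm (Ideal.Quotient.mk ((𝔪 ^ N).map (algebraMap P C)) (τ (g₁ b))) = _
    rw [AlgEquiv.symm_apply_eq, hτ]
    change _ = algebraMap (P ⧸ 𝔪 ^ N) (C ⧸ (𝔪 ^ N).map (algebraMap P C)) _
    rw [← hgh]
    rfl

end K621.ContrSlice
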