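import Groth.Agent.AlgSp.K617.Strat
import Groth.Agent.AlgSp.K619.QCPoint
import Groth.Agent.AlgSp.K609.Sep
import Groth.Agent.AlgSp.K621.Base
import Groth.Agent.AlgSp.K621.Decent
import Mathlib.Topology.Sober

/-!
# Decency from a dense open subscheme with finitely many components and quasi-compact generic points
-/

set_option autoImplicit false
universe u
open CategoryTheory CategoryTheory.Limits AlgebraicGeometry Topology TopologicalSpace Opposite
open AlgSp

namespace K621.DecComp

open K621.Base K617.EtFin K617.Strat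

section Top

/-- An open subspace of a space with finitely many irreducible components has finitely many. -/
theorem finite_irreducibleComponents_of_isOpenEmbedding {V U : Type*} [TopologicalSpace V]
    [TopologicalSpace U] (j : V → U) (hj : Topology.IsOpenEmbedding j)
    (hU : (irreducibleComponents U).Finite) : (irreducibleComponents V).Finite := by
  refine (hU.image fun Z => j ⁻¹' Z).subset ?_
  intro Z hZ
  have hZi : IsIrreducible (j '' Z) := hZ.1.image j hj.continuous.continuousOn
  obtain ⟨Z', hZ', hle⟩ := exists_mem_irreducibleComponents_subset_of_isIrreducible _ hZi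
  refine ⟨Z', hZ', ?_⟩
  have hle' : Z ⊆ j ⁻¹' Z' := Set.image_subset_iff.mp hle
  have hirr : IsIrreducible (j ⁻¹' Z') :=
    ⟨hZ.1.nonempty.mono hle', hZ'.1.isPreirreducible.preimage hj⟩
  exact le_antisymm (hZ.2 hirr hle') hle'

theorem finite_irreducibleComponents_of_denseRange {V U : Type*} [TopologicalSpace V]
    [TopologicalSpace U] (e : V → U) (he : Continuous e) (hd : DenseRange e)
    (hV : (irreducibleComponents V).Finite) : (irreducibleComponents U).Finite := by
  classical
  refine (hV.image fun T => closure (e '' T)).subset ?_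
  intro Z hZ
  have h1 : Z ⊆ ⋃₀ ((fun T => closure (e '' T)) '' irreducibleComponents V) := by
    intro z _
    have h2 : z ∈ closure (Set.range e) := hd z
    have h3 : Set.range e = ⋃ T ∈ irreducibleComponents V, e '' T := by
      rw [← Set.image_iUnion₂, ← Set.image_univ, ← sUnion_irreducibleComponents, Set.sUnion_eq_biUnion]
    rw [h3, hV.closure_biUnion] at h2
    obtain ⟨T, hT, hz⟩ := Set.mem_iUnion₂.1 h2
    exact ⟨_, ⟨T, hT, rfl⟩, hz⟩
  obtain ⟨_, h2, h3⟩ := isIrreducible_iff_sUnion_isClosed.1 hZ.1 (hV.image fun T => closure (e '' T)).toFinset (by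
    intro W hW
    simp only [Set.Finite.mem_toFinset] at hW
    obtain ⟨T, -, rfl⟩ := hW
    exact isClosed_closure) (by simpa using h1)
  simp only [Set.Finite.mem_toFinset] at h2
  obtain ⟨T, hT, rfl⟩ := h2
  refine ⟨T, hT, ?_⟩
  have h4 : IsIrreducible (closure (e '' T)) := (hT.1.image e he.continuousOn).closure
  exact le_antisymm (hZ.2 h4 h3) h3

end Top

variable {S : Scheme.{u}} {X : Sp S}

theorem exists_notMem_GEX_of_qc {U : Over S} (p : (yon S).obj U ⟶ X) (hp : RepWith @Etale p) [CompactSpace U.left]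
    (q : FieldPt X) (hq : RepWith @QuasiCompact q.toHom) : ∃ n, Points.mk q ∉ GEX p n := by
  obtain ⟨V, snd, fst, sq⟩ := hp.1 q.toHom
  have h1 : Etale snd.left := hp.2 _ fst snd sq
  obtain ⟨fst, rfl⟩ := (yon S).map_surjective fst
  have h2 : QuasiCompact fst.left := hq.2 p _ fst sq.flip
  have h3 : CompactSpace V.left := QuasiCompact.compactSpace_of_compactSpace fst.left
  obtain ⟨n, hn⟩ := GE_eq_empty_of_compactSpace (k := q.K) snd.left
  refine ⟨n, fun h => ?_⟩
  have h4 : (pt q.K : ↥q.pt.left) ∈ Points.ofPt q.toHom ⁻¹' GEX p n := by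
    rw [Set.mem_preimage, Points.ofPt_toHom]
    exact h
  rw [preimage_GEX sq, hn] at h4
  exact h4

theorem repWith_isSeparated_of_isAffine {U : Over S} [IsAffine U.left] (p : (yon S).obj U ⟶ X)
    (hp : Representable p) : RepWith @IsSeparated p := by
  have h3 : IsSeparated U.hom := inferInstance
  exact K609.Sep.repWith_isSeparated hp

/-- A dense open subscheme with finitely many components and quasi-compact generic points bounds the numbers of
geometric points in the fibres of affine étale charts. -/
theorem exists_GEX_eq_empty {X' : Over S} {j : (yon S).obj X' ⟶ X}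
    (hd : Dense (Set.range (Points.ofPt j))) (hfin : (irreducibleComponents ↥X'.left).Finite)
    (hqc : ∀ x' : ↥X'.left, (∃ T ∈ irreducibleComponents ↥X'.left, IsGenericPoint x' T) →
      RepWith @QuasiCompact (FieldPt.ofPt j x').toHom)
    {U : Over S} [IsAffine U.left] (p : (yon S).obj U ⟶ X) (hp : RepWith @Etale p) : ∃ n, GEX p n = ∅ := by
  have h1 : ∀ T : irreducibleComponents ↥X'.left, ∃ x' : ↥X'.left, IsGenericPoint x' T.1 := fun T =>
    QuasiSober.sober T.2.1 (isClosed_of_mem_irreducibleComponents _ T.2)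
  choose x' hx' using h1
  have h2 : ∀ T : irreducibleComponents ↥X'.left, ∃ n, Points.ofPt j (x' T) ∉ GEX p n := fun T =>
    exists_notMem_GEX_of_qc p hp _ (hqc (x' T) ⟨T.1, T.2, hx' T⟩)
  choose n hn using h2
  have : Finite (irreducibleComponents ↥X'.left) := hfin
  obtain ⟨N, hN⟩ : ∃ N, ∀ T, n T ≤ N := by
    obtain ⟨N, hN⟩ := (Set.finite_range n).bddAbove
    exact ⟨N, fun T => hN ⟨T, rfl⟩⟩
  refine ⟨N, Set.eq_empty_iff_forall_notMem.2 fun x hx => ?_⟩
  have hO : IsOpen (GEX p N) := isOpen_GEX p hp (repWith_isSeparated_of_isAffine p hp.1) N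
  obtain ⟨_, hy, z, rfl⟩ := dense_iff_inter_open.1 hd _ hO ⟨x, hx⟩
  obtain ⟨T, hT, hzT⟩ : ∃ T ∈ irreducibleComponents ↥X'.left, z ∈ T :=
    ⟨_, irreducibleComponent_mem_irreducibleComponents z, mem_irreducibleComponent⟩
  have h3 : x' ⟨T, hT⟩ ⤳ z := by
    rw [specializes_iff_mem_closure, (hx' ⟨T, hT⟩).def]
    exact hzT
  have h4 : Points.ofPt j (x' ⟨T, hT⟩) ∈ GEX p N :=
    (h3.map (Points.continuous_ofPt j)).mem_open hO hy
  exact hn ⟨T, hT⟩ (GEX_antitone p (hN _) h4)

theorem eq_empty_or_univ {K : Type u} [Field K] (A : Set ↥(Spec (CommRingCat.of K))) : A = ∅ ∨ A = Set.univ := by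
  rcases Set.eq_empty_or_nonempty A with h | ⟨a, ha⟩
  · exact Or.inl h
  · refine Or.inr (Set.eq_univ_of_forall fun b => ?_)
    rwa [Spec_field_eq b a]

/-- If the numbers of geometric points in the fibres of affine étale charts are bounded, all field points are
quasi-compact. -/
theorem repWith_quasiCompact_of_GEX (hX : IsAlgSpace X)
    (h : ∀ {U : Over S} (p : (yon S).obj U ⟶ X), IsAffine U.left → RepWith @Etale p → ∃ n, GEX p n = ∅)
    (q : FieldPt X) : RepWith @QuasiCompact q.toHom := by
  have := K609.Sep.quasiCompact_descendsAlong.{u}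
  refine K619.QCPoint.repWith_of_affine_charts @QuasiCompact hX (hX.representable_from_yon q.toHom) ?_
  intro V E a fst snd hV ha sq
  obtain ⟨e, rfl⟩ := (yon S).map_surjective fst
  obtain ⟨n, hn⟩ := h a hV ha
  have he : Etale e.left := ha.2 _ _ _ sq.flip
  have hs : IsSeparated e.left := (repWith_isSeparated_of_isAffine a ha.1).2 _ _ _ sq.flip
  have h1 : GE e.left n = ∅ := by
    rw [← preimage_GEX sq.flip n, hn, Set.preimage_empty]
  have h2 : ∃ n, GE e.left n = ∅ := ⟨n, h1⟩
  classical
  let m := Nat.find h2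
  have hm : GE e.left m = ∅ := Nat.find_spec h2
  have hm0 : m ≠ 0 := by
    intro h3
    rw [h3, GE_zero] at hm
    exact (Set.univ_nonempty (α := ↥(Spec (CommRingCat.of q.K)))).ne_empty hm
  obtain ⟨k, hk⟩ := Nat.exists_eq_succ_of_ne_zero hm0
  have h4 : GE e.left k = Set.univ := (eq_empty_or_univ _).resolve_left (Nat.find_min h2 (by omega))
  rw [hk] at hm
  have hf : IsFinite e.left := isFinite_of_GE k e.left h4 hm
  have hpa : IsAffine q.pt.left := inferInstanceAs (IsAffine (Spec (CommRingCat.of q.K)))
  have hEa : IsAffine E.left := isAffine_of_isAffineHom e.left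
  infer_instance

end K621.DecComp
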