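import Groth.Agent.AlgSp.K621.SchemeEt
import Mathlib.AlgebraicGeometry.ZariskisMainTheorem
import Mathlib.AlgebraicGeometry.Morphisms.UniversallyOpen

/-!
# Monomorphisms (in the étale sense) into discrete schemes

`isOpen_singleton` : if `U ×_Y U ⟶ U` is étale and `Y` is discrete then `U` is discrete.
`isFinite_fst` : if moreover `U` is a point then `U ×_Y U ⟶ U` is finite.
-/

set_option autoImplicit false
universe u
open CategoryTheory CategoryTheory.Limits AlgebraicGeometry Topology TopologicalSpace

namespace K621.Disc

open K621.SchemeEt

variable {U Y : Scheme.{u}} (g : U ⟶ Y)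

theorem isOpen_singleton [DiscreteTopology Y] [Etale (pullback.fst g g)] (x : U) : IsOpen ({x} : Set U) := by
  let c : Spec (U.residueField x) ⟶ U := U.fromSpecResidueField x
  let T := pullback c (pullback.fst g g)
  let a : T ⟶ Spec (U.residueField x) := pullback.fst c (pullback.fst g g)
  let b : T ⟶ U := pullback.snd c (pullback.fst g g) ≫ pullback.snd g g
  have hT : DiscreteTopology T := discreteTopology_of_etale_field (U.residueField x) T a
  have sq : IsPullback a b (c ≫ g) g :=
    ((IsPullback.of_hasPullback c (pullback.fst g g)).flip.paste_horiz (IsPullback.of_hasPullback g g).flip).flip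
  let r : Spec (U.residueField x) ⟶ Spec (Y.residueField (g x)) := Spec.map (g.residueFieldMap x)
  have hr : c ≫ g = r ≫ Y.fromSpecResidueField (g x) := (Scheme.Hom.SpecMap_residueFieldMap_fromSpecResidueField g x).symm
  let l : T ⟶ g.fiber (g x) := pullback.lift b (a ≫ r) (by rw [← sq.w, hr, Category.assoc])
  have hl1 : l ≫ g.fiberι (g x) = b := pullback.lift_fst _ _ _
  have hl2 : l ≫ g.fiberToSpecResidueField (g x) = a ≫ r := pullback.lift_snd _ _ _
  have sq2 : IsPullback l a (g.fiberToSpecResidueField (g x)) r := by
    have h1 : IsPullback (g.fiberι (g x)) (g.fiberToSpecResidueField (g x)) g (Y.fromSpecResidueField (g x)) :=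
      IsPullback.of_hasPullback _ _
    refine IsPullback.of_right (h₁₂ := g.fiberι (g x)) (v₁₃ := g) (h₂₂ := Y.fromSpecResidueField (g x)) ?_ hl2 h1
    rw [hl1, ← hr]
    exact sq.flip
  have hlo : UniversallyOpen l := MorphismProperty.of_isPullback sq2.flip inferInstance
  have h1 : IsOpenMap b := by
    rw [← hl1]
    have h2 : IsOpenMap (g.fiberι (g x)) := by
      have h3 : IsOpen (Set.range (g.fiberι (g x))) := by
        rw [g.range_fiberι]
        exact (isOpen_discrete _).preimage g.continuous
      exact IsOpenEmbedding.isOpenMap ⟨(g.fiberι (g x)).isEmbedding, h3⟩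
    exact h2.comp l.isOpenMap
  -- a point of `T` over `x`
  obtain ⟨t, ht⟩ : ∃ t : T, b t = x := by
    let w : Spec (U.residueField x) ⟶ T := sq.lift (𝟙 _) c (Category.id_comp _)
    refine ⟨w default, ?_⟩
    have hw : w ≫ b = c := sq.lift_snd _ _ _
    rw [← Scheme.Hom.comp_apply, hw]
    exact U.fromSpecResidueField_apply x _
  have h2 := h1 {t} (isOpen_discrete _)
  rwa [Set.image_singleton, ht] at h2

theorem discreteTopology [DiscreteTopology Y] [Etale (pullback.fst g g)] : DiscreteTopology U :=
  discreteTopology_iff_isOpen_singleton.2 fun x => isOpen_singleton g x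

theorem isFinite_fst [Subsingleton U] [Nonempty U] [IsSeparated g] [QuasiCompact g]
    [Etale (pullback.fst g g)] : IsFinite (pullback.fst g g) := by
  have h1 : LocallyQuasiFinite (pullback.fst g g) := locallyQuasiFinite_of_etale _
  have h2 : IsSeparated (pullback.fst g g) := MorphismProperty.pullback_fst _ _ inferInstance
  have h3 : QuasiCompact (pullback.fst g g) := inferInstance
  suffices h4 : UniversallyClosed (pullback.fst g g) by
    have : IsProper (pullback.fst g g) := {}
    exact IsFinite.of_isProper_of_locallyQuasiFinite _
  let x : U := Classical.arbitrary U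
  let c := U.fromSpecResidueField x
  let P := pullback.fst g g
  have hcs : Surjective c := ⟨fun y => ⟨default, by
    rw [Subsingleton.elim y x]; exact U.fromSpecResidueField_apply x _⟩⟩
  have hc : UniversallyClosed c := by
    have : IsClosedImmersion c := isClosed_singleton_iff_isClosedImmersion.1
      (by rw [(Set.eq_univ_of_forall fun y => Subsingleton.elim y x : ({x} : Set U) = Set.univ)]; exact isClosed_univ)
    infer_instance
  let a := pullback.fst c P
  let b := pullback.snd c P
  have hb : Surjective b := inferInstance
  have ha : UniversallyClosed a := by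
    have h5 : LocallyQuasiFinite a := inferInstance
    have h6 : QuasiCompact a := inferInstance
    have h7 : IsFinite a := IsFinite.of_locallyQuasiFinite a
    infer_instance
  have h8 : UniversallyClosed (b ≫ P) := by
    rw [← pullback.condition]
    infer_instance
  exact UniversallyClosed.of_comp_surjective b P

theorem discreteTopology_of_isPullback [DiscreteTopology Y] {R : Scheme.{u}} {p q : R ⟶ U}
    (sq : IsPullback p q g g) [Etale p] : DiscreteTopology U := by
  have : Etale (pullback.fst g g) := by
    rw [← sq.isoPullback_inv_fst]
    infer_instance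
  exact discreteTopology g

theorem isFinite_of_isPullback [Subsingleton U] [Nonempty U] [IsSeparated g] [QuasiCompact g]
    {R : Scheme.{u}} {p q : R ⟶ U} (sq : IsPullback p q g g) [Etale p] : IsFinite p := by
  have : Etale (pullback.fst g g) := by
    rw [← sq.isoPullback_inv_fst]
    infer_instance
  have := isFinite_fst g
  rw [← sq.isoPullback_hom_fst]
  infer_instance

end K621.Disc
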