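import Groth.Agent.AlgSp.K621.QFin
import Groth.Agent.Dix.QCClosure
import Mathlib.AlgebraicGeometry.ZariskisMainTheorem

/-!
# Generically finite morphisms of schemes

`v : V` a point without proper generizations.
* `notMem_closure`: a quasi-compact image not containing `v` is not dense near `v`.
* `exists_isFinite`: a separated finite type morphism which is quasi-finite over `v` is finite over a neighbourhood of `v`.
* `exists_isFinite_of_min`: separated, locally of finite type, with finitely many points over `v`, all quasi-finite,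
  all minimal points of the source lying over `v`.
-/

set_option autoImplicit false
universe u
open CategoryTheory CategoryTheory.Limits AlgebraicGeometry Topology TopologicalSpace Opposite

namespace K621.GenFin

open K621.SchemeEt K621.QFin

theorem eq_of_specializes_of_isIntegralHom {X Y : Scheme.{u}} (f : X ⟶ Y) [IsIntegralHom f]
    {x x' : X} (h : x' ⤳ x) (hf : f x = f x') : x = x' := by
  obtain ⟨V, hV, hxV, -⟩ := exists_isAffineOpen_mem_and_subset (x := f x) (U := ⊤) trivial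
  have hU : IsAffineOpen (f ⁻¹ᵁ V) := hV.preimage f
  have hx : x ∈ f ⁻¹ᵁ V := hxV
  have hx' : x' ∈ f ⁻¹ᵁ V := by
    change f x' ∈ V
    rw [← hf]
    exact hxV
  have h4 := hU.fromSpec_primeIdealOf ⟨x, hx⟩
  have h5 := hU.fromSpec_primeIdealOf ⟨x', hx'⟩
  have h1 : (hU.primeIdealOf ⟨x', hx'⟩).asIdeal ≤ (hU.primeIdealOf ⟨x, hx⟩).asIdeal := by
    refine (PrimeSpectrum.le_iff_specializes _ _).2 ?_
    have h6 := hU.fromSpec.isOpenEmbedding.isInducing.specializes_iff
      (x := hU.primeIdealOf ⟨x', hx'⟩) (y := hU.primeIdealOf ⟨x, hx⟩)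
    rw [h4, h5] at h6
    exact h6.1 h
  have e1 := IsAffineOpen.comap_primeIdealOf_appLE (f := f) (x := x) V hV _ hU (le_refl _) hx
  have e2 := IsAffineOpen.comap_primeIdealOf_appLE (f := f) (x := x') V hV _ hU (le_refl _) hx'
  have e3 : hV.primeIdealOf ⟨f x, hxV⟩ = hV.primeIdealOf ⟨f x', hx'⟩ := by
    congr 1
    exact Subtype.ext hf
  let : Algebra Γ(Y, V) Γ(X, f ⁻¹ᵁ V) := (f.app V).hom.toAlgebra
  have hint : Algebra.IsIntegral Γ(Y, V) Γ(X, f ⁻¹ᵁ V) := ⟨f.isIntegral_app V hV⟩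
  have h2 : (hU.primeIdealOf ⟨x', hx'⟩) = (hU.primeIdealOf ⟨x, hx⟩) := by
    apply PrimeSpectrum.ext
    by_contra hne
    have h3 := Ideal.IsIntegral.comap_lt_comap (R := Γ(Y, V)) (lt_of_le_of_ne h1 hne)
    refine h3.ne ?_
    have h4 : (hU.primeIdealOf ⟨x', hx'⟩).comap (f.appLE V (f ⁻¹ᵁ V) (le_refl _)).hom =
        (hU.primeIdealOf ⟨x, hx⟩).comap (f.appLE V (f ⁻¹ᵁ V) (le_refl _)).hom := by
      rw [e1, e2]
      exact e3.symm
    rw [Scheme.Hom.appLE_eq_app] at h4
    exact congr_arg PrimeSpectrum.asIdeal h4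
  have h3 := congr_arg hU.fromSpec h2
  exact h4.symm.trans (h3.symm.trans h5)

/-- (1) a quasi-compact image not containing the minimal point `v` stays away from `v`. -/
theorem notMem_closure {Z V : Scheme.{u}} (g : Z ⟶ V) [QuasiCompact g] {v : V} (hv : Min v) (C : Set Z)
    (hC : IsClosed C) (h : ∀ z ∈ C, g z ≠ v) : v ∉ closure (g '' C) := by
  intro hcl
  obtain ⟨R, f, hf, ⟨y, rfl⟩, -⟩ :=
    Scheme.exists_affine_mem_range_and_range_subset (U := (⊤ : V.Opens)) (x := v) trivial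
  have h1 : f ⁻¹' (g '' C) = pullback.snd g f '' (pullback.fst g f ⁻¹' C) := by
    ext t
    constructor
    · rintro ⟨z, hz, hzt⟩
      obtain ⟨w, hw1, hw2⟩ := Scheme.Pullback.exists_preimage_pullback z t hzt
      exact ⟨w, by rw [Set.mem_preimage, hw1]; exact hz, hw2⟩
    · rintro ⟨w, hw, rfl⟩
      refine ⟨_, hw, ?_⟩
      rw [← Scheme.Hom.comp_apply, ← Scheme.Hom.comp_apply, pullback.condition]
  have h2 : y ∈ closure (pullback.snd g f '' (pullback.fst g f ⁻¹' C)) := by
    rw [← h1, ← f.isOpenEmbedding.isOpenMap.preimage_closure_eq_closure_preimage f.continuous]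
    exact hcl
  obtain ⟨w, hw, hwy⟩ := Groth.Agent.Dix.QCClosure.exists_specializes_of_mem_closure_image (pullback.snd g f) _
    (hC.preimage (pullback.fst g f).continuous) y h2
  refine h _ hw ?_
  rw [← Scheme.Hom.comp_apply, pullback.condition, Scheme.Hom.comp_apply]
  exact hv _ (hwy.map f.continuous)

/-- Finiteness over an open is inherited by base changes factoring through it. -/
theorem isFinite_of_factors {U V T P : Scheme.{u}} {h : U ⟶ V} {W : V.Opens} (H : IsFinite (h ∣_ W)) {t : T ⟶ V}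
    {p : P ⟶ U} {q : P ⟶ T} (sq : IsPullback p q h t) (ht : Set.range t ⊆ W) : IsFinite q := by
  let t' : T ⟶ W := IsOpenImmersion.lift W.ι t (by simpa using ht)
  have ht' : t' ≫ W.ι = t := IsOpenImmersion.lift_fac _ _ _
  have sqW := (isPullback_morphismRestrict h W).flip
  -- the square with `h ∣_ W`
  let l : P ⟶ h ⁻¹ᵁ W := sqW.lift p (q ≫ t') (by rw [Category.assoc, ht', sq.w])
  have hl1 : l ≫ (h ⁻¹ᵁ W).ι = p := sqW.lift_fst _ _ _
  have hl2 : l ≫ h ∣_ W = q ≫ t' := sqW.lift_snd _ _ _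
  have sq' : IsPullback l q (h ∣_ W) t' := by
    refine IsPullback.of_right (h₁₂ := (h ⁻¹ᵁ W).ι) (v₁₃ := h) (h₂₂ := W.ι) ?_ hl2 sqW
    rw [hl1, ht']
    exact sq
  exact MorphismProperty.of_isPullback (P := @IsFinite) sq' H

theorem isFinite_restrict_of_le {U V : Scheme.{u}} {h : U ⟶ V} {W W' : V.Opens} (H : IsFinite (h ∣_ W))
    (hW : W' ≤ W) : IsFinite (h ∣_ W') :=
  isFinite_of_factors H (isPullback_morphismRestrict h W').flip (by simpa using hW)

theorem locallyQuasiFinite_of_forall {U V : Scheme.{u}} (h : U ⟶ V) [LocallyOfFiniteType h]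
    (hq : ∀ x, h.QuasiFiniteAt x) : LocallyQuasiFinite h := by
  rw [← Scheme.Hom.quasiFiniteLocus_eq_top_iff]
  ext x
  simpa using hq x

theorem exists_isFinite_comp {U N V : Scheme.{u}} (i : U ⟶ N) (n : N ⟶ V) [IsOpenImmersion i] [IsDominant i]
    [QuasiCompact i] [IsIntegralHom n] [LocallyOfFiniteType (i ≫ n)] {v : V} (hv : Min v) :
    ∃ W : V.Opens, v ∈ W ∧ IsFinite ((i ≫ n) ∣_ W) := by
  have key : v ∉ n '' (Set.range i)ᶜ := by
    rintro ⟨z, hz, hzv⟩
    have hzm : Min z := by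
      intro z' hz'
      refine (eq_of_specializes_of_isIntegralHom n hz' ?_).symm
      rw [hzv]
      refine (hv _ ?_).symm
      rw [← hzv]
      exact hz'.map n.continuous
    refine notMem_closure i hzm Set.univ isClosed_univ (fun w _ hw => hz ⟨w, hw⟩) ?_
    rw [Set.image_univ, i.denseRange.closure_range]
    trivial
  let W₂ : V.Opens := ⟨(n '' (Set.range i)ᶜ)ᶜ,
    (n.isClosedMap _ i.isOpenEmbedding.isOpen_range.isClosed_compl).isOpen_compl⟩
  have hW₂ : n ⁻¹ᵁ W₂ ≤ i.opensRange := by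
    intro z hz
    by_contra h3
    exact hz ⟨z, h3, rfl⟩
  have hiso : IsIso (i ∣_ (n ⁻¹ᵁ W₂)) := by
    have : Surjective (i ∣_ (n ⁻¹ᵁ W₂)) := by
      refine ⟨fun z => ?_⟩
      obtain ⟨w, hw⟩ := hW₂ z.2
      refine ⟨⟨w, show i w ∈ n ⁻¹ᵁ W₂ by rw [hw]; exact z.2⟩, ?_⟩
      apply Subtype.ext
      exact (morphismRestrict_base_coe i (n ⁻¹ᵁ W₂) _).trans hw
    exact (isIso_iff_isOpenImmersion_and_surjective _).mpr ⟨inferInstance, inferInstance⟩
  refine ⟨W₂, key, (IsFinite.iff_isIntegralHom_and_locallyOfFiniteType _).mpr ⟨?_, inferInstance⟩⟩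
  have h4 : IsIntegralHom (n ∣_ W₂) := IsZariskiLocalAtTarget.restrict ‹_› W₂
  have h5 : IsIntegralHom (i ∣_ (n ⁻¹ᵁ W₂)) := inferInstance
  rw [morphismRestrict_comp]
  exact MorphismProperty.comp_mem @IsIntegralHom _ _ h5 h4

/-- (2) -/
theorem exists_isFinite {U V : Scheme.{u}} (h : U ⟶ V) [LocallyOfFiniteType h] [QuasiCompact h] [IsSeparated h]
    {v : V} (hv : Min v) (hq : ∀ x, h x = v → h.QuasiFiniteAt x) : ∃ W : V.Opens, v ∈ W ∧ IsFinite (h ∣_ W) := by
  -- first step : quasi-finite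
  have h1 := notMem_closure h hv ((h.quasiFiniteLocus : Set U)ᶜ) h.quasiFiniteLocus.isOpen.isClosed_compl
    (fun z hz hzv => hz (hq z hzv))
  let W₁ : V.Opens := ⟨(closure (h '' (h.quasiFiniteLocus : Set U)ᶜ))ᶜ, isClosed_closure.isOpen_compl⟩
  have hvW₁ : v ∈ W₁ := h1
  let h₁ := h ∣_ W₁
  have hlqf : LocallyQuasiFinite h₁ := by
    refine locallyQuasiFinite_of_forall h₁ fun x => ?_
    have h2 : h.QuasiFiniteAt ((h ⁻¹ᵁ W₁).ι x) := by
      by_contra h3
      exact x.2 (subset_closure ⟨_, h3, rfl⟩)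
    rw [← Scheme.Hom.quasiFiniteAt_comp_iff_of_isOpenImmersion, ← morphismRestrict_ι,
      Scheme.Hom.quasiFiniteAt_comp_iff] at h2
    exact h2
  -- Zariski's main theorem
  have hin : h₁.toNormalization ≫ h₁.fromNormalization = h₁ := h₁.toNormalization_fromNormalization
  have hiqc : QuasiCompact h₁.toNormalization := by
    have : QuasiCompact (h₁.toNormalization ≫ h₁.fromNormalization) := by rw [hin]; infer_instance
    exact QuasiCompact.of_comp _ h₁.fromNormalization
  have hft : LocallyOfFiniteType (h₁.toNormalization ≫ h₁.fromNormalization) := by rw [hin]; infer_instance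
  have hv₁ : Min (U := (W₁ : Scheme.{u})) ⟨v, hvW₁⟩ := by
    intro y hy
    exact Subtype.ext (hv _ (hy.map continuous_subtype_val))
  obtain ⟨W₂, hvW₂, hfin⟩ := exists_isFinite_comp h₁.toNormalization h₁.fromNormalization hv₁
  rw [hin] at hfin
  exact ⟨W₁.ι ''ᵁ W₂, ⟨_, hvW₂, rfl⟩,
    (MorphismProperty.arrow_mk_iso_iff @IsFinite (morphismRestrictRestrict h W₁ W₂)).1 hfin⟩

theorem exists_min_specializes {U : Scheme.{u}} (x : U) : ∃ η : U, QFin.Min η ∧ η ⤳ x := by
  obtain ⟨η, hη⟩ := QuasiSober.sober (irreducibleComponent_mem_irreducibleComponents x).1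
    (isClosed_of_mem_irreducibleComponents _ (irreducibleComponent_mem_irreducibleComponents x))
  refine ⟨η, ?_, ?_⟩
  · intro y hy
    have h1 : irreducibleComponent x ⊆ closure {y} := by
      rw [← hη.def]
      exact closure_minimal (Set.singleton_subset_iff.2 (specializes_iff_mem_closure.1 hy)) isClosed_closure
    have h2 := (irreducibleComponent_mem_irreducibleComponents x).2
      (isIrreducible_singleton.closure : IsIrreducible (closure {y})) h1
    have h3 : y ∈ closure {η} := by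
      rw [hη.def]
      exact h2 (subset_closure rfl)
    exact (hy.antisymm (specializes_iff_mem_closure.2 h3)).eq
  · rw [specializes_iff_mem_closure, hη.def]
    exact mem_irreducibleComponent

theorem min_restrict {U : Scheme.{u}} {W : U.Opens} {x : U} (hx : x ∈ W) (h : QFin.Min x) :
    QFin.Min (U := (W : Scheme.{u})) ⟨x, hx⟩ := by
  intro y hy
  exact Subtype.ext (h _ (hy.map continuous_subtype_val))

theorem min_of_restrict {U : Scheme.{u}} {W : U.Opens} {x : U} (hx : x ∈ W)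
    (h : QFin.Min (U := (W : Scheme.{u})) ⟨x, hx⟩) : QFin.Min x := by
  intro y hy
  have hy' : y ∈ W := hy.mem_open W.2 hx
  exact congrArg Subtype.val (h ⟨y, hy'⟩ ((subtype_specializes_iff _ _).2 hy))

/-- (3) -/
theorem exists_isFinite_of_min {R V : Scheme.{u}} [IsAffine V] (h : R ⟶ V) [LocallyOfFiniteType h] [IsSeparated h]
    {v : V} (hv : QFin.Min v) (hfin : (h ⁻¹' {v}).Finite) (hq : ∀ x, h x = v → h.QuasiFiniteAt x)
    (hmin : ∀ x, QFin.Min x → h x = v) : ∃ W : V.Opens, v ∈ W ∧ IsFinite (h ∣_ W) := by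
  -- a quasi-compact open containing the points over `v`
  obtain ⟨R', hR'c, hR'⟩ : ∃ R' : R.Opens, IsCompact (R' : Set R) ∧ ∀ x, h x = v → x ∈ R' := by
    have h1 : ∀ x : R, ∃ A : R.Opens, IsCompact (A : Set R) ∧ x ∈ A := by
      intro x
      obtain ⟨_, ⟨A, hA, rfl⟩, hxA, -⟩ := R.isBasis_affineOpens.exists_subset_of_mem_open
        (Set.mem_univ x) isOpen_univ
      exact ⟨A, hA.isCompact, hxA⟩
    choose A hA hxA using h1
    refine ⟨⟨⋃ x ∈ h ⁻¹' {v}, A x, isOpen_biUnion fun x _ => (A x).2⟩, hfin.isCompact_biUnion fun x _ => hA x,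
      fun x hx => Set.mem_biUnion (x := x) hx (hxA x)⟩
  have : CompactSpace R' := isCompact_iff_compactSpace.1 hR'c
  have hqc : QuasiCompact (R'.ι ≫ h) := 
    (HasAffineProperty.iff_of_isAffine (P := @QuasiCompact)).mpr this
  obtain ⟨W, hvW, hW⟩ := exists_isFinite (R'.ι ≫ h) hv (fun x hx => by
    rw [Scheme.Hom.quasiFiniteAt_comp_iff_of_isOpenImmersion]
    exact hq _ hx)
  refine ⟨W, hvW, ?_⟩
  rw [morphismRestrict_comp] at hW
  let j := R'.ι ∣_ (h ⁻¹ᵁ W)
  have hW' : IsFinite (j ≫ h ∣_ W) := hW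
  have hj : IsFinite j := IsFinite.of_comp j (h ∣_ W)
  have hjs : Surjective j := by
    refine ⟨fun z => ?_⟩
    obtain ⟨⟨η, hηW⟩, hη, hηz⟩ := exists_min_specializes z
    have h3 : η ∈ R' := hR' _ (hmin _ (min_of_restrict hηW hη))
    have h4 : (⟨η, hηW⟩ : (h ⁻¹ᵁ W : R.Opens)) ∈ Set.range j :=
      ⟨⟨⟨η, h3⟩, hηW⟩, Subtype.ext (morphismRestrict_base_coe R'.ι (h ⁻¹ᵁ W) _)⟩
    exact hηz.mem_closed j.isClosedMap.isClosed_range h4
  have hji : IsIso j := (isIso_iff_isOpenImmersion_and_surjective _).mpr ⟨inferInstance, inferInstance⟩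
  exact (MorphismProperty.cancel_left_of_respectsIso @IsFinite j (h ∣_ W)).1 hW

end K621.GenFin
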