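import Groth.Agent.AlgSp.K621.QuotFin
import Groth.Agent.AlgSp.K621.GenFin
import Groth.Agent.AlgSp.K617.FinLoc
import Groth.Agent.AlgSp.K610.Sub
import Groth.Agent.AlgSp.K610.OpenImm

/-!
# Generically finite morphisms of algebraic spaces: shrinking and glueing

* `isPullback_kernelPair`: base change of kernel pairs.
* `exists_repWith_finite`: if `U` and `R = U ×_F U` are finite over `V` near `v`, then `F` is finite over a neighbourhood
  of `v`.
* `exists_finite_over`: finiteness over an open subspace from finiteness over a family of étale charts.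
-/

set_option autoImplicit false
universe u
open CategoryTheory CategoryTheory.Limits AlgebraicGeometry Topology TopologicalSpace Opposite
open AlgSp

namespace K621.GenFinSp

open K621.Base K621.SchemeEt K621.GenFin

section Cat

variable {C : Type*} [Category C]

/-- Base change of kernel pairs. -/
theorem isPullback_kernelPair {B B' F F' U U' R R' : C} {β : B' ⟶ B} {g : F ⟶ B} {φ : F' ⟶ F} {g' : F' ⟶ B'}
    (sqF : IsPullback φ g' g β) {q : U ⟶ F} {h : U ⟶ B} (hqg : q ≫ g = h) {μ : U' ⟶ U} {h' : U' ⟶ B'}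
    (sqU : IsPullback μ h' h β) {s t : R ⟶ U} (sq : IsPullback t s q q) {ρ : R' ⟶ R} {r' : R' ⟶ B'}
    (sqR : IsPullback ρ r' (s ≫ h) β) :
    ∃ (q' : U' ⟶ F') (s' t' : R' ⟶ U'), IsPullback μ q' q φ ∧ IsPullback t' s' q' q' ∧ q' ≫ g' = h' ∧
      s' ≫ h' = r' ∧ t' ≫ h' = r' := by
  have hst : t ≫ h = s ≫ h := by rw [← hqg, ← Category.assoc, sq.w, Category.assoc]
  let q' : U' ⟶ F' := sqF.lift (μ ≫ q) h' (by rw [Category.assoc, hqg, sqU.w])
  have hq1 : q' ≫ φ = μ ≫ q := sqF.lift_fst _ _ _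
  have hq2 : q' ≫ g' = h' := sqF.lift_snd _ _ _
  let s' : R' ⟶ U' := sqU.lift (ρ ≫ s) r' (by rw [Category.assoc, sqR.w])
  have hs1 : s' ≫ μ = ρ ≫ s := sqU.lift_fst _ _ _
  have hs2 : s' ≫ h' = r' := sqU.lift_snd _ _ _
  let t' : R' ⟶ U' := sqU.lift (ρ ≫ t) r' (by rw [Category.assoc, hst, sqR.w])
  have ht1 : t' ≫ μ = ρ ≫ t := sqU.lift_fst _ _ _
  have ht2 : t' ≫ h' = r' := sqU.lift_snd _ _ _
  have sqQ : IsPullback μ q' q φ := by
    refine IsPullback.of_bot (v₂₁ := g') (v₂₂ := g) (h₃₁ := β) ?_ hq1.symm sqF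
    rw [hq2, hqg]
    exact sqU
  have sqS : IsPullback ρ s' s μ := by
    refine IsPullback.of_bot (v₂₁ := h') (v₂₂ := h) (h₃₁ := β) ?_ hs1.symm sqU
    rw [hs2]
    exact sqR
  refine ⟨q', s', t', sqQ, ?_, hq2, hs2, ht2⟩
  have h1 : IsPullback (ρ ≫ t) s' q (μ ≫ q) := sqS.paste_horiz sq
  refine IsPullback.of_right (h₁₂ := μ) (v₁₃ := q) (h₂₂ := φ) ?_ ?_ sqQ
  · rw [ht1, hq1]
    exact h1
  · apply sqF.hom_ext
    · rw [Category.assoc, Category.assoc, hq1, ← Category.assoc, ← Category.assoc, ht1, hs1, Category.assoc,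
        Category.assoc, sq.w]
    · rw [Category.assoc, Category.assoc, hq2, ht2, hs2]

end Cat

variable {S : Scheme.{u}}

theorem locP_of_isPullback {P : MorphismProperty Scheme.{u}} {F F' G G' : Sp S} {g : F ⟶ G} {g' : F' ⟶ G'}
    {φ : F' ⟶ F} {β : G' ⟶ G} (sq : IsPullback φ g' g β) (hβ : RepWith @Etale β) (hg : LocP P g) : LocP P g' := by
  intro U V a b h ha hb w
  refine hg (a ≫ φ) (b ≫ β) h (repWith_etale_comp ha (repWith_baseChange sq.flip hβ)) (repWith_etale_comp hb hβ) ?_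
  rw [Category.assoc, sq.w, ← Category.assoc, w, Category.assoc]

/-- Shrinking. -/
theorem exists_repWith_finite {F : Sp S} {V U R : Over S} (hF : IsAlgSpace F) {g : F ⟶ (yon S).obj V}
    (hg : LocP @LocallyOfFiniteType g) {q : (yon S).obj U ⟶ F} (hqe : RepWith @Etale q)
    (hqs : RepWith @Surjective q) {s t : R ⟶ U}
    (sq : IsPullback ((yon S).map t) ((yon S).map s) q q) {h : U ⟶ V} (hh : q ≫ g = (yon S).map h)
    {v : ↥V.left} {W₁ W₂ : V.left.Opens} (hW₁ : v ∈ W₁) (H₁ : IsFinite (h.left ∣_ W₁)) (hW₂ : v ∈ W₂)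
    (H₂ : IsFinite ((s ≫ h).left ∣_ W₂)) :
    ∃ W : V.left.Opens, v ∈ W ∧ IsAffine (openChart V W).left ∧
      ∀ {F' : Sp S} {φ : F' ⟶ F} {g' : F' ⟶ (yon S).obj (openChart V W)},
        IsPullback φ g' g ((yon S).map (openChartι V W)) → RepWith @IsFinite g' := by
  obtain ⟨W, hvW, hW, hWa⟩ := exists_affine_openChart v (W₁ ⊓ W₂) ⟨hW₁, hW₂⟩
  refine ⟨W, hvW, hWa, ?_⟩
  intro F' φ g' sqF
  let ι := openChartι V W
  have hιe : RepWith @Etale ((yon S).map ι) := repWith_etale_map (show Etale W.ι from inferInstance)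
  have sqU : IsPullback (pullback.fst h ι) (pullback.snd h ι) h ι := IsPullback.of_hasPullback _ _
  have sqR : IsPullback (pullback.fst (s ≫ h) ι) (pullback.snd (s ≫ h) ι) (s ≫ h) ι := IsPullback.of_hasPullback _ _
  have hrange : Set.range ι.left ⊆ (W : Set V.left) := by
    change Set.range W.ι ⊆ _
    simp
  have hU' : IsFinite (pullback.snd h ι).left :=
    isFinite_of_factors H₁ (sqU.map (Over.forget S)) (hrange.trans (hW.trans inf_le_left))
  have hR' : IsFinite (pullback.snd (s ≫ h) ι).left :=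
    isFinite_of_factors H₂ (sqR.map (Over.forget S)) (hrange.trans (hW.trans inf_le_right))
  have sqU' := sqU.map (yon S)
  have sqR' := sqR.map (yon S)
  rw [Functor.map_comp] at sqR'
  obtain ⟨q', s', t', sqQ, sq', hq', hs', ht'⟩ := isPullback_kernelPair sqF hh sqU' sq sqR'
  obtain ⟨s', rfl⟩ := (yon S).map_surjective s'
  obtain ⟨t', rfl⟩ := (yon S).map_surjective t'
  have hsh : s' ≫ pullback.snd h ι = pullback.snd (s ≫ h) ι := by
    apply (yon S).map_injective
    rw [Functor.map_comp, hs']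
  have hF' : IsAlgSpace F' := K613.Chart.isAlgSpace_of_isPullback (IsAlgSpace.yon_obj V).diag hF
    (IsAlgSpace.yon_obj _) sqF
  have hfin : IsFinite (s' ≫ pullback.snd h ι).left := by rw [hsh]; exact hR'
  exact K621.QuotFin.repWith_finite hF' (locP_of_isPullback sqF hιe hg)
    (MorphismProperty.of_isPullback (P := RepWith @Etale) sqQ hqe)
    (MorphismProperty.of_isPullback (P := RepWith @Surjective) sqQ hqs) sq' hq'

/-- Glueing. -/
theorem exists_finite_over {X Y : Space S} (f : X ⟶ Y) {ι : Type*} {V : ι → Over S}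
    {b : ∀ i, (yon S).obj (V i) ⟶ Y.obj} (hb : ∀ i, RepWith @Etale (b i)) {F : ι → Sp S} {φ : ∀ i, F i ⟶ X.obj}
    {g : ∀ i, F i ⟶ (yon S).obj (V i)} (sq : ∀ i, IsPullback (φ i) (g i) f.hom (b i))
    (hg : ∀ i, RepWith @IsFinite (g i)) :
    ∃ (Y' X' : Space S) (j : Y' ⟶ Y) (fst : X' ⟶ Y') (snd : X' ⟶ X), RepWith @IsOpenImmersion j.hom ∧
      Set.range (Points.map j.hom) = ⋃ i, Set.range (Points.ofPt (b i)) ∧
      IsPullback fst.hom snd.hom j.hom f.hom ∧ IsFiniteMor fst.hom := by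
  obtain ⟨Y', j, hj, hr⟩ := K610.Sub.exists_open_subspace Y (⋃ i, Set.range (Points.ofPt (b i)))
    (isOpen_iUnion fun i => (isOpenMap_ofPt (hb i)).isOpen_range)
  have hjm := K610.Factor.mono_of_isOpenImmersion hj
  choose b' hb' using fun i => K610.Factor.exists_lift_open hj (b i) (by
    rw [hr]
    exact Set.subset_iUnion (fun i => Set.range (Points.ofPt (b i))) i)
  have hb'e : ∀ i, RepWith @Etale (b' i) := fun i =>
    K610.OpenImm.repWith_of_comp_mono (j := j.hom) (by rw [hb' i]; exact hb i)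
  let X' : Space S := ⟨pullback f.hom j.hom, K613.Chart.isAlgSpace_pullback X.property Y'.property Y.property _ _⟩
  let fst : X' ⟶ Y' := ⟨pullback.snd f.hom j.hom⟩
  let snd : X' ⟶ X := ⟨pullback.fst f.hom j.hom⟩
  have sqX : IsPullback snd.hom fst.hom f.hom j.hom := IsPullback.of_hasPullback _ _
  refine ⟨Y', X', j, fst, snd, hj, hr, sqX.flip, ?_⟩
  let l : ∀ i, F i ⟶ X'.obj := fun i => sqX.lift (φ i) (g i ≫ b' i) (by rw [Category.assoc, hb' i, (sq i).w])
  have hl1 : ∀ i, l i ≫ snd.hom = φ i := fun i => sqX.lift_fst _ _ _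
  have hl2 : ∀ i, l i ≫ fst.hom = g i ≫ b' i := fun i => sqX.lift_snd _ _ _
  have sq' : ∀ i, IsPullback (l i) (g i) fst.hom (b' i) := fun i => by
    refine IsPullback.of_right (h₁₂ := snd.hom) (v₁₃ := f.hom) (h₂₂ := j.hom) ?_ (hl2 i) sqX
    rw [hl1, hb']
    exact sq i
  refine K617.FinLoc.finite_family hb'e ?_ sq' (fun i => K617.FinLoc.isFiniteMor_iff.2 (hg i))
  intro y
  have hy : Points.map j.hom y ∈ ⋃ i, Set.range (Points.ofPt (b i)) := by rw [← hr]; exact ⟨y, rfl⟩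
  obtain ⟨i, x, hx⟩ := Set.mem_iUnion.1 hy
  refine ⟨i, Points.ofScheme (V i) x, ?_⟩
  apply (K610.OpenImm.isOpenEmbedding_points Y.property hj).injective
  rw [← hx, ← hb' i, ← Points.map_comp, ← Points.ofPt_eq_map_ofScheme]

end K621.GenFinSp
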