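import Groth.Agent.AlgSp.K621.SchemeEt
import Groth.Agent.S0113
import Groth.Agent.Etbase.FppfSource
import Mathlib.AlgebraicGeometry.Morphisms.Finite
import Mathlib.AlgebraicGeometry.Morphisms.FlatMono

/-!
# Jacobson schemes and étale morphisms
-/

set_option autoImplicit false
universe u
open CategoryTheory CategoryTheory.Limits AlgebraicGeometry Topology TopologicalSpace Opposite

namespace K621.Jac

open K621.SchemeEt

theorem locallyOfFiniteType_of_fppf_comp {X Y S : Scheme.{u}} (f : X ⟶ Y) (q : Y ⟶ S) [Surjective f] [Flat f]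
    [LocallyOfFinitePresentation f] [LocallyOfFiniteType (f ≫ q)] :
    LocallyOfFiniteType q := by
  refine Groth.Agent.Etbase.FppfSource.of_fppf_comp_of_ringHom @LocallyOfFiniteType
    RingHom.FiniteType ?_ f q inferInstance
  intro R A B _ _ _ φ ψ hff hfp h
  algebraize [φ, ψ, ψ.comp φ]
  exact Groth.Agent.S0113.result (R := R) (A := A) (B := B)

/-- residue field extensions of locally quasi-finite morphisms are finite -/
theorem residueFieldMap_finite {X Y : Scheme.{u}} (f : X ⟶ Y) [LocallyQuasiFinite f] (x : X) :
    (f.residueFieldMap x).hom.Finite := by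
  have h1 : (f.stalkMap x).hom.QuasiFinite := f.quasiFiniteAt x
  have h2 : (X.residue x).hom.QuasiFinite :=
    RingHom.QuasiFinite.of_finite (RingHom.Finite.of_surjective _ (X.residue_surjective _))
  have h3 := h2.comp h1
  rw [← CommRingCat.hom_comp, ← Scheme.residue_residueFieldMap, CommRingCat.hom_comp] at h3
  have h4 : (f.residueFieldMap x).hom.QuasiFinite := RingHom.QuasiFinite.of_comp h3
  let i : Algebra (Y.residueField (f x)) (X.residueField x) := (f.residueFieldMap x).hom.toAlgebra
  have : Algebra.QuasiFinite (Y.residueField (f x)) (X.residueField x) := h4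
  exact (Module.Finite.of_quasiFinite :
    Module.Finite (Y.residueField (f x)) (X.residueField x))

theorem isFinite_residueFieldMap {X Y : Scheme.{u}} (f : X ⟶ Y) [LocallyQuasiFinite f] (x : X) :
    IsFinite (Spec.map (f.residueFieldMap x)) :=
  (IsFinite.SpecMap_iff _).2 (residueFieldMap_finite f x)

/-- A point of a scheme is of finite type if `Spec κ(x) ⟶ X` is locally of finite type. -/
abbrev FTPt {X : Scheme.{u}} (x : X) : Prop := LocallyOfFiniteType (X.fromSpecResidueField x)

theorem FTPt.image {X Y : Scheme.{u}} (f : X ⟶ Y) [LocallyQuasiFinite f] [LocallyOfFiniteType f] {x : X}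
    (hx : FTPt x) : FTPt (f x) := by
  have h1 := isFinite_residueFieldMap f x
  have h2 : LocallyOfFiniteType (Spec.map (f.residueFieldMap x) ≫ Y.fromSpecResidueField (f x)) := by
    rw [Scheme.Hom.SpecMap_residueFieldMap_fromSpecResidueField]
    infer_instance
  have h3 : Surjective (Spec.map (f.residueFieldMap x)) :=
    ⟨fun y => ⟨IsLocalRing.closedPoint _, Subsingleton.elim _ _⟩⟩
  have h4 : Flat (Spec.map (f.residueFieldMap x)) := inferInstance
  have h5 : LocallyOfFinitePresentation (Spec.map (f.residueFieldMap x)) := by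
    rw [LocallyOfFinitePresentation.SpecMap_iff]
    have := residueFieldMap_finite f x
    exact RingHom.FinitePresentation.of_finiteType.1 (RingHom.Finite.finiteType this)
  exact locallyOfFiniteType_of_fppf_comp (Spec.map (f.residueFieldMap x)) (Y.fromSpecResidueField (f x))

theorem FTPt.of_image {X Y : Scheme.{u}} (f : X ⟶ Y) [LocallyQuasiFinite f] {x : X}
    (hx : FTPt (f x)) : FTPt x := by
  have h1 := isFinite_residueFieldMap f x
  have h2 : LocallyOfFiniteType (X.fromSpecResidueField x ≫ f) := by
    rw [← Scheme.Hom.SpecMap_residueFieldMap_fromSpecResidueField]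
    infer_instance
  exact locallyOfFiniteType_of_comp _ f

theorem isClosed_singleton_iff {Z : Type u} [TopologicalSpace Z] {z : Z} [T0Space Z] :
    IsClosed ({z} : Set Z) ↔ ∀ z', z ⤳ z' → z' = z := by
  rw [← closure_eq_iff_isClosed]
  constructor
  · intro h z' hz'
    have : z' ∈ closure {z} := specializes_iff_mem_closure.1 hz'
    rw [h] at this
    exact this
  · intro h
    ext z'
    rw [← specializes_iff_mem_closure]
    exact ⟨fun h' => h z' h', fun h' => by rw [Set.mem_singleton_iff.1 h']⟩

/-- The property of being Jacobson descends along surjective étale morphisms. -/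
theorem jacobsonSpace_of_etale_surjective {X Y : Scheme.{u}} (f : X ⟶ Y) [Etale f] [Surjective f]
    [JacobsonSpace X] : JacobsonSpace Y := by
  have hq := locallyQuasiFinite_of_etale f
  rw [jacobsonSpace_iff_locallyClosed]
  intro Z hZ hZ'
  have h1 : (f ⁻¹' Z).Nonempty := hZ.preimage f.surjective
  have h2 : IsLocallyClosed (f ⁻¹' Z) := hZ'.preimage f.continuous
  obtain ⟨x, hxZ, hx⟩ := nonempty_inter_closedPoints h1 h2
  refine ⟨f x, hxZ, ?_⟩
  rw [mem_closedPoints_iff] at hx ⊢
  have h3 : FTPt x := isClosed_singleton_iff_locallyOfFiniteType.1 hx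
  rw [isClosed_singleton_iff]
  intro y hy
  obtain ⟨x1, rfl⟩ := f.surjective y
  obtain ⟨x2, h4, h5⟩ := exists_generization f hy
  have h6 : FTPt x2 := FTPt.of_image f (by rw [h5]; exact h3.image f)
  have h7 : IsClosed ({x2} : Set X) := isClosed_singleton_iff_locallyOfFiniteType.2 h6
  rw [isClosed_singleton_iff] at h7
  rw [h7 x1 h4, h5]

end K621.Jac
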