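import Groth.Agent.AlgSp.K621.Decent
import Groth.Agent.AlgSp.K621.Charts
import Groth.Agent.AlgSp.K621.Jac
import Groth.Prelude.Def_AlgSp3

/-!
# Jacobson algebraic spaces
-/

set_option autoImplicit false
universe u
open CategoryTheory CategoryTheory.Limits AlgebraicGeometry Topology TopologicalSpace Opposite
open AlgSp

namespace K621.Jacobson

open K621.Base K621.SchemeEt K621.Decent K621.Charts K621.Jac

variable {S : Scheme.{u}}

/-- Every étale chart of a Jacobson space is Jacobson. -/
theorem jacobson_chart {X : Sp S} (h : EtaleLocally (fun U => JacobsonSpace ↥U) X) {U : Over S}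
    {a : (yon S).obj U ⟶ X} (ha : RepWith @Etale a) : JacobsonSpace ↥U.left := by
  refine forall_chart_of_etaleLocally (P := fun U => JacobsonSpace ↥U) ?_ ?_ h ha
  · intro U V f hf hV
    exact LocallyOfFiniteType.jacobsonSpace f
  · intro U V f hf hf' hU
    exact jacobsonSpace_of_etale_surjective f

/-- A scheme locally of finite type over a Jacobson algebraic space is Jacobson. -/
theorem jacobson_of_locP {X Y : Sp S} (hX : EtaleLocally (fun U => JacobsonSpace ↥U) X)
    {f : Y ⟶ X} (hf : LocP @LocallyOfFiniteType f) {V : Over S} {b : (yon S).obj V ⟶ Y}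
    (hb : RepWith @Etale b) : JacobsonSpace ↥V.left := by
  obtain ⟨U, a, ha1, ha2, hU⟩ := hX
  obtain ⟨R, p, q, sq, hq⟩ := exists_pullback_of_repWith ha1 (b ≫ f)
  have hq2 : Surjective q.left := ha2.2 _ _ _ sq
  have hp : LocallyOfFiniteType p.left :=
    hf ((yon S).map q ≫ b) a p (repWith_etale_comp (repWith_etale_map hq) hb) ha1
      (by rw [Category.assoc]; exact sq.w.symm)
  have : JacobsonSpace ↥R.left := LocallyOfFiniteType.jacobsonSpace p.left
  exact jacobsonSpace_of_etale_surjective q.left

/-- Closed points of étale charts of Jacobson spaces: independence of the chart. -/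
theorem isClosed_chart_point {X : Sp S} (hXa : IsAlgSpace X) (h : EtaleLocally (fun U => JacobsonSpace ↥U) X)
    {U V : Over S} {a : (yon S).obj U ⟶ X} (ha : RepWith @Etale a) {b : (yon S).obj V ⟶ X}
    (hb : RepWith @Etale b) {u : ↥U.left} {v : ↥V.left} (huv : Points.ofPt a u = Points.ofPt b v)
    (hu : IsClosed ({u} : Set ↥U.left)) : IsClosed ({v} : Set ↥V.left) := by
  obtain ⟨R, p, q, sq⟩ := exists_pullback hXa a b
  have hq : Etale q.left := ha.2 _ _ _ sq
  have hp : Etale p.left := hb.2 _ _ _ sq.flip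
  have hV := jacobson_chart h hb
  have hU := jacobson_chart h ha
  obtain ⟨r, rfl, rfl⟩ := exists_point_of_isPullback sq u v huv
  have hr : IsClosed ({r} : Set ↥R.left) := by
    rw [isClosed_singleton_iff] at hu ⊢
    intro r1 hr1
    have h2 := hu _ (hr1.map p.left.continuous)
    exact (eq_of_specializes_of_eq_of_etale p.left hr1 h2.symm).symm
  exact q.left.closePoints_subset_preimage_closedPoints hr

theorem isClosed_point_of_isClosed_chart {X : Sp S} (hXa : IsAlgSpace X) (hd : IsDecent X)
    (h : EtaleLocally (fun U => JacobsonSpace ↥U) X)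
    {U : Over S} {a : (yon S).obj U ⟶ X} (ha : RepWith @Etale a) {u : ↥U.left}
    (hu : IsClosed ({u} : Set ↥U.left)) : IsClosed ({Points.ofPt a u} : Set (Points X)) := by
  rw [← closure_eq_iff_isClosed]
  ext y
  rw [← specializes_iff_mem_closure, Set.mem_singleton_iff]
  refine ⟨fun hy => ?_, fun hy => by rw [hy]⟩
  obtain ⟨V, b, v, hb, rfl⟩ := exists_chart hXa y
  obtain ⟨v', hv', hv'1⟩ := exists_generization_lift (finFibres_of_isDecent hd _) hb hy
  have h1 := isClosed_chart_point hXa h ha hb hv'1.symm hu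
  rw [isClosed_singleton_iff] at h1
  rw [h1 v hv', hv'1]

theorem isClosed_chart_of_isClosed_point {X : Sp S} (hXa : IsAlgSpace X)
    {U : Over S} {a : (yon S).obj U ⟶ X} (ha : RepWith @Etale a) {u : ↥U.left}
    (hd : FinFibres X (Points.ofPt a u))
    (hu : IsClosed ({Points.ofPt a u} : Set (Points X))) : IsClosed ({u} : Set ↥U.left) := by
  rw [isClosed_singleton_iff]
  intro u' hu'
  have h1 : Points.ofPt a u ⤳ Points.ofPt a u' := hu'.map (Points.continuous_ofPt a)
  have h2 : Points.ofPt a u' = Points.ofPt a u := by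
    have := specializes_iff_mem_closure.1 h1
    rw [hu.closure_eq] at this
    exact this
  exact (eq_of_specializes hXa ha hu' h2.symm (by rw [h2]; exact hd)).symm

/-- The space of points of a decent Jacobson algebraic space is Jacobson. -/
theorem jacobsonSpace_points {X : Sp S} (hXa : IsAlgSpace X) (hd : IsDecent X)
    (h : EtaleLocally (fun U => JacobsonSpace ↥U) X) : JacobsonSpace (Points X) := by
  rw [jacobsonSpace_iff_locallyClosed]
  intro Z hZ hZ'
  obtain ⟨U, a, ha1, ha2, hU⟩ := h
  have h1 : (Points.ofPt a ⁻¹' Z).Nonempty := hZ.preimage (ofPt_surjective ha2)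
  have h2 : IsLocallyClosed (Points.ofPt a ⁻¹' Z) := hZ'.preimage (Points.continuous_ofPt a)
  obtain ⟨u, huZ, hu⟩ := nonempty_inter_closedPoints h1 h2
  exact ⟨Points.ofPt a u, huZ, isClosed_point_of_isClosed_chart hXa hd ⟨U, a, ha1, ha2, hU⟩ ha1 hu⟩

/-- A point of an étale chart which is closed in an open subscheme of the chart maps to a locally closed
point of a decent space. -/
theorem isLocallyClosed_singleton_ofPt {X : Sp S} (hXa : IsAlgSpace X)
    {U : Over S} [IsAffine U.left] {a : (yon S).obj U ⟶ X} (ha : RepWith @Etale a) {u : ↥U.left}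
    (hd : FinFibres X (Points.ofPt a u)) (hu : IsClosed ({u} : Set ↥U.left)) :
    IsLocallyClosed ({Points.ofPt a u} : Set (Points X)) := by
  have hfin := hd U a inferInstance ha
  set F := Points.ofPt a ⁻¹' {Points.ofPt a u} with hF
  let C : Set ↥U.left := ⋃ v ∈ F \ {u}, closure {v}
  have hC : IsClosed C := (hfin.subset Set.sdiff_subset).isClosed_biUnion (fun v _ => isClosed_closure)
  have huC : u ∉ C := by
    intro h
    obtain ⟨v, hv, huv⟩ := Set.mem_iUnion₂.1 h
    have := eq_of_specializes hXa ha (specializes_iff_mem_closure.2 huv) hv.1 hd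
    exact hv.2 this
  refine ⟨Points.ofPt a '' Cᶜ, closure {Points.ofPt a u}, isOpenMap_ofPt ha _ hC.isOpen_compl,
    isClosed_closure, ?_⟩
  apply Set.Subset.antisymm
  · rintro _ rfl
    exact ⟨⟨u, huC, rfl⟩, subset_closure rfl⟩
  · rintro _ ⟨⟨v, hv, rfl⟩, hv'⟩
    obtain ⟨v', hv'1, hv'2⟩ := exists_generization_lift hd ha (specializes_iff_mem_closure.2 hv')
    have h1 : v' = u := by
      by_contra hne
      exact hv (Set.mem_iUnion₂.2 ⟨v', ⟨hv'2, hne⟩, specializes_iff_mem_closure.1 hv'1⟩)
    subst h1
    rw [isClosed_singleton_iff] at hu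
    rw [hu v hv'1]
    rfl

/-- If the space of points of a decent space is Jacobson, then so are its étale charts. -/
theorem jacobson_chart_of_points {X : Sp S} (hXa : IsAlgSpace X) (hd : IsDecent X)
    [JacobsonSpace (Points X)] {U : Over S} {a : (yon S).obj U ⟶ X} (ha : RepWith @Etale a) :
    JacobsonSpace ↥U.left := by
  rw [jacobsonSpace_iff_locallyClosed]
  intro Z ⟨z, hz⟩ hZ
  obtain ⟨O, C, hO, hC, rfl⟩ := hZ
  obtain ⟨W, hzW, hWO, hW⟩ := exists_affine_openChart z ⟨O, hO⟩ hz.1
  -- a closed point of `W` in `C`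
  let T : Set ↥(openChart U W).left := (openChartι U W).left ⁻¹' C
  have hT : IsClosed T := hC.preimage (openChartι U W).left.continuous
  have hc : CompactSpace ↥(openChart U W).left := inferInstance
  have hne : T.Nonempty := ⟨(⟨z, hzW⟩ : ↥W), hz.2⟩
  obtain ⟨w, hwT, hw⟩ := hT.exists_closed_singleton hne
  have h1 : Points.ofPt ((yon S).map (openChartι U W) ≫ a) w =
    Points.ofPt a ((openChartι U W).left w) := ofPt_comp _ _ _
  have h2 := isLocallyClosed_singleton_ofPt hXa (repWith_openChart ha W) (u := w)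
    (finFibres_of_isDecent hd _) hw
  have h3 := isClosed_singleton_of_isLocallyClosed_singleton h2
  rw [h1] at h3
  refine ⟨(openChartι U W).left w, ⟨hWO w.2, hwT⟩, ?_⟩
  exact isClosed_chart_of_isClosed_point hXa ha (finFibres_of_isDecent hd _) h3

end K621.Jacobson
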