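import Groth.Agent.AlgSp.K621.GenFinSp
import Groth.Agent.AlgSp.K609.QC
import Groth.Agent.AlgSp.K596.Pts
import Groth.Agent.AlgSp.K618.FieldFib

/-!
# Finiteness near a generic point

`NearFinite g v` for `g : F ⟶ h_V`, and criteria:
* `nearFinite_of_qc_qs`, `nearFinite_of_qc_min`, `nearFinite_of_sep`.
-/

set_option autoImplicit false
universe u
open CategoryTheory CategoryTheory.Limits AlgebraicGeometry Topology TopologicalSpace Opposite
open AlgSp

namespace K621.NearFin

open K621.Base K621.SchemeEt K621.GenFin K621.GenFinSp K621.QFin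

variable {S : Scheme.{u}} {F : Sp S} {V : Over S}

/-- `g` is finite over a neighbourhood of `v`. -/
def NearFinite (g : F ⟶ (yon S).obj V) (v : ↥V.left) : Prop :=
  ∃ W : V.left.Opens, v ∈ W ∧ IsAffine (openChart V W).left ∧
      ∀ {F' : Sp S} {φ : F' ⟶ F} {g' : F' ⟶ (yon S).obj (openChart V W)},
        IsPullback φ g' g ((yon S).map (openChartι V W)) → RepWith @IsFinite g'

/-- `g` is quasi-finite at the points over `v`. -/
def QFOver (g : F ⟶ (yon S).obj V) (v : ↥V.left) : Prop :=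
  ∀ ⦃U : Over S⦄ (q : (yon S).obj U ⟶ F) (h : U ⟶ V) (x : ↥U.left), RepWith @Etale q → q ≫ g = (yon S).map h →
    h.left x = v → h.left.QuasiFiniteAt x

/-- the generic points of `F` lie over `v`. -/
def MinOver (g : F ⟶ (yon S).obj V) (v : ↥V.left) : Prop :=
  ∀ ⦃U : Over S⦄ (q : (yon S).obj U ⟶ F) (h : U ⟶ V) (x : ↥U.left), RepWith @Etale q → q ≫ g = (yon S).map h →
    QFin.Min x → h.left x = v

theorem lft_chart {g : F ⟶ (yon S).obj V} (hg : LocP @LocallyOfFiniteType g) {U : Over S}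
    {q : (yon S).obj U ⟶ F} {h : U ⟶ V} (hq : RepWith @Etale q) (hh : q ≫ g = (yon S).map h) :
    LocallyOfFiniteType h.left := by
  refine hg q (𝟙 _) h hq (repWith_id _ _) ?_
  rw [hh, Category.comp_id]

theorem rel_w {g : F ⟶ (yon S).obj V} {U R : Over S}
    {q : (yon S).obj U ⟶ F} {h : U ⟶ V} (hh : q ≫ g = (yon S).map h) {s t : R ⟶ U}
    (sq : IsPullback ((yon S).map t) ((yon S).map s) q q) : t ≫ h = s ≫ h := by
  apply (yon S).map_injective
  rw [Functor.map_comp, Functor.map_comp, ← hh, ← Category.assoc, ← Category.assoc, sq.w]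

theorem nearFinite_of_qc_qs (hF : IsAlgSpace F) (hc : IsQuasiCompactSp F) {g : F ⟶ (yon S).obj V} [IsAffine V.left]
    (hg : LocP @LocallyOfFiniteType g) (hqs : RepWith @QuasiCompact (pullback.diagonal g)) {v : ↥V.left}
    (hv : QFin.Min v) (hqf : QFOver g v) : NearFinite g v := by
  obtain ⟨U, q, hUa, hqe, hqsu⟩ := K609.QC.exists_affine_chart hc
  obtain ⟨h, hh⟩ := (yon S).map_surjective (q ≫ g)
  obtain ⟨R, t, s, sq⟩ := exists_pullback hF q q
  have hlft : LocallyOfFiniteType h.left := lft_chart hg hqe hh.symm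
  have hqc : QuasiCompact h.left := inferInstance
  obtain ⟨W₁, hW₁, H₁⟩ := exists_isFinite h.left hv (fun x hx => hqf q h x hqe hh.symm hx)
  have hse : Etale s.left := hqe.2 _ _ _ sq
  have hst : t ≫ h = s ≫ h := rel_w hh.symm sq
  have hsqc : QuasiCompact s.left := by
    have h1 : RepWith @QuasiCompact (q ≫ g) := by
      rw [← hh]
      exact (repWith_yon_map_iff _ _).2 hqc
    exact (K613.Diag.repWith_of_comp h1 hqs).2 _ _ _ sq
  have hRlft : LocallyOfFiniteType (s ≫ h).left := inferInstanceAs (LocallyOfFiniteType (s.left ≫ h.left))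
  have hRqc : QuasiCompact (s ≫ h).left := inferInstanceAs (QuasiCompact (s.left ≫ h.left))
  have hRsep : IsSeparated (s ≫ h).left := K621.QuotFin.isSeparated_rel sq hst
  obtain ⟨W₂, hW₂, H₂⟩ := exists_isFinite (s ≫ h).left hv (fun x hx =>
    (quasiFiniteAt_etale_comp s.left h.left x).2 (hqf q h _ hqe hh.symm hx))
  exact exists_repWith_finite hF hg hqe hqsu sq hh.symm hW₁ H₁ hW₂ H₂

/-- the points of `U ×_V U` over `v` are finite in number if `U` is finite over `V` near `v`. -/
theorem finite_preimage_pullback {U V P : Scheme.{u}} {h : U ⟶ V} {W : V.Opens} (H : IsFinite (h ∣_ W)) {v : V}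
    (hv : v ∈ W) {p₁ p₂ : P ⟶ U} (sq : IsPullback p₁ p₂ h h) : ((p₂ ≫ h) ⁻¹' {v}).Finite := by
  have h1 : IsFinite (p₂ ∣_ (h ⁻¹ᵁ W)) := by
    have sq1 := (isPullback_morphismRestrict p₂ (h ⁻¹ᵁ W)).flip.paste_horiz sq
    refine isFinite_of_factors H sq1 ?_
    rintro _ ⟨x, rfl⟩
    exact x.2
  have h2 : IsFinite ((p₂ ≫ h) ∣_ W) := by
    rw [morphismRestrict_comp]
    exact MorphismProperty.comp_mem @IsFinite _ _ h1 H
  have h3 := ((p₂ ≫ h) ∣_ W).finite_preimage_singleton ⟨v, hv⟩
  refine (h3.image Subtype.val).subset ?_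
  intro x hx
  have hxW : x ∈ (p₂ ≫ h) ⁻¹ᵁ W := by
    change (p₂ ≫ h) x ∈ W
    rw [Set.mem_singleton_iff.1 hx]
    exact hv
  exact ⟨⟨x, hxW⟩, Subtype.ext ((morphismRestrict_base_coe _ _ _).trans hx), rfl⟩

theorem min_of_etale {U V : Scheme.{u}} (e : U ⟶ V) [Etale e] {x : U} (hx : QFin.Min x) : QFin.Min (e x) := by
  intro y hy
  obtain ⟨x', hx', rfl⟩ := exists_generization e hy
  rw [hx _ hx']

theorem nearFinite_of_qc_min (hF : IsAlgSpace F) (hc : IsQuasiCompactSp F) {g : F ⟶ (yon S).obj V} [IsAffine V.left]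
    (hg : LocP @LocallyOfFiniteType g) {v : ↥V.left}
    (hv : QFin.Min v) (hqf : QFOver g v) (hmin : MinOver g v) : NearFinite g v := by
  obtain ⟨U, q, hUa, hqe, hqsu⟩ := K609.QC.exists_affine_chart hc
  obtain ⟨h, hh⟩ := (yon S).map_surjective (q ≫ g)
  obtain ⟨R, t, s, sq⟩ := exists_pullback hF q q
  have hlft : LocallyOfFiniteType h.left := lft_chart hg hqe hh.symm
  have hqc : QuasiCompact h.left := inferInstance
  obtain ⟨W₁, hW₁, H₁⟩ := exists_isFinite h.left hv (fun x hx => hqf q h x hqe hh.symm hx)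
  have hse : Etale s.left := hqe.2 _ _ _ sq
  have hst : t ≫ h = s ≫ h := rel_w hh.symm sq
  have hRlft : LocallyOfFiniteType (s ≫ h).left := inferInstanceAs (LocallyOfFiniteType (s.left ≫ h.left))
  have hRsep : IsSeparated (s ≫ h).left := K621.QuotFin.isSeparated_rel sq hst
  have hfin : ((s ≫ h).left ⁻¹' {v}).Finite := by
    have sqP := (IsPullback.of_hasPullback h h).map (Over.forget S)
    have h1 := finite_preimage_pullback H₁ hW₁ sqP
    have h9 := K621.QuotFin.mono_lift sq hst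
    have h10 : Mono (pullback.lift t s hst).left := K613.Unram.mono_left _
    have h3 : pullback.lift t s hst ≫ pullback.snd h h ≫ h = s ≫ h := by
      rw [← Category.assoc, pullback.lift_snd]
    have h4 := congrArg (fun z => z.left) h3
    change (pullback.lift t s hst).left ≫ (pullback.snd h h).left ≫ h.left = (s ≫ h).left at h4
    refine Set.Finite.of_injOn (f := (pullback.lift t s hst).left) (t := ((pullback.snd h h).left ≫ h.left) ⁻¹' {v}) ?_
      (pullback.lift t s hst).left.injective.injOn h1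
    intro x hx
    rw [← h4] at hx
    exact hx
  obtain ⟨W₂, hW₂, H₂⟩ := exists_isFinite_of_min (s ≫ h).left hv hfin (fun x hx =>
    (quasiFiniteAt_etale_comp s.left h.left x).2 (hqf q h _ hqe hh.symm hx)) (fun x hx =>
      hmin q h (s.left x) hqe hh.symm (min_of_etale s.left hx))
  exact exists_repWith_finite hF hg hqe hqsu sq hh.symm hW₁ H₁ hW₂ H₂

end K621.NearFin
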