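import Groth.Agent.AlgSp.K621.NearFinSep
import Groth.Agent.AlgSp.K621.Decent

/-!
# Finite fibres of base changes of étale charts of decent spaces
-/

set_option autoImplicit false
universe u
open CategoryTheory CategoryTheory.Limits AlgebraicGeometry Topology TopologicalSpace Opposite
open AlgSp

namespace K621.NearFin

open K621.Base K621.SchemeEt K621.GenFin K621.GenFinSp K621.QFin K621.Generic

variable {S : Scheme.{u}}

/-- Every field point of a decent space is quasi-compact. -/
theorem repWith_quasiCompact_of_isDecent {Y : Sp S} (hY : IsDecent Y) (q : FieldPt Y) :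
    RepWith @QuasiCompact q.toHom := by
  obtain ⟨p, hp, hm, hqc⟩ := hY (Points.mk q)
  obtain ⟨c, hc⟩ := K618.FieldFib.factors_of_mono p q hm hqc.1 hp.symm
  rw [← hc]
  refine repWith_comp ((repWith_yon_map_iff _ _).2 ?_) hqc
  have h1 : IsAffine q.pt.left := inferInstanceAs (IsAffine (Spec (CommRingCat.of q.K)))
  have h2 : IsAffine p.pt.left := inferInstanceAs (IsAffine (Spec (CommRingCat.of p.K)))
  infer_instance

theorem finite_fibre_baseChange {X Y F : Sp S} (hYd : IsDecent Y) {f : X ⟶ Y} {V : Over S}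
    [CompactSpace V.left] {b : (yon S).obj V ⟶ Y} (hb : RepWith @Etale b) {φ : F ⟶ X} {g : F ⟶ (yon S).obj V}
    (sq : IsPullback φ g f b) (x : Points X) : {z : Points F | Points.map φ z = x}.Finite := by
  induction x using Points.ind with
  | h p =>
  have hq := repWith_quasiCompact_of_isDecent hYd (p.map f)
  rw [FieldPt.toHom_map] at hq
  obtain ⟨E, i, e, sqE, he⟩ := exists_pullback_of_repWith hb (p.toHom ≫ f)
  -- `e : E ⟶ p.pt`, `i : E ⟶ V`
  have hi : QuasiCompact i.left := hq.2 _ _ _ sqE.flip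
  have hcE : CompactSpace ↥E.left := QuasiCompact.compactSpace_of_compactSpace i.left
  have hd : DiscreteTopology ↥E.left := discreteTopology_of_etale_field p.K _ e.left
  have hfin : Finite ↥E.left := finite_of_compact_of_discrete
  let l : (yon S).obj E ⟶ F := sq.lift ((yon S).map e ≫ p.toHom) ((yon S).map i) (by
    rw [Category.assoc, sqE.w])
  have hl1 : l ≫ φ = (yon S).map e ≫ p.toHom := sq.lift_fst _ _ _
  have hl2 : l ≫ g = (yon S).map i := sq.lift_snd _ _ _
  have sq' : IsPullback l ((yon S).map e) φ p.toHom := by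
    refine IsPullback.of_right (h₁₂ := g) (v₁₃ := b) (h₂₂ := f) ?_ hl1 sq.flip
    rw [hl2]
    exact sqE
  refine (Set.finite_range (Points.ofPt l)).subset ?_
  intro z hz
  let s : ↥(Spec (CommRingCat.of p.K)) := IsLocalRing.closedPoint p.K
  have h1 : Points.ofPt p.toHom s = Points.map φ z := by
    rw [Points.ofPt_toHom p s]; exact hz.symm
  obtain ⟨r, -, hr⟩ := exists_point_of_isPullback' sq' s z h1
  exact ⟨r, hr⟩

/-- The codimension zero points are dense. -/
theorem dense_codimZero {Y : Sp S} (hY : IsAlgSpace Y) {T : Set (Points Y)} (hT : ∀ y, CodimZero Y y → y ∈ T) :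
    Dense T := by
  rw [dense_iff_inter_open]
  rintro O hO ⟨y, hy⟩
  obtain ⟨U, a, x, ha, rfl⟩ := exists_chart hY y
  obtain ⟨η, hη, hηx⟩ := exists_min_specializes x
  refine ⟨Points.ofPt a η, ?_, hT _ ((codimZero_iff hY ha).2 hη)⟩
  exact (hηx.map (Points.continuous_ofPt a)).mem_open hO hy

/-- A point of codimension zero of a decent space with finitely many codimension zero points lies under an affine étale
chart with a single generic point. -/
theorem exists_chart_min {Y : Sp S} (hY : IsAlgSpace Y) (hYd : IsDecent Y) (hfin : {y | CodimZero Y y}.Finite)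
    {y : Points Y} (hy : CodimZero Y y) :
    ∃ (V : Over S) (b : (yon S).obj V ⟶ Y) (v : ↥V.left), IsAffine V.left ∧ RepWith @Etale b ∧ Points.ofPt b v = y ∧
      QFin.Min v ∧ ∀ v', QFin.Min v' → v' = v := by
  obtain ⟨V₀, b₀, v₀, hb₀, rfl⟩ := exists_chart hY y
  obtain ⟨W₀, hvW₀, -, hW₀a⟩ := exists_affine_openChart v₀ ⊤ trivial
  let V := openChart V₀ W₀
  let b : (yon S).obj V ⟶ Y := (yon S).map (openChartι V₀ W₀) ≫ b₀
  have hb : RepWith @Etale b := repWith_openChart hb₀ W₀
  let v : ↥V.left := ⟨v₀, hvW₀⟩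
  have hbv : Points.ofPt b v = Points.ofPt b₀ v₀ := ofPt_openChart b₀ W₀ v
  have hVa : IsAffine V.left := hW₀a
  rw [← hbv] at hy ⊢
  have hmin : QFin.Min v := fun v' hv' => CodimZero.chart hY hb hy hv'
  have h1 : {v' : V.left | QFin.Min v'}.Finite := by
    have h2 : (Points.ofPt b ⁻¹' {y | CodimZero Y y}).Finite :=
      hfin.preimage' fun y _ => K621.Decent.finFibres_of_isDecent hYd y V b hVa hb
    refine h2.subset ?_
    intro v' hv'
    exact (codimZero_iff hY hb).2 hv'
  have h3 : ({v' : V.left | QFin.Min v'} \ {v}).Finite := h1.sdiff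
  let O : V.left.Opens := ⟨(⋃ v' ∈ {v' : V.left | QFin.Min v'} \ {v}, closure {v'})ᶜ,
    (h3.isClosed_biUnion fun _ _ => isClosed_closure).isOpen_compl⟩
  have hvO : v ∈ O := by
    intro h4
    obtain ⟨v', ⟨-, hv'1⟩, hv'2⟩ := Set.mem_iUnion₂.1 h4
    exact hv'1 (hmin _ (specializes_iff_mem_closure.2 hv'2))
  obtain ⟨W, hvW, hWO, hWa⟩ := exists_affine_openChart v O hvO
  refine ⟨openChart V W, (yon S).map (openChartι V W) ≫ b, ⟨v, hvW⟩, hWa, repWith_openChart hb W,
    ofPt_openChart b W ⟨v, hvW⟩, min_restrict hvW hmin, ?_⟩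
  rintro ⟨v', hv'W⟩ hv'
  have h5 := min_of_restrict hv'W hv'
  apply Subtype.ext
  by_contra h6
  refine hWO hv'W (Set.mem_iUnion₂.2 ⟨v', ⟨h5, h6⟩, subset_closure rfl⟩)

end K621.NearFin
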