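import Groth.Agent.AlgSp.K621.NearFin
import Groth.Agent.AlgSp.K621.Generic

/-!
# Finiteness near a generic point : the separated case

* `nearFinite_of_sep` ;
* `finite_fibre_baseChange`: for `Y` decent and `V ⟶ Y` étale with `V` quasi-compact, the fibres of `|X ×_Y V| ⟶ |X|` are
  finite.
-/

set_option autoImplicit false
universe u
open CategoryTheory CategoryTheory.Limits AlgebraicGeometry Topology TopologicalSpace Opposite
open AlgSp

namespace K621.NearFin

open K621.Base K621.SchemeEt K621.GenFin K621.GenFinSp K621.QFin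

variable {S : Scheme.{u}} {F : Sp S} {V : Over S}

theorem isIso_diagonal_of_mono {G H : Sp S} (j : G ⟶ H) [Mono j] : IsIso (pullback.diagonal j) := inferInstance

theorem nearFinite_of_sep (hF : IsAlgSpace F) {g : F ⟶ (yon S).obj V} [IsAffine V.left]
    (hg : LocP @LocallyOfFiniteType g) (hsep : RepWith @IsClosedImmersion (pullback.diagonal g)) {v : ↥V.left}
    (hv : QFin.Min v) (hqf : QFOver g v) (hmin : MinOver g v)
    (hfin : {z : Points F | Points.map g z = Points.ofScheme V v}.Finite) : NearFinite g v := by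
  set Z := {z : Points F | Points.map g z = Points.ofScheme V v} with hZ
  -- a quasi-compact open subspace containing `Z`
  obtain ⟨U₀, a₀, ha₀, hs₀⟩ := hF.atlas
  have h1 : ∀ z : Points F, ∃ A : U₀.left.Opens, IsCompact (A : Set U₀.left) ∧ ∃ x ∈ A, Points.ofPt a₀ x = z := by
    intro z
    obtain ⟨x, hx⟩ := ofPt_surjective hs₀ z
    obtain ⟨_, ⟨A, hA, rfl⟩, hxA, -⟩ := U₀.left.isBasis_affineOpens.exists_subset_of_mem_open
      (Set.mem_univ x) isOpen_univ
    exact ⟨A, hA.isCompact, x, hxA, hx⟩
  choose A hA a haA ha using h1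
  let U' : U₀.left.Opens := ⟨⋃ z ∈ Z, A z, isOpen_biUnion fun z _ => (A z).2⟩
  have hU'c : IsCompact (U' : Set U₀.left) := hfin.isCompact_biUnion fun z _ => hA z
  let a' : (yon S).obj (openChart U₀ U') ⟶ F := (yon S).map (openChartι U₀ U') ≫ a₀
  have ha'e : RepWith @Etale a' := repWith_openChart ha₀ U'
  obtain ⟨F₁, j, hj, hr⟩ := K610.Sub.exists_open_subspace (⟨F, hF⟩ : Space S) (Set.range (Points.ofPt a'))
    (isOpenMap_ofPt ha'e).isOpen_range
  obtain ⟨a'', ha'', ha''e, ha''s⟩ := K610.OpenImm.exists_corestrict hF hj hr @Etale ha'e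
  have hjm : Mono j.hom := K610.Factor.mono_of_isOpenImmersion hj
  have hje : RepWith @Etale j.hom := K610.OpenImm.repWith_etale_of_open hj
  have hF₁c : IsQuasiCompactSp F₁.obj :=
    ⟨_, a'', ha''e, ha''s, (isCompact_iff_compactSpace.1 hU'c : CompactSpace U')⟩
  have hZj : ∀ z ∈ Z, z ∈ Set.range (Points.map j.hom) := by
    intro z hz
    rw [hr]
    have hzU : a z ∈ U' := Set.mem_biUnion hz (haA z)
    exact ⟨(⟨a z, hzU⟩ : U'), (ofPt_openChart a₀ U' ⟨a z, hzU⟩).trans (ha z)⟩
  -- it is finite near `v`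
  have hg₁ : LocP @LocallyOfFiniteType (j.hom ≫ g) := by
    intro U W a b h ha hb w
    refine hg (a ≫ j.hom) b h (repWith_etale_comp ha hje) hb ?_
    rw [← w, Category.assoc]
  have hdiagj : RepWith @IsClosedImmersion (pullback.diagonal j.hom) :=
    have := isIso_diagonal_of_mono j.hom
    MorphismProperty.of_isIso (P := RepWith @IsClosedImmersion) _
  have hd₁ : RepWith @IsClosedImmersion (pullback.diagonal (j.hom ≫ g)) := K613.Diag.repWith_diagonal_comp hdiagj hsep
  obtain ⟨W, hvW, hWa, hW⟩ := nearFinite_of_qc_qs F₁.property hF₁c hg₁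
    (K610.Base.repWith_mono (fun _ _ f (_ : IsClosedImmersion f) => (inferInstance : QuasiCompact f)) hd₁) hv
    (fun U q h x hq hh hx => hqf (q ≫ j.hom) h x (repWith_etale_comp hq hje) (by rw [Category.assoc, hh]) hx)
  refine ⟨W, hvW, hWa, ?_⟩
  intro F' φ g' sq
  have hF' : IsAlgSpace F' := K613.Chart.isAlgSpace_of_isPullback (IsAlgSpace.yon_obj V).diag hF
    (IsAlgSpace.yon_obj _) sq
  have hιe : RepWith @Etale ((yon S).map (openChartι V W)) :=
    repWith_etale_map (show Etale W.ι from inferInstance)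
  have hφe : RepWith @Etale φ := repWith_baseChange sq.flip hιe
  -- the open subspace `F₁ ×_F F'`
  let p₁ := pullback.fst j.hom φ
  let j' := pullback.snd j.hom φ
  have sq₁ : IsPullback p₁ j' j.hom φ := IsPullback.of_hasPullback _ _
  have hj' : RepWith @IsOpenImmersion j' := MorphismProperty.of_isPullback (P := RepWith @IsOpenImmersion) sq₁ hj
  have hfin' : RepWith @IsFinite (j' ≫ g') := hW (sq₁.paste_vert sq)
  have hd' : RepWith @IsClosedImmersion (pullback.diagonal g') := K613.Diag.repWith_diagonal_of_isPullback hsep sq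
  have hj'f : RepWith @IsFinite j' := K613.Diag.repWith_of_comp hfin'
    (K610.Base.repWith_mono (fun _ _ f (_ : IsClosedImmersion f) => (inferInstance : IsFinite f)) hd')
  have hsurj : Function.Surjective (Points.map j') := by
    intro x'
    obtain ⟨B, b, β, hb, rfl⟩ := exists_chart hF' x'
    obtain ⟨h, hh⟩ := (yon S).map_surjective (b ≫ g')
    obtain ⟨P, p, r, sqP⟩ := hj'.1 b
    have hpf : IsFinite p.left := hj'f.2 _ _ _ sqP
    obtain ⟨η, hη, hηβ⟩ := exists_min_specializes β
    have h2 : (h ≫ openChartι V W).left η = v := by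
      refine hmin (b ≫ φ) (h ≫ openChartι V W) η (repWith_etale_comp hb hφe) ?_ hη
      rw [Category.assoc, sq.w, ← Category.assoc, ← hh, Functor.map_comp]
    have h3 : Points.map φ (Points.ofPt b η) ∈ Z := by
      change Points.map g (Points.map φ (Points.ofPt b η)) = _
      rw [Points.map_ofPt, Points.map_ofPt, Category.assoc, sq.w, ← Category.assoc, ← hh, ← Functor.map_comp]
      have h4 := ofPt_comp (h ≫ openChartι V W) (𝟙 _) η
      rw [Category.comp_id, h2] at h4
      rw [h4, Points.ofPt_eq_map_ofScheme, Points.map_id]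
    obtain ⟨y, hy⟩ := hZj _ h3
    obtain ⟨z, -, hz⟩ := exists_of_isPullback sq₁ y (Points.ofPt b η) hy
    obtain ⟨z', hz'1, hz'2⟩ := exists_point_of_isPullback' sqP η z hz.symm
    obtain ⟨w, hw⟩ := hηβ.mem_closed p.left.isClosedMap.isClosed_range ⟨z', hz'1⟩
    refine ⟨Points.ofPt r w, ?_⟩
    rw [Points.map_ofPt, sqP.w, ofPt_comp, hw]
  have hiso : IsIso j' := by
    have := K610.Factor.mono_of_isOpenImmersion hj'
    have h5 : RepWith @Surjective j' := (K596.Pts.repWith_surjective_iff hj'.1).2 hsurj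
    exact (K613.Cover.ESurj.of_repWith (K610.OpenImm.repWith_etale_of_open hj') h5).fSurj.isIso_of_mono
  have h6 : g' = inv j' ≫ (j' ≫ g') := by rw [IsIso.inv_hom_id_assoc]
  rw [h6]
  exact repWith_comp (MorphismProperty.of_isIso (P := RepWith @IsFinite) _) hfin'

end K621.NearFin
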