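import Mathlib.Topology.NoetherianSpace
import Mathlib.Topology.Sober
import Mathlib.Topology.JacobsonSpace
import Mathlib.Topology.Spectral.Basic
import Mathlib.Topology.Spectral.Prespectral

/-!
# Topological lemmas: Noetherian sober spaces
-/

set_option autoImplicit false
open Topology TopologicalSpace

namespace K621.NoethTop

/-- If all locally closed points of a Noetherian T0 space are closed, then the space is Jacobson. -/
theorem jacobsonSpace_of_locallyClosed_points {W : Type*} [TopologicalSpace W] [NoetherianSpace W] [T0Space W]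
    (h : ∀ w : W, IsLocallyClosed ({w} : Set W) → IsClosed ({w} : Set W)) : JacobsonSpace W := by
  rw [jacobsonSpace_iff_locallyClosed]
  intro Z hZ hZ'
  have : Nonempty Z := hZ.to_subtype
  obtain ⟨z, -, hz⟩ := (isClosed_univ : IsClosed (Set.univ : Set Z)).exists_closed_singleton Set.univ_nonempty
  refine ⟨z.1, z.2, h _ ?_⟩
  obtain ⟨C, hC, hCz⟩ := isClosed_induced_iff.1 hz
  have : ({z.1} : Set W) = C ∩ Z := by
    ext w
    constructor
    · rintro rfl
      refine ⟨?_, z.2⟩
      have : z ∈ Subtype.val ⁻¹' C := by rw [hCz]; rfl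
      exact this
    · rintro ⟨h1, h2⟩
      have : (⟨w, h2⟩ : Z) ∈ Subtype.val ⁻¹' C := h1
      rw [hCz] at this
      exact congrArg Subtype.val this
  rw [this]
  exact hC.isLocallyClosed.inter hZ'

/-- Let `φ : U → P` be open and continuous with `U` quasi-sober, `T` irreducible closed in `P` such that
`φ ⁻¹ T` is nonempty with finitely many irreducible components. Then `T` has a generic point. -/
theorem exists_genericPoint {U P : Type*} [TopologicalSpace U] [TopologicalSpace P] [QuasiSober U]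
    {φ : U → P} (hφ : Continuous φ) (hφo : IsOpenMap φ) {T : Set P} (hT : IsIrreducible T) (hTc : IsClosed T)
    (hne : (φ ⁻¹' T).Nonempty) (hfin : (irreducibleComponents (φ ⁻¹' T)).Finite) :
    ∃ x, IsGenericPoint x T := by
  have hZc : IsClosed (φ ⁻¹' T) := hTc.preimage hφ
  have hsob : QuasiSober ↥(φ ⁻¹' T) := hZc.isClosedEmbedding_subtypeVal.quasiSober
  obtain ⟨z0, hz0⟩ := hne
  have hZ1 : irreducibleComponent (⟨z0, hz0⟩ : ↥(φ ⁻¹' T)) ∈ irreducibleComponents ↥(φ ⁻¹' T) :=
    irreducibleComponent_mem_irreducibleComponents _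
  set Z1 := irreducibleComponent (⟨z0, hz0⟩ : ↥(φ ⁻¹' T)) with hZ1def
  obtain ⟨z1, hz1⟩ := QuasiSober.sober hZ1.1 (isClosed_of_mem_irreducibleComponents _ hZ1)
  -- the union of the other components
  let C' : Set ↥(φ ⁻¹' T) := ⋃ Z ∈ irreducibleComponents ↥(φ ⁻¹' T) \ {Z1}, Z
  have hC' : IsClosed C' := (hfin.subset Set.sdiff_subset).isClosed_biUnion
    (fun Z hZ => isClosed_of_mem_irreducibleComponents _ hZ.1)
  have hz1C' : z1 ∉ C' := by
    intro h
    obtain ⟨Z, hZ, hz⟩ := Set.mem_iUnion₂.1 h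
    have h1 : Z1 ⊆ Z := by
      rw [← hz1.def]
      exact closure_minimal (Set.singleton_subset_iff.2 hz) (isClosed_of_mem_irreducibleComponents _ hZ.1)
    exact hZ.2 (Set.Subset.antisymm (hZ1.2 hZ.1.1 h1) h1)
  -- open subset of `U`
  let C : Set U := Subtype.val '' C'
  have hC : IsClosed C := hZc.isClosedEmbedding_subtypeVal.isClosedMap _ hC'
  refine ⟨φ z1.1, ?_⟩
  have hO : IsOpen (φ '' Cᶜ) := hφo _ hC.isOpen_compl
  have h3 : (T ∩ φ '' Cᶜ).Nonempty := by
    refine ⟨φ z1.1, z1.2, z1.1, ?_, rfl⟩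
    rintro ⟨z, hz, hzz⟩
    rw [Subtype.ext hzz] at hz
    exact hz1C' hz
  have h4 := subset_closure_inter_of_isPreirreducible_of_isOpen hT.isPreirreducible hO h3
  apply Set.Subset.antisymm
  · exact closure_minimal (Set.singleton_subset_iff.2 z1.2) hTc
  · refine h4.trans (closure_minimal ?_ isClosed_closure)
    rintro _ ⟨ht, u, hu, rfl⟩
    have h5 : (⟨u, ht⟩ : ↥(φ ⁻¹' T)) ∈ Z1 := by
      by_contra hcon
      apply hu
      refine ⟨⟨u, ht⟩, Set.mem_iUnion₂.2 ⟨irreducibleComponent ⟨u, ht⟩,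
        ⟨irreducibleComponent_mem_irreducibleComponents _, ?_⟩, mem_irreducibleComponent⟩, rfl⟩
      intro h6
      apply hcon
      rw [← show irreducibleComponent (⟨u, ht⟩ : ↥(φ ⁻¹' T)) = Z1 from h6]
      exact mem_irreducibleComponent
    rw [← hz1.def] at h5
    have h6 : z1 ⤳ (⟨u, ht⟩ : ↥(φ ⁻¹' T)) := specializes_iff_mem_closure.2 h5
    exact specializes_iff_mem_closure.1 ((h6.map continuous_subtype_val).map hφ)

/-- The subspace of proper generizations of a point in a quasi-sober T0 space is quasi-sober. -/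
theorem quasiSober_generizations {P : Type*} [TopologicalSpace P] [QuasiSober P] [T0Space P] (x : P) :
    QuasiSober {x' : P // x' ⤳ x ∧ x' ≠ x} := by
  constructor
  intro T hT hTc
  have h1 : IsIrreducible (closure (Subtype.val '' T)) :=
    (hT.image Subtype.val continuous_subtype_val.continuousOn).closure
  obtain ⟨η, hη⟩ := QuasiSober.sober h1 isClosed_closure
  obtain ⟨w, hw⟩ := hT.nonempty
  have h2 : η ⤳ w.1 := by
    rw [specializes_iff_mem_closure, hη.def]
    exact subset_closure ⟨w, hw, rfl⟩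
  have h3 : η ≠ x := by
    rintro rfl
    exact w.2.2 (w.2.1.antisymm h2).eq
  let ξ : {x' : P // x' ⤳ x ∧ x' ≠ x} := ⟨η, h2.trans w.2.1, h3⟩
  refine ⟨ξ, ?_⟩
  have he : IsEmbedding (Subtype.val : {x' : P // x' ⤳ x ∧ x' ≠ x} → P) := IsEmbedding.subtypeVal
  change closure {ξ} = T
  rw [he.closure_eq_preimage_closure_image, Set.image_singleton]
  change Subtype.val ⁻¹' closure {η} = T
  rw [hη.def, ← he.closure_eq_preimage_closure_image, hTc.closure_eq]

end K621.NoethTop
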