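import Groth.Agent.AlgSp.K621.Generic
import Groth.Agent.AlgSp.K621.Charts
import Groth.Agent.AlgSp.K621.NoethTop
import Groth.Agent.AlgSp.K621.Jac
import Groth.Agent.S3433

/-!
# Locally Noetherian spaces: soberness, punctured generizations
-/

set_option autoImplicit false
universe u
open CategoryTheory CategoryTheory.Limits AlgebraicGeometry Topology TopologicalSpace Opposite
open AlgSp

namespace K621.Punct

open K621.Base K621.SchemeEt K621.Decent K621.Charts K621.FiniteMor K621.NoethTop

variable {S : Scheme.{u}}

/-- The space of points of a locally Noetherian algebraic space is quasi-sober. -/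
theorem quasiSober_of_isLocNoethSp {X : Sp S} (hX : IsAlgSpace X) (hN : IsLocNoethSp X) :
    QuasiSober (Points X) := by
  constructor
  intro T hT hTc
  obtain ⟨x, hx⟩ := hT.nonempty
  obtain ⟨U, a, u, hU, ha, rfl⟩ := exists_affine_chart hX x
  have h1 := isLocallyNoetherian_chart hN ha
  have h2 : IsNoetherian U.left := {}
  exact exists_genericPoint (Points.continuous_ofPt a) (isOpenMap_ofPt ha) hT hTc ⟨u, hx⟩
    (NoetherianSpace.finite_irreducibleComponents)

/-- Proper generizations of a point of a decent locally Noetherian space. -/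
theorem punct {X : Sp S} (hX : IsAlgSpace X) (hd : ∀ x, FinFibres X x) (hN : IsLocNoethSp X) (x : Points X) :
    NoetherianSpace {x' : Points X // x' ⤳ x ∧ x' ≠ x} ∧
      SpectralSpace {x' : Points X // x' ⤳ x ∧ x' ≠ x} ∧
      QuasiSober {x' : Points X // x' ⤳ x ∧ x' ≠ x} ∧
      JacobsonSpace {x' : Points X // x' ⤳ x ∧ x' ≠ x} := by
  have hT0 := t0Space_of_finFibres hX hd
  have hsob := quasiSober_of_isLocNoethSp hX hN
  have hsobW := quasiSober_generizations x
  obtain ⟨U, a, u, hU, ha, rfl⟩ := exists_affine_chart hX x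
  have h1 := isLocallyNoetherian_chart hN ha
  let R : CommRingCat := U.left.presheaf.stalk u
  have hR : IsNoetherianRing R := inferInstanceAs (IsNoetherianRing (U.left.presheaf.stalk u))
  have hRl : IsLocalRing R := inferInstanceAs (IsLocalRing (U.left.presheaf.stalk u))
  let g : ↥(Spec R) → ↥U.left := U.left.fromSpecStalk u
  have hg : Continuous g := (U.left.fromSpecStalk u).continuous
  have hginj : Function.Injective g := (U.left.fromSpecStalk u).isEmbedding.injective
  have hgr : ∀ p, g p ⤳ u := by
    intro p
    have : g p ∈ Set.range (U.left.fromSpecStalk u) := ⟨p, rfl⟩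
    rw [Scheme.range_fromSpecStalk] at this
    exact this
  have hgc : g (IsLocalRing.closedPoint R) = u := Scheme.fromSpecStalk_closedPoint
  let A : Set (PrimeSpectrum R) := {IsLocalRing.closedPoint R}ᶜ
  let W := {x' : Points X // x' ⤳ Points.ofPt a u ∧ x' ≠ Points.ofPt a u}
  have hψ : ∀ p : A, Points.ofPt a (g p.1) ⤳ Points.ofPt a u ∧ Points.ofPt a (g p.1) ≠ Points.ofPt a u := by
    intro p
    refine ⟨(hgr p.1).map (Points.continuous_ofPt a), fun h => p.2 ?_⟩
    have := Decent.eq_of_specializes hX ha (hgr p.1) h (hd _)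
    rw [← hgc] at this
    exact hginj this
  let ψ : A → W := fun p => ⟨Points.ofPt a (g p.1), hψ p⟩
  have hψc : Continuous ψ :=
    Continuous.subtype_mk ((Points.continuous_ofPt a).comp (hg.comp continuous_subtype_val)) _
  -- lifting generizations
  have hlift : ∀ (w : W) (p : PrimeSpectrum R), w.1 ⤳ Points.ofPt a (g p) →
      ∃ q : A, (q : PrimeSpectrum R) ⤳ p ∧ ψ q = w := by
    intro w p hw
    obtain ⟨v, hv, hv1⟩ := exists_generization_lift (hd w.1) ha hw
    have hvu : v ∈ Set.range (U.left.fromSpecStalk u) := by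
      rw [Scheme.range_fromSpecStalk]
      exact hv.trans (hgr p)
    obtain ⟨q, rfl⟩ := hvu
    have hq : q ∈ A := by
      rintro rfl
      apply w.2.2
      rw [← hv1]
      exact congrArg (Points.ofPt a) hgc
    refine ⟨⟨q, hq⟩, ?_, Subtype.ext hv1⟩
    exact (U.left.fromSpecStalk u).isEmbedding.specializes_iff.1 hv
  have hsurj : Function.Surjective ψ := by
    intro w
    obtain ⟨q, -, hq⟩ := hlift w (IsLocalRing.closedPoint R) (by rw [hgc]; exact w.2.1)
    exact ⟨q, hq⟩
  have hNA : NoetherianSpace A := inferInstance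
  have hNW : NoetherianSpace W := by
    have := NoetherianSpace.range (α := A) ψ hψc
    rw [hsurj.range_eq] at this
    exact (noetherian_univ_iff (α := W)).1 this
  have hTW : T0Space W := inferInstance
  refine ⟨hNW, { }, hsobW, ?_⟩
  have hJ := (Groth.Agent.S3433.result R).1
  refine jacobsonSpace_of_locallyClosed_points (W := W) ?_
  intro w hw
  have h3 : IsLocallyClosed (ψ ⁻¹' {w}) := hw.preimage hψc
  -- points over `w` are closed in `A`
  have h4 : ∀ p : A, ψ p = w → IsClosed ({p} : Set A) := by
    intro p hp
    apply isClosed_singleton_of_isLocallyClosed_singleton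
    have : ({p} : Set A) = closure {p} ∩ ψ ⁻¹' {w} := by
      ext q
      constructor
      · rintro rfl
        exact ⟨subset_closure rfl, hp⟩
      · rintro ⟨h5, h6⟩
        have h7 : p ⤳ q := specializes_iff_mem_closure.2 h5
        have h8 : g p.1 ⤳ g q.1 := (h7.map continuous_subtype_val).map hg
        have h9 : Points.ofPt a (g p.1) = Points.ofPt a (g q.1) :=
          (congrArg Subtype.val hp).trans (congrArg Subtype.val h6).symm
        have h10 := Decent.eq_of_specializes hX ha h8 h9 (hd _)
        exact (Subtype.ext (hginj h10)).symm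
    rw [this]
    exact isClosed_closure.isLocallyClosed.inter h3
  rw [Jac.isClosed_singleton_iff]
  intro w' hw'
  obtain ⟨p', rfl⟩ := hsurj w'
  obtain ⟨q, hq1, hq2⟩ := hlift w p'.1 (hw'.map continuous_subtype_val)
  have h5 := h4 q hq2
  rw [Jac.isClosed_singleton_iff] at h5
  rw [h5 p' ((subtype_specializes_iff _ _).2 hq1), hq2]

end K621.Punct
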