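import Groth.Agent.AlgSp.K616.Inv
import Groth.Agent.AlgSp.K621.SchemeEt
import Groth.Agent.AlgSp.K621.NoethTop
import Mathlib.AlgebraicGeometry.ZariskisMainTheorem
import Mathlib.AlgebraicGeometry.Noetherian
import Mathlib.Topology.NoetherianSpace

/-!
# Quasi-finite points of morphisms locally of finite type
-/

set_option autoImplicit false
universe u
open CategoryTheory CategoryTheory.Limits AlgebraicGeometry Topology TopologicalSpace Opposite
open AlgSp

namespace K621.QFin

open K621.SchemeEt K616.Inv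

/-- Quasi-finiteness at a point: the point is isolated in its fibre. -/
theorem quasiFiniteAt_iff_exists_open {U V : Scheme.{u}} {h : U ⟶ V} [LocallyOfFiniteType h] {x : U} :
    h.QuasiFiniteAt x ↔ ∃ O : Set U, IsOpen O ∧ x ∈ O ∧ ∀ y ∈ O, h y = h x → y = x := by
  rw [Scheme.Hom.quasiFiniteAt_iff_isOpen_singleton_asFiber, ← (h.fiberHomeo (h x)).isOpen_image,
    Set.image_singleton, isOpen_induced_iff]
  have hx : (h.fiberHomeo (h x)) (h.asFiber x) = ⟨x, rfl⟩ := by
    simp [Scheme.Hom.asFiber]
  rw [hx]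
  constructor
  · rintro ⟨O, hO, hOx⟩
    refine ⟨O, hO, ?_, ?_⟩
    · have : (⟨x, rfl⟩ : h ⁻¹' {h x}) ∈ Subtype.val ⁻¹' O := by rw [hOx]; rfl
      exact this
    · intro y hy hyx
      have : (⟨y, hyx⟩ : h ⁻¹' {h x}) ∈ Subtype.val ⁻¹' O := hy
      rw [hOx] at this
      exact congrArg Subtype.val this
  · rintro ⟨O, hO, hxO, hOx⟩
    refine ⟨O, hO, ?_⟩
    ext ⟨y, hy⟩
    constructor
    · intro h1
      exact Subtype.ext (hOx y h1 hy)
    · intro h1
      have : y = x := congrArg Subtype.val h1
      subst this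
      exact hxO

theorem quasiFiniteAt_etale_comp {U U' V : Scheme.{u}} (e : U' ⟶ U) [Etale e] (h : U ⟶ V)
    [LocallyOfFiniteType h] (x : U') : (e ≫ h).QuasiFiniteAt x ↔ h.QuasiFiniteAt (e x) := by
  constructor
  · rw [quasiFiniteAt_iff_exists_open, quasiFiniteAt_iff_exists_open]
    rintro ⟨O, hO, hxO, hOx⟩
    refine ⟨e '' O, e.isOpenMap _ hO, ⟨x, hxO, rfl⟩, ?_⟩
    rintro _ ⟨y, hy, rfl⟩ hyx
    rw [hOx y hy hyx]
  · intro h1
    have h2 : e.QuasiFiniteAt x := by
      have := locallyQuasiFinite_of_etale e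
      exact e.quasiFiniteAt x
    have h3 := RingHom.QuasiFinite.comp h2 h1
    rw [← CommRingCat.hom_comp, ← Scheme.Hom.stalkMap_comp] at h3
    exact h3

/-- The predicate "quasi-finite at the point" of the statements. -/
def QF (U V : Scheme.{u}) (h : U ⟶ V) (x : ↥U) : Prop :=
  ∃ W : U.Opens, x ∈ W ∧ LocallyQuasiFinite (W.ι ≫ h) ∧ LocallyOfFiniteType (W.ι ≫ h)

theorem qf_iff {U V : Scheme.{u}} (h : U ⟶ V) [LocallyOfFiniteType h] (x : ↥U) :
    QF U V h x ↔ h.QuasiFiniteAt x := by
  constructor
  · rintro ⟨W, hxW, h1, h2⟩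
    have h3 : (W.ι ≫ h).QuasiFiniteAt ⟨x, hxW⟩ := (W.ι ≫ h).quasiFiniteAt _
    exact Scheme.Hom.quasiFiniteAt_comp_iff_of_isOpenImmersion.1 h3
  · intro h1
    exact ⟨h.quasiFiniteLocus, h1, inferInstance, inferInstance⟩

theorem etInvOn_qf : EtInvOn @LocallyOfFiniteType QF := by
  intro U V U' V' h h' p q hp hq hh hh' w x
  have hq' := locallyQuasiFinite_of_etale q
  have h1 : LocallyOfFiniteType h := hh
  have h2 : LocallyOfFiniteType h' := hh'
  rw [qf_iff, qf_iff, ← quasiFiniteAt_etale_comp, w, Scheme.Hom.quasiFiniteAt_comp_iff]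

/-- No proper generizations. -/
def Min {U : Scheme.{u}} (x : U) : Prop := ∀ y : U, y ⤳ x → y = x

/-- (A) -/
theorem min_of_quasiFiniteAt {U V : Scheme.{u}} (h : U ⟶ V) [LocallyOfFiniteType h] {x : U}
    (hv : Min (h x)) (hq : h.QuasiFiniteAt x) : Min x := by
  intro y hy
  obtain ⟨O, hO, hxO, hOx⟩ := quasiFiniteAt_iff_exists_open.1 hq
  exact hOx y (hy.mem_open hO hxO) (hv _ (hy.map h.continuous))

/-- A Noetherian sober space without specializations is discrete. -/
theorem discreteTopology_of_noetherian {Z : Type*} [TopologicalSpace Z] [NoetherianSpace Z] [QuasiSober Z]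
    (h : ∀ x y : Z, x ⤳ y → x = y) : DiscreteTopology Z := by
  have h1 : ∀ z : Z, IsClosed ({z} : Set Z) := by
    intro z
    rw [← closure_eq_iff_isClosed]
    ext y
    rw [← specializes_iff_mem_closure]
    exact ⟨fun h' => (h _ _ h').symm, fun h' => by rw [Set.mem_singleton_iff.1 h']⟩
  have hT1 : T1Space Z := ⟨h1⟩
  have h2 : (Set.univ : Set Z).Finite := by
    have h3 : (Set.univ : Set Z) ⊆ ⋃ T ∈ irreducibleComponents Z, T := by
      intro z _
      exact Set.mem_iUnion₂.2 ⟨irreducibleComponent z, irreducibleComponent_mem_irreducibleComponents z,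
        mem_irreducibleComponent⟩
    refine Set.Finite.subset (Set.Finite.biUnion NoetherianSpace.finite_irreducibleComponents ?_) h3
    intro T hT
    obtain ⟨z, hz⟩ := QuasiSober.sober hT.1 (isClosed_of_mem_irreducibleComponents T hT)
    rw [← hz.def, (h1 z).closure_eq]
    exact Set.finite_singleton z
  have : Finite Z := Set.finite_univ_iff.1 h2
  infer_instance

/-- (B) -/
theorem quasiFiniteAt_of_min {U V : Scheme.{u}} (h : U ⟶ V) [LocallyOfFiniteType h] {x : U}
    (hmin : ∀ y : U, h y = h x → ∀ z : U, h z = h x → z ⤳ y → z = y) : h.QuasiFiniteAt x := by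
  rw [Scheme.Hom.quasiFiniteAt_iff_isOpen_singleton_asFiber]
  let F := h.fiber (h x)
  have hlf : LocallyOfFiniteType (h.fiberToSpecResidueField (h x)) :=
    MorphismProperty.pullback_snd _ _ inferInstance
  have hN : IsLocallyNoetherian F := LocallyOfFiniteType.isLocallyNoetherian (h.fiberToSpecResidueField (h x))
  obtain ⟨_, ⟨W, hW, rfl⟩, hxW, -⟩ := F.isBasis_affineOpens.exists_subset_of_mem_open
    (Set.mem_univ (h.asFiber x)) isOpen_univ
  have hWN : IsNoetherian (W : Scheme.{u}) := by
    have : IsAffine W := hW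
    exact {}
  have hNS : NoetherianSpace W := inferInstanceAs (NoetherianSpace (W : Scheme.{u}))
  have hQS : QuasiSober W := inferInstanceAs (QuasiSober (W : Scheme.{u}))
  have hd : DiscreteTopology W := by
    apply discreteTopology_of_noetherian
    intro z y hzy
    have h1 : z.1 ⤳ y.1 := hzy.map continuous_subtype_val
    have h2 := h1.map (h.fiberι (h x)).continuous
    have h3 : ∀ w : F, h (h.fiberι (h x) w) = h x := by
      intro w
      have : h.fiberι (h x) w ∈ Set.range (h.fiberι (h x)) := ⟨w, rfl⟩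
      rw [Scheme.Hom.range_fiberι] at this
      exact this
    have h4 := hmin _ (h3 y.1) _ (h3 z.1) h2
    exact Subtype.ext ((h.fiberι (h x)).isEmbedding.injective h4)
  have h5 : IsOpen ({⟨h.asFiber x, hxW⟩} : Set W) := isOpen_discrete _
  have h6 := W.isOpen.isOpenEmbedding_subtypeVal.isOpenMap _ h5
  have h7 : (Subtype.val '' ({⟨h.asFiber x, hxW⟩} : Set W) : Set F) = {h.asFiber x} := by
    ext z
    constructor
    · rintro ⟨w, hw, rfl⟩
      rw [Set.mem_singleton_iff.1 hw]
      rfl
    · rintro hz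
      exact ⟨⟨h.asFiber x, hxW⟩, rfl, hz.symm⟩
  have h8 : IsOpen ({h.asFiber x} : Set F) := by
    convert h6 using 1
    exact h7.symm
  exact h8

/-- (C) -/
theorem min_of_forall_min {U V : Scheme.{u}} (h : U ⟶ V) [LocallyOfFiniteType h] {x : U}
    (hv : Min (h x)) (hq : ∀ y : U, h y = h x → Min y → h.QuasiFiniteAt y) : Min x := by
  -- a maximal generization of `x`
  obtain ⟨η, hη, hηx⟩ : ∃ η : U, Min η ∧ η ⤳ x := by
    obtain ⟨η, hη⟩ := QuasiSober.sober (irreducibleComponent_mem_irreducibleComponents x).1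
      (isClosed_of_mem_irreducibleComponents _ (irreducibleComponent_mem_irreducibleComponents x))
    refine ⟨η, ?_, ?_⟩
    · intro y hy
      have h1 : irreducibleComponent x ⊆ closure {y} := by
        rw [← hη.def]
        exact closure_minimal (Set.singleton_subset_iff.2 (specializes_iff_mem_closure.1 hy)) isClosed_closure
      have h2 := (irreducibleComponent_mem_irreducibleComponents x).2
        (isIrreducible_singleton.closure : IsIrreducible (closure {y})) h1
      have h3 : y ∈ closure {η} := by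
        rw [hη.def]
        exact h2 (subset_closure rfl)
      exact (hy.antisymm (specializes_iff_mem_closure.2 h3)).eq
    · rw [specializes_iff_mem_closure, hη.def]
      exact mem_irreducibleComponent
  have h1 : h η = h x := hv _ (hηx.map h.continuous)
  have h2 := (hq η h1 hη).isClopen_singleton_asFiber
  -- `x` is a specialization of `η` in the fibre
  have h3 : x = η := by
    have h4 : h.fiberHomeo (h η) (h.asFiber η) ⤳ ⟨x, h1.symm⟩ := by
      have : h.fiberHomeo (h η) (h.asFiber η) = ⟨η, rfl⟩ := by simp [Scheme.Hom.asFiber]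
      rw [this, subtype_specializes_iff]
      exact hηx
    have h5 := h4.map (h.fiberHomeo (h η)).symm.continuous
    rw [Homeomorph.symm_apply_apply] at h5
    have h6 : (h.fiberHomeo (h η)).symm ⟨x, h1.symm⟩ ∈ ({h.asFiber η} : Set _) :=
      h5.mem_closed h2.isClosed rfl
    have h7 : (h.fiberHomeo (h η)) (h.asFiber η) = ⟨x, h1.symm⟩ := by
      rw [← Set.mem_singleton_iff.1 h6, Homeomorph.apply_symm_apply]
    have h8 : h.fiberHomeo (h η) (h.asFiber η) = ⟨η, rfl⟩ := by simp [Scheme.Hom.asFiber]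
    rw [h8] at h7
    exact (congrArg Subtype.val h7).symm
  rw [h3]
  exact hη

end K621.QFin
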