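import Groth.Agent.AlgSp.K621.Base
import Groth.Agent.AlgSp.K621.SchemeEt
import Groth.Agent.AlgSp.K613.Unram
import Groth.Agent.AlgSp.K622.GrpQuot
import Groth.Agent.Desc.MorDescent
import Mathlib.AlgebraicGeometry.ZariskisMainTheorem

/-!
# Finite quotient presentations over an affine scheme

`repWith_finite`: an algebraic space `F` over an affine `V` with an étale surjective chart `U ⟶ F` such that `U` and
`U ×_F U` are finite over `V` is (representable and) finite over `V`.
-/

set_option autoImplicit false
universe u
open CategoryTheory CategoryTheory.Limits AlgebraicGeometry Topology TopologicalSpace Opposite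
open AlgSp

namespace K621.QuotFin

open K621.Base K621.SchemeEt

variable {S : Scheme.{u}} {F : Sp S} {V U R : Over S}

/-- The map `U ×_F U ⟶ U ×_V U` is a monomorphism. -/
theorem mono_lift {q : (yon S).obj U ⟶ F} {s t : R ⟶ U}
    (sq : IsPullback ((yon S).map t) ((yon S).map s) q q) {h : U ⟶ V} (hst : t ≫ h = s ≫ h) :
    Mono (pullback.lift t s hst) := by
  refine ⟨fun {W} x y hxy => ?_⟩
  apply (yon S).map_injective
  apply sq.hom_ext
  · rw [← Functor.map_comp, ← Functor.map_comp]
    have := congrArg (· ≫ pullback.fst h h) hxy
    simp only [Category.assoc, pullback.lift_fst] at this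
    rw [this]
  · rw [← Functor.map_comp, ← Functor.map_comp]
    have := congrArg (· ≫ pullback.snd h h) hxy
    simp only [Category.assoc, pullback.lift_snd] at this
    rw [this]

/-- `U ×_F U` is separated over an affine scheme `V` when `U` is affine. -/
theorem isSeparated_rel {q : (yon S).obj U ⟶ F} {s t : R ⟶ U}
    (sq : IsPullback ((yon S).map t) ((yon S).map s) q q) {h : U ⟶ V} (hst : t ≫ h = s ≫ h)
    [IsSeparated h.left] : IsSeparated (s ≫ h).left := by
  have h3 : pullback.lift t s hst ≫ pullback.snd h h ≫ h = s ≫ h := by
    rw [← Category.assoc, pullback.lift_snd]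
  have h4 := congrArg (fun z => z.left) h3
  change (pullback.lift t s hst).left ≫ (pullback.snd h h).left ≫ h.left = (s ≫ h).left at h4
  rw [← h4]
  have h6 := (IsPullback.of_hasPullback h h).map (Over.forget S)
  have h7 : IsSeparated (pullback.snd h h).left := MorphismProperty.of_isPullback (P := @IsSeparated) h6 ‹_›
  have h9 := mono_lift sq hst
  have h10 : Mono (pullback.lift t s hst).left := K613.Unram.mono_left _
  infer_instance

theorem repWith_finite (hF : IsAlgSpace F) {g : F ⟶ (yon S).obj V} (hg : LocP @LocallyOfFiniteType g)
    {q : (yon S).obj U ⟶ F} (hqe : RepWith @Etale q) (hqs : RepWith @Surjective q) {s t : R ⟶ U}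
    (sq : IsPullback ((yon S).map t) ((yon S).map s) q q) {h : U ⟶ V} (hh : q ≫ g = (yon S).map h)
    [IsAffine V.left] [IsFinite h.left] [IsFinite (s ≫ h).left] : RepWith @IsFinite g := by
  have hUa : IsAffine U.left := isAffine_of_isAffineHom h.left
  have hsh : IsFinite (s.left ≫ h.left) := ‹IsFinite (s ≫ h).left›
  have hsf : IsFinite s.left := IsFinite.of_comp s.left h.left
  have hse : Etale s.left := hqe.2 _ _ _ sq
  have hst : t ≫ h = s ≫ h := by
    apply (yon S).map_injective
    rw [Functor.map_comp, Functor.map_comp, ← hh, ← Category.assoc, ← Category.assoc, sq.w]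
  obtain ⟨Z, p, m, hp1, hp2, hp3, hp4, hp5, hm, hmono⟩ := K622.GrpQuot.exists_quot sq hsf inferInstance inferInstance
    (fun x => ⟨⊤, isAffineOpen_top _, fun _ _ => trivial⟩)
  have hq : K613.Cover.FSurj q := (K613.Cover.ESurj.of_repWith hqe hqs).fSurj
  have hiso : IsIso m := by
    have hes : K613.Cover.FSurj m := K613.Cover.FSurj.of_comp (b' := (yon S).map p) (by rw [hm]; exact hq)
    exact hes.isIso_of_mono
  obtain ⟨k, hk⟩ := (yon S).map_surjective (m ≫ g)
  have hpk : p ≫ k = h := by
    apply (yon S).map_injective
    rw [Functor.map_comp, hk, ← Category.assoc, hm, hh]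
  have hpk' : p.left ≫ k.left = h.left := congrArg (fun z => z.left) hpk
  -- `Z ⟶ V` is locally of finite type
  have hlft : LocallyOfFiniteType k.left := by
    refine hg m (𝟙 _) k (MorphismProperty.of_isIso (P := RepWith @Etale) m) (repWith_id _ _) ?_
    rw [hk, Category.comp_id]
  -- separated
  have hsep : IsSeparated k.left := by
    rw [← isSeparatedMor_yon_map_iff]
    have := Groth.Agent.Desc.MorDescent.descendsAlong_isClosedImmersion.{u}
    have hd : MorphismProperty.DescendsAlong @IsClosedImmersion K613.Cover.fppf.{u} := inferInstance
    have h1 : RepWith @IsClosedImmersion (pullback.diagonal g) := by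
      refine K613.Unram.repWith_diagonal_of_chart hq (K613.Diag.representable_diagonal hF.diag g) hh sq hst ?_
      have h2 : IsFinite ((pullback.lift t s hst).left ≫ (pullback.snd h h ≫ h).left) := by
        have h3 : pullback.lift t s hst ≫ pullback.snd h h ≫ h = s ≫ h := by
          rw [← Category.assoc, pullback.lift_snd]
        have h4 := congrArg (fun z => z.left) h3
        change (pullback.lift t s hst).left ≫ (pullback.snd h h ≫ h).left = (s ≫ h).left at h4
        rw [h4]
        infer_instance
      have h5 : IsSeparated (pullback.snd h h ≫ h).left := by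
        have h6 := (IsPullback.of_hasPullback h h).map (Over.forget S)
        have h7 : IsFinite (pullback.snd h h).left := MorphismProperty.of_isPullback (P := @IsFinite) h6 ‹_›
        change IsSeparated ((pullback.snd h h).left ≫ h.left)
        infer_instance
      have h8 : IsFinite (pullback.lift t s hst).left := IsFinite.of_comp _ (pullback.snd h h ≫ h).left
      have h9 := mono_lift sq hst
      have h10 : Mono (pullback.lift t s hst).left := K613.Unram.mono_left _
      exact (IsClosedImmersion.iff_isFinite_and_mono _).2 ⟨h8, h10⟩
    have h11 : (yon S).map k = m ≫ g := hk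
    rw [h11]
    refine K613.Diag.repWith_diagonal_comp ?_ h1
    have h12 : IsIso (pullback.diagonal m) := inferInstance
    exact MorphismProperty.of_isIso (P := RepWith @IsClosedImmersion) _
  have huc : UniversallyClosed k.left := by
    have : UniversallyClosed (p.left ≫ k.left) := by rw [hpk']; infer_instance
    exact UniversallyClosed.of_comp_surjective p.left k.left
  have hqc : QuasiCompact k.left := inferInstance
  have hprop : IsProper k.left := {}
  have hlqf : LocallyQuasiFinite k.left := by
    refine LocallyQuasiFinite.of_finite_preimage_singleton _ fun x => ?_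
    have h1 : (h.left ⁻¹' {x}).Finite := h.left.finite_preimage_singleton x
    refine (h1.image p.left).subset ?_
    intro z hz
    obtain ⟨w, rfl⟩ := p.left.surjective z
    refine ⟨w, ?_, rfl⟩
    rw [← hpk']
    exact hz
  have hfin : IsFinite k.left := IsFinite.of_isProper_of_locallyQuasiFinite _
  have : g = inv m ≫ (yon S).map k := by rw [hk, IsIso.inv_hom_id_assoc]
  rw [this]
  exact repWith_comp (MorphismProperty.of_isIso (P := RepWith @IsFinite) _) ((repWith_yon_map_iff _ _).2 hfin)

end K621.QuotFin
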